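import Cfsg.Agent.H16.Misc

/-! Simple quotients. -/

set_option autoImplicit false

namespace H26

open Subgroup H16

variable {G : Type*} [Group G]

theorem simple_quot_of_max {K : Subgroup G} [K.Normal] (h1 : K ≠ ⊤)
    (hm : ∀ L : Subgroup G, L.Normal → K ≤ L → L = K ∨ L = ⊤) : IsSimpleGroup (G ⧸ K) := by
  have : Nontrivial (G ⧸ K) := QuotientGroup.nontrivial_iff.2 h1
  refine ⟨fun L hL => (hm (L.comap (QuotientGroup.mk' K)) inferInstance
    (QuotientGroup.le_comap_mk' K L)).imp (fun e => ?_) fun e => ?_⟩ <;>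
    apply comap_injective (QuotientGroup.mk'_surjective K)
  · rw [e, MonoidHom.comap_bot, QuotientGroup.ker_mk']
  · rw [e, comap_top]

theorem exists_simple_quot (G : Type*) [Group G] [Finite G] [Nontrivial G] :
    ∃ (K : Subgroup G) (_ : K.Normal), IsSimpleGroup (G ⧸ K) := by
  obtain ⟨K, -, ⟨hn, h1⟩, hm⟩ := exists_max_of (C := fun K : Subgroup G => K.Normal ∧ K ≠ ⊤)
    (X := ⊥) ⟨inferInstance, bot_ne_top⟩
  exact ⟨K, hn, simple_quot_of_max h1 fun L hL h =>
    or_iff_not_imp_right.2 fun e => hm L ⟨hL, e⟩ h⟩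

theorem card_comap_surj {H : Type*} [Group H] {f : G →* H} (hf : Function.Surjective f)
    (K : Subgroup H) : Nat.card (K.comap f) = Nat.card f.ker * Nat.card K := by
  let g : K.comap f →* K := f.subgroupComap K
  have hg : Function.Surjective g := f.subgroupComap_surjective_of_surjective K hf
  have : g.ker = f.ker.subgroupOf (K.comap f) := by
    ext x
    rw [MonoidHom.mem_ker, mem_subgroupOf, MonoidHom.mem_ker]
    exact ⟨fun h => congrArg Subtype.val h, fun h => Subtype.ext h⟩
  rw [← g.ker.index_mul_card, index_ker, MonoidHom.range_eq_top.2 hg, card_top, mul_comm, this,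
    Nat.card_congr (subgroupOfEquivOfLe (ker_le_comap f K)).toEquiv]

end H26
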