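import Cfsg.Agent.H26.ZS15

/-!
The classification of the simple Zassenhaus groups.
-/

set_option autoImplicit false
set_option linter.unusedSectionVars false
set_option linter.style.haveILetI false

namespace H26

open MulAction Cfsg
open scoped MatrixGroups

namespace Zas

variable {G Ω : Type*} [Group G] [MulAction G Ω] (hZ : Zas G Ω) {a b : Ω} {H : Subgroup G}
  [Finite G] [Finite Ω]
include hZ

theorem half_of_even [IsSimpleGroup G] (hK : Ker a H) (hab : b ≠ a)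
    (he : Even (Nat.card (D2 G a b))) : Nat.card H = 2 * Nat.card (D2 G a b) + 1 ∧
      ∀ s ∈ Swap G a b, s * s = 1 ∧ ∀ d ∈ D2 G a b, s * d * s⁻¹ = d⁻¹ := by
  have h1 := hZ.z3.card_le_of_even hab he
  rw [hK.card_Ω hab] at h1
  exact (hZ.of_comm hK hab (hZ.z3.comm_of_le hK hab (by omega))).resolve_left fun h =>
    hZ.z3.not_simple (hZ.z3.three_trans_of_card hK hab h) hab he ‹_›

theorem psl_of_even [IsSimpleGroup G] (hK : Ker a H) (hab : b ≠ a)
    (he : Even (Nat.card (D2 G a b))) : ∃ (K : Type) (_ : Field K) (_ : Fintype K),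
      Fintype.card K = Nat.card H ∧ ringChar K ≠ 2 ∧ Nonempty (G ≃* PSL(2, K)) := by
  obtain ⟨h1, h2⟩ := hZ.half_of_even hK hab he
  obtain ⟨s, hs, h3⟩ := hZ.z3.exists_swap hab
  exact hZ.z3.psl_of_half hK hab h1 hs h3 (h2 s hs).2

theorem three_lt [IsSimpleGroup G] (hK : Ker a H) : 3 < Nat.card H := by
  obtain ⟨b, hab⟩ := hZ.exists_ne a
  have h1 := H2.two_le_card_of_ne_bot (hZ.D_ne_bot hab)
  have h2 := H2.two_le_card_of_ne_bot (hZ.z3.ker_ne_bot hK hab (hZ.D_ne_bot hab))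
  have h3 := Nat.le_of_dvd (by omega) (hZ.z3.dvd hK hab)
  rcases Nat.even_or_odd (Nat.card (D2 G a b)) with he | ⟨k, hk⟩
  · have := (hZ.half_of_even hK hab he).1; omega
  · omega

theorem psl_of_comm [IsSimpleGroup G] (hK : Ker a H) (hc : IsMulCommutative H) :
    ∃ (K : Type) (_ : Field K) (_ : Fintype K), Fintype.card K = Nat.card H ∧
      Nonempty (G ≃* PSL(2, K)) := by
  obtain ⟨b, hab⟩ := hZ.exists_ne a
  rcases Nat.even_or_odd (Nat.card H) with he | ho
  · exact hZ.psl_of_comm_even hK hc he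
  rcases hZ.three_or_psl hK hc with h3 | ⟨K, _, _, h1, -, h2⟩
  · have := hZ.z3.card_of_three h3 hK hab (hZ.z3.ker_ne_bot hK hab (hZ.D_ne_bot hab))
    rw [this, Nat.odd_add_one, Nat.not_odd_iff_even] at ho
    exact absurd ‹_› (hZ.z3.not_simple h3 hab ho)
  · exact ⟨K, inferInstance, inferInstance, h1, h2⟩

/-- the classification of the simple Zassenhaus groups -/
theorem simple_strong [IsSimpleGroup G] : (∃ (F : Type) (_ : Field F) (_ : Fintype F),
    3 < Fintype.card F ∧ Nat.card Ω = Fintype.card F + 1 ∧ Nonempty (G ≃* PSL(2, F))) ∨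
      Lie.IsoSuzuki G := by
  obtain ⟨a, b, hab⟩ := hZ.exists_pair
  obtain ⟨H, hK⟩ := hZ.z3.exists_ker hab
  by_cases hc : IsMulCommutative H
  · obtain ⟨K, _, _, h1, h2⟩ := hZ.psl_of_comm hK hc
    exact Or.inl ⟨K, inferInstance, inferInstance, h1 ▸ hZ.three_lt hK, h1 ▸ hK.card_Ω hab, h2⟩
  · obtain ⟨m, -, -, -, h, -⟩ := hZ.suzuki hK hab hc
    exact Or.inr h

theorem cyclic_inv [IsSimpleGroup G] (hab : b ≠ a) : IsCyclic (D2 G a b) ∧
    ∀ s ∈ Swap G a b, s * s = 1 ∧ ∀ d ∈ D2 G a b, s * d * s⁻¹ = d⁻¹ := by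
  rcases Nat.even_or_odd (Nat.card (D2 G a b)) with he | ho
  · obtain ⟨H, hK⟩ := hZ.z3.exists_ker hab
    obtain ⟨h1, h2⟩ := hZ.half_of_even hK hab he
    obtain ⟨s, hs, -⟩ := hZ.z3.exists_swap hab
    obtain ⟨K, _, _, τ, χ, h⟩ := hZ.z3.exists_coord hK hab
      (hZ.z3.ker_ne_bot hK hab (hZ.D_ne_bot hab)) (by omega) (Z3.comm_of_inverts (h2 s hs).2)
    exact ⟨isCyclic_of_injective h.hom fun d d' e => Subtype.ext
      (hZ.z3.χ_inj hK hab h le_rfl d.2 d'.2 (congrArg Units.val e)), h2⟩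
  · have h := hZ.zo hab ho
    exact ⟨h.cyclic hab, fun s hs => ⟨h.swap_sq hab hs, fun d hd =>
      hZ.z3.inverts_of_simple hab ho hs hd⟩⟩

end Zas

end H26
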