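import Cfsg.Agent.H26.Top4
import Cfsg.Agent.H10.Act

/-! Transitivity on the maximal `E`-invariant `p`-subgroups. -/

set_option autoImplicit false
set_option linter.unusedSectionVars false

namespace H26.Top

open Subgroup H10 H2.KD
open H5 (oppOf)
open scoped commutatorElement

universe u
variable {G : Type u} [Group G] [Finite G] {E V : Subgroup G} {p : ℕ}

theorem two_in {B : Subgroup G} (k : ∀ y ∈ E, ∀ e ∈ E, y ∉ B → e ∉ B → e * y ∈ B) {a b : G}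
    (ha : a ∈ E) (hb : b ∈ E) : a ∈ B ∨ b ∈ B ∨ b * a ∈ B := by
  by_cases aB : a ∈ B
  · exact Or.inl aB
  by_cases bB : b ∈ B
  · exact Or.inr (Or.inl bB)
  exact Or.inr (Or.inr (k a ha b hb aB bB))

theorem ne_one_of_ne (h : HD E V) {a b : G} (hb : b ∈ E) (ab : a ≠ b) : b * a ≠ 1 := fun e =>
  ab (mul_left_cancel (e.trans (h.e2 b hb).symm))

theorem ex_vB (h : HD E V) {B : Subgroup G} (k : ∀ y ∈ E, ∀ e ∈ E, y ∉ B → e ∉ B → e * y ∈ B) :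
    ∃ w ∈ V, w ≠ 1 ∧ w ∈ B := by
  obtain ⟨a, ha, b, hb, a1, b1, ab⟩ := ex_v h
  rcases two_in k (h.le ha) (h.le hb) with c | c | c
  exacts [⟨a, ha, a1, c⟩, ⟨b, hb, b1, c⟩, ⟨_, V.mul_mem hb ha, ne_one_of_ne h (h.le hb) ab, c⟩]

theorem ex_uB (h : HD E V) {B B' : Subgroup G} (hB : B ≤ E)
    (k : ∀ y ∈ E, ∀ e ∈ E, y ∉ B → e ∉ B → e * y ∈ B)
    (k' : ∀ y ∈ E, ∀ e ∈ E, y ∉ B' → e ∉ B' → e * y ∈ B') : ∃ w, w ≠ 1 ∧ w ∈ B ∧ w ∈ B' := by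
  obtain ⟨a, ha, a1, aB⟩ := ex_vB h k
  obtain ⟨b, bV, bB⟩ : ∃ b, b ∉ V ∧ b ∈ B := by
    obtain ⟨w, hw, w1, -⟩ := ex_w h E.one_mem
    obtain ⟨s, hs, s1, s2⟩ := ex_w h hw
    rcases two_in k hw hs with c | c | c
    exacts [⟨w, w1, c⟩, ⟨s, s1, c⟩, ⟨_, s2, c⟩]
  rcases two_in k' (hB aB) (hB bB) with c | c | c
  exacts [⟨a, a1, aB, c⟩, ⟨b, fun e => bV (e ▸ V.one_mem), bB, c⟩,
    ⟨_, ne_one_of_ne h (hB bB) fun e => bV (e ▸ ha), B.mul_mem bB aB, c⟩]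

theorem tr (h : HD E V) [hp : Fact p.Prime] (p2 : p ≠ 2) {N X1 X2 : Subgroup G} (hN : E ≤ N)
    (m1 : MI p E N X1) (m2 : MI p E N X2) : ∃ n ∈ N, n ∈ NN(E) ∧ cj n X1 = X2 := by
  induction N using H5.subgroup_lt_induction generalizing X1 X2 with
  | h N ihN => ?_
  suffices H : ∀ I X1 X2 : Subgroup G, X1 ⊓ X2 = I → MI p E N X1 → MI p E N X2 →
      ∃ n ∈ N, n ∈ NN(E) ∧ cj n X1 = X2 from H _ _ _ rfl m1 m2
  clear m1 m2 X1 X2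
  intro I
  induction I using H5.subgroup_gt_induction with
  | h I ihI => ?_
  intro X1 X2 hI m1 m2
  by_cases e12 : X1 = X2
  · exact ⟨1, N.one_mem, one_mem _, by rw [cj_one, e12]⟩
  have I1 : I < X1 := lt_of_le_of_ne (hI ▸ inf_le_left) fun e =>
    e12 (m1.2.2.2 X2 m2.1 m2.2.1 m2.2.2.1 (e ▸ hI ▸ inf_le_right)).symm
  have I2 : I < X2 := lt_of_le_of_ne (hI ▸ inf_le_right) fun e =>
    e12 (m2.2.2.2 X1 m1.1 m1.2.1 m1.2.2.1 (e ▸ hI ▸ inf_le_left))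
  have nI : E ≤ NN(I) := hI ▸ le_NN_inf m1.2.2.1 m2.2.2.1
  have IN : I ≤ N := I1.le.trans m1.1
  have oI : Odd (Nat.card I) := odd_of_p p2 (m1.2.1.to_le I1.le)
  have link : ∀ {Y1 Y2 Z : Subgroup G} {n : G}, I < Y1 → Y1 ≤ X1 → I < Y2 → Y2 ≤ X2 → Z ≤ N →
      IsPGroup p Z → E ≤ NN(Z) → n ∈ N → n ∈ NN(E) → Y1 ≤ Z → Y2 ≤ cj n Z →
      ∃ n ∈ N, n ∈ NN(E) ∧ cj n X1 = X2 := by
    intro Y1 Y2 Z n a1 a2 a3 a4 a5 a6 a7 a8 a9 b1 b2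
    obtain ⟨X, m, hX⟩ := mi_ext a5 a6 a7
    have m' := mi_cj m a9
    rw [cj_eq_of_mem a8] at m'
    obtain ⟨s, s1, s2, s3⟩ := ihI _ (a1.trans_le (le_inf a2 (b1.trans hX))) _ _ rfl m1 m
    obtain ⟨t, t1, t2, t3⟩ := ihI _ (a3.trans_le (le_inf (b2.trans (cj_mono n hX)) a4)) _ _ rfl m' m2
    exact ⟨t * n * s, mul_mem (mul_mem t1 a8) s1, mul_mem (mul_mem t2 a9) s2, by
      rw [cj_mul, cj_mul, s3, t3]⟩
  have sub : ∀ {Y1 Y2 M : Subgroup G}, I < Y1 → Y1 ≤ X1 → I < Y2 → Y2 ≤ X2 → E ≤ NN(Y1) →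
      E ≤ NN(Y2) → Y1 ≤ M → Y2 ≤ M → M < N → E ≤ M → ∃ n ∈ N, n ∈ NN(E) ∧ cj n X1 = X2 := by
    intro Y1 Y2 M a1 a2 a3 a4 a5 a6 a7 a8 a9 b
    obtain ⟨Z1, z1, l1⟩ := mi_ext a7 (m1.2.1.to_le a2) a5
    obtain ⟨Z2, z2, l2⟩ := mi_ext a8 (m2.2.1.to_le a4) a6
    obtain ⟨n, n1, n2, n3⟩ := ihN M a9 b z1 z2
    exact link a1 a2 a3 a4 (z1.1.trans a9.le) z1.2.1 z1.2.2.1 (a9.le n1) n2 l1 (n3 ▸ l2)
  have kn : ∀ {g : G} {Y : Subgroup G}, g ∈ NN(E) → E ≤ NN(Y) → E ≤ NN(cj g Y) := fun hg h => by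
    rw [← cj_normalizer, ← cj_eq_of_mem_NN hg]; exact cj_mono _ h
  have oddl : ∀ {Y1 Y2 J : Subgroup G} {n : G}, I < Y1 → Y1 ≤ X1 → I < Y2 → Y2 ≤ X2 → E ≤ NN(Y1) →
      E ≤ NN(Y2) → n ∈ N → n ∈ NN(E) → cj n Y1 ≤ J → Y2 ≤ J → J ≤ N → Odd (Nat.card J) →
      E ≤ NN(J) → ∃ n ∈ N, n ∈ NN(E) ∧ cj n X1 = X2 := by
    intro Y1 Y2 J n a1 a2 a3 a4 a5 a6 a7 a8 a9 b1 b2 b3 b4
    obtain ⟨Z1, z1, l1⟩ := mi_ext a9 (isPGroup_cj n (m1.2.1.to_le a2)) (kn a8 a5)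
    obtain ⟨Z2, z2, l2⟩ := mi_ext b1 (m2.2.1.to_le a4) a6
    obtain ⟨c, hc, e⟩ := mi_odd h b3 b4 z1 z2
    refine link a1 a2 a3 a4 (Z := cj n⁻¹ Z1) (cj_le_of_mem (inv_mem a7) (z1.1.trans b2))
      (isPGroup_cj _ z1.2.1) (kn (inv_mem a8) z1.2.2.1) (mul_mem (b2 hc.1) a7)
      (mul_mem (CC_le_NN E hc.2) a8) (cj_le_iff.1 l1) ?_
    rwa [cj_mul, cj_cj_inv, e]
  by_cases hNI : N ≤ NN(I)
  swap
  · exact sub (lt_inf_NN m1.2.1 I1) inf_le_left (lt_inf_NN m2.2.1 I2) inf_le_left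
      (le_NN_inf m1.2.2.1 (le_NN_NN nI)) (le_NN_inf m2.2.2.1 (le_NN_NN nI))
      (inf_le_inf_right _ m1.1) (inf_le_inf_right _ m2.1)
      (lt_of_le_of_ne inf_le_left fun e => hNI (e ▸ inf_le_right)) (le_inf hN nI)
  have exB : ∀ {X : Subgroup G}, MI p E N X → I < X → ∃ B : Subgroup G, B ≤ E ∧
      (∀ y ∈ E, ∀ e ∈ E, y ∉ B → e ∉ B → e * y ∈ B) ∧ I < I ⊔ (X ⊓ CC(B)) ∧
        I ⊔ (X ⊓ CC(B)) ≤ X ∧ E ≤ NN(X ⊓ CC(B)) := fun {X} m a => by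
    by_contra! hn
    refine a.not_ge (gen h (odd_of_p p2 m.2.1) m.2.2.1 fun B b1 b2 => by_contra fun b3 => ?_)
    exact hn B b1 b2 (left_lt_sup.2 b3) (sup_le a.le inf_le_left)
      (le_NN_inf m.2.2.1 ((h.ec.trans (CC_anti b1)).trans (le_NN_self _)))
  obtain ⟨B1, b1, k1, c1, d1, f1⟩ := exB m1 I1
  obtain ⟨B2, b2, k2, c2, d2, f2⟩ := exB m2 I2
  have g1 := le_NN_sup nI f1
  have g2 := le_NN_sup nI f2
  have nN : E ≤ NN(N) := hN.trans (le_NN_self N)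
  by_cases hv : ∃ v1 ∈ V, v1 ≠ 1 ∧ v1 ∈ B1 ∧ ∃ n ∈ N, n ∈ NN(E) ∧ n * v1 * n⁻¹ ∈ B2
  · obtain ⟨v, hv, v1, vB, n, n1, n2, n3⟩ := hv
    obtain ⟨K, hK⟩ := h.h1 _ (nV h n2 hv) (fun e => v1 (by simpa using e))
    refine oddl c1 d1 c2 d2 g1 g2 n1 n2 (J := I ⊔ (K ⊓ N)) ?_ (sup_le_sup_left (le_inf
      (hK.2.2.2 _ (inf_le_right.trans (CEC n3)) (odd_of_p p2 (m2.2.1.to_le inf_le_left)) f2)
      (inf_le_left.trans m2.1)) _) (sup_le IN inf_le_right) ?_ (le_NN_sup nI (le_NN_inf hK.2.2.1 nN))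
    · rw [cj_sup, cj_eq_of_mem_NN (hNI n1)]
      refine sup_le_sup_left (le_inf (hK.2.2.2 _ ?_ ?_ (kn n2 f1))
        (cj_le_of_mem n1 (inf_le_left.trans m1.1))) _
      · rw [← cj_centralizer_singleton]; exact cj_mono n (inf_le_right.trans (CEC vB))
      · rw [card_cj]; exact odd_of_p p2 (m1.2.1.to_le inf_le_left)
    · rw [sup_comm]; exact odd_sup (inf_le_right.trans hNI) (odd_of_le inf_le_left hK.2.1) oI
  push Not at hv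
  obtain ⟨u, u1, uB1, uB2⟩ := ex_uB h b1 k1 k2
  have hu := b1 uB1
  have huV : u ∉ V := fun e => hv u e u1 uB1 1 N.one_mem (one_mem _) (by simpa using uB2)
  by_cases hM : I ⊔ (N ⊓ centralizer {u}) = N
  swap
  · exact sub c1 d1 c2 d2 g1 g2 (sup_le_sup_left (inf_le_inf m1.1 (CEC uB1)) _)
      (sup_le_sup_left (inf_le_inf m2.1 (CEC uB2)) _)
      (lt_of_le_of_ne (sup_le IN inf_le_left) hM) ((le_inf hN (EC h hu)).trans le_sup_right)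
  have fx : N ⊓ NN(E) ≤ centralizer {u} := fun n hn => by
    obtain ⟨i, hi, c, hc, rfl⟩ := (mem_sup_of_NN' (inf_le_left.trans hNI)).1 (hM.ge hn.1)
    have q1 : i * c * u * (i * c)⁻¹ = i * u * i⁻¹ := by
      rw [mul_assoc i, mem_centralizer_singleton_iff.1 hc.2]; group
    have q2 : i * u * i⁻¹ * u⁻¹ ∈ E ⊓ I := ⟨E.mul_mem (q1 ▸ conj_mem_of_mem_NN hn.2 hu) (E.inv_mem hu), by
      rw [mul_assoc, mul_assoc, ← mul_assoc u]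
      exact I.mul_mem hi (conj_mem_of_mem_NN (nI hu) (I.inv_mem hi))⟩
    rw [disjoint_iff.1 (disjoint_of_coprime_natCard (cop h oI)), mem_bot, mul_inv_eq_one, ← q1,
      mul_inv_eq_iff_eq_mul] at q2
    exact mem_centralizer_singleton_iff.2 q2
  have hC : N ⊓ NN(E) ≤ CC(E) := fun x hx => by_contra fun hxc => by
    obtain ⟨v, a1, a2, a3⟩ := ex_vB h k1
    obtain ⟨w, a4, a5, a6⟩ := ex_vB h k2
    obtain ⟨i, hi⟩ := (three h hu huV ⟨fx hx, hx.2⟩ hxc).1 v a1 a2 w a4 a5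
    exact hv v a1 a2 a3 _ (pow_mem hx.1 i) (pow_mem hx.2 i) (hi ▸ a6)
  have sy : IsSylowIn 2 E N := by
    have s0 : IsSylowIn 2 ⊥ I := isSylowIn_of_not_dvd bot_le IsPGroup.of_bot (by
      rw [relIndex_bot_left]; exact fun e => Nat.not_even_iff_odd.2 oI (even_iff_two_dvd.2 e))
    have := ((h.h2 u hu huV).of_le (le_inf hN (EC h hu)) inf_le_right).sup s0
      (inf_le_left.trans hNI) (le_top.trans NN_bot.ge)
    rwa [sup_bot_eq, sup_comm, hM] at this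
  obtain ⟨a, ha, -, -, a1, -, -⟩ := ex_v h
  obtain ⟨K, hK⟩ := h.h1 a ha a1
  have nO : N ≤ NN(oppOf 2 N) := H5.self_le_normalizer_oppOf 2 N
  have q : ∀ {X : Subgroup G}, MI p E N X → X ≤ (K ⊓ N) ⊔ oppOf 2 N := fun {X} m => by
    have oX := odd_of_p p2 m.2.1
    rw [← Cfsg.Agent.S0026.result E X m.2.2.1 (cop h oX) (Or.inl (sol h)), sup_comm]
    refine sup_le_sup (le_inf (hK.2.2.2 _ (inf_le_right.trans (CEC (h.le ha)))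
      (odd_of_le inf_le_left oX) ((le_CC_symm inf_le_right).trans (CC_le_NN _)))
      (inf_le_left.trans m.1)) (commutator_le.2 fun d hd e he => ?_)
    exact zs sy h.ec he (fun n hn => by rw [← hC hn e he, mul_inv_cancel_right]) (m.1 hd)
  exact oddl I1 le_rfl I2 le_rfl m1.2.2.1 m2.2.2.1 N.one_mem (one_mem _) (by rw [cj_one]; exact q m1)
    (q m2) (sup_le inf_le_right (H5.oppOf_le 2 N)) (odd_sup (inf_le_right.trans nO)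
      (odd_of_le inf_le_left hK.2.1) (Nat.coprime_two_right.1 (H5.coprime_card_oppOf 2 _)))
    (le_NN_sup (le_NN_inf hK.2.2.1 nN) (hN.trans nO))

theorem tr_top (h : HD E V) : TR E := fun p hp p2 _ _ m1 m2 =>
  have := Fact.mk hp
  (tr (p := p) h p2 le_top m1 m2).imp fun _ k => k.2

/-- For `u ∈ E \ V` there is a largest `E`-invariant odd order subgroup of `C(u)`. -/
theorem top' (h : HD E V) {u : G} (hu : u ∈ E) (huV : u ∉ V) : ∃ K, TopI E u K :=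
  top h (tr_top h) hu huV

end H26.Top
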