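import Cfsg.Agent.H20.K9d
import Cfsg.Agent.H10.RO5

/-! The case of a large `Ω₁ Z(U)` in the analysis of a maximal 2-local `U : S₃`. -/

set_option autoImplicit false
set_option linter.unusedSectionVars false
set_option linter.unusedVariables false

namespace H26.Jh

open Subgroup Cfsg H10 H20.N9
open scoped commutatorElement

variable {G : Type*} [Group G] [Finite G] {q : ℕ} {L U : Subgroup G} {k s : G}

theorem relIndex_le_comm (V R : Subgroup G) {r : G} (hr : r ∈ R) :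
    (centralizer ({r} : Set G)).relIndex V ≤ Nat.card (⁅V, R⁆ : Subgroup G) := by
  let f : V ⧸ (centralizer ({r} : Set G)).subgroupOf V → (⁅V, R⁆ : Subgroup G) :=
    fun x => ⟨⁅(x.out : G), r⁆, commutator_mem_commutator x.out.2 hr⟩
  refine Nat.card_le_card_of_injective f fun a b e => ?_
  have e' : ⁅(a.out : G), r⁆ = ⁅(b.out : G), r⁆ := congrArg Subtype.val e
  rw [← QuotientGroup.out_eq' a, ← QuotientGroup.out_eq' b, QuotientGroup.eq, mem_subgroupOf,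
    mem_centralizer_singleton_iff]
  simp only [commutatorElement_def, mul_left_inj] at e'
  simp only [Subgroup.coe_mul, Subgroup.coe_inv]
  calc (a.out : G)⁻¹ * b.out * r = (a.out : G)⁻¹ * (b.out * r * (b.out : G)⁻¹) * b.out := by group
    _ = _ := by rw [← e']; group

theorem four_le (h : Hy G q) (d : H20.N9.S3 L U k s) (hV : 4 < Nat.card (ZO 2 U)) {r : G}
    (hr : r ∈ TT U s) (rU : r ∉ U) : 4 ≤ (centralizer ({r} : Set G)).relIndex (ZO 2 U) := by
  haveI : Fact (Nat.Prime 2) := ⟨Nat.prime_two⟩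
  have hu : r * s ∈ U := (d.mem_T.1 hr).resolve_left rU
  have hle : centralizer ({r} : Set G) ⊓ ZO 2 U ≤ ZO 2 U ⊓ centralizer ({s} : Set G) := by
    intro v hv
    refine ⟨hv.2, mem_centralizer_singleton_iff.2 ?_⟩
    have h1 : v * r = r * v := mem_centralizer_singleton_iff.1 hv.1
    have h2 : r * s * v = v * (r * s) := ZO_le_CC U hv.2 _ hu
    rw [← mul_assoc, h1, mul_assoc, mul_assoc] at h2
    exact (mul_left_cancel h2).symm
  have h1 := d.sq_le h (isPGroup_ZO (p := 2) U) (NN_le_NN_ZO U d.kN)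
  have h2 := Subgroup.card_le_of_le hle
  have h3 := card_inf_mul_relIndex (centralizer ({r} : Set G)) (ZO 2 U)
  obtain ⟨n, hn⟩ := IsPGroup.iff_card.1 (isPGroup_ZO (p := 2) U)
  have hpos : 0 < Nat.card (centralizer ({r} : Set G) ⊓ ZO 2 U : Subgroup G) := Nat.card_pos
  generalize Nat.card (centralizer ({r} : Set G) ⊓ ZO 2 U : Subgroup G) = c at h2 h3 hpos
  generalize (centralizer ({r} : Set G)).relIndex (ZO 2 U) = i at h3
  have h4 : c * c ≤ c * i := by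
    rw [h3]
    exact le_trans (Nat.mul_le_mul h2 h2) (by rw [← pow_two]; exact h1)
  have h5 : c ≤ i := Nat.le_of_mul_le_mul_left h4 hpos
  have h6 : i ≠ 3 := fun e => by
    have : 3 ∣ 2 ^ n := by rw [← hn, ← h3, e]; exact Dvd.intro_left _ rfl
    have := Nat.Prime.dvd_of_dvd_pow Nat.prime_three this
    omega
  by_contra h7
  have h8 : i ≤ 2 := by omega
  have : c * i ≤ 2 * 2 := Nat.mul_le_mul (h5.trans h8) h8
  omega

theorem rel_two (d : H20.N9.S3 L U k s) : U.relIndex (TT U s) = 2 := by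
  refine Subgroup.index_eq_two_iff.2 ⟨⟨s, d.sT⟩, fun b => ?_⟩
  simp only [mem_subgroupOf, Subgroup.coe_mul]
  rcases d.mem_T.1 b.2 with e | e
  · exact Or.inr ⟨e, fun e' => d.sU ((U.mul_mem_cancel_left e).1 e')⟩
  · exact Or.inl ⟨e, fun e' => d.sU ((U.mul_mem_cancel_left e').1 e)⟩

theorem e12 (h : Hy G q) (d : H20.N9.S3 L U k s) (hV : 4 < Nat.card (ZO 2 U)) {E : Subgroup G}
    (hE : E ≤ TT U s) : E1 (ZO 2 U) E ∧ E2 (ZO 2 U) E := by
  haveI : Fact (Nat.Prime 2) := ⟨Nat.prime_two⟩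
  have key : ∀ R ≤ E, ¬ R ≤ CC(ZO 2 U) → CC(ZO 2 U).relIndex R ≤ 2 ∧
      4 ≤ CC(R).relIndex (ZO 2 U) ∧ 4 ≤ Nat.card (⁅ZO 2 U, R⁆ : Subgroup G) := by
    intro R hR hn
    obtain ⟨r, hr, hr'⟩ := SetLike.not_le_iff_exists.1 hn
    have h4 := four_le h d hV (hE (hR hr)) fun e => hr' (le_CC_ZO U e)
    refine ⟨?_, h4.trans ?_, h4.trans (relIndex_le_comm _ _ hr)⟩
    · refine (relIndex_le_of_le_left (le_CC_ZO U) FiniteIndex.index_ne_zero).trans ?_
      rw [← rel_two d]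
      exact relIndex_le_of_le_right (hR.trans hE) FiniteIndex.index_ne_zero
    · exact relIndex_le_of_le_left (centralizer_le (Set.singleton_subset_iff.2 hr))
        FiniteIndex.index_ne_zero
  refine ⟨fun R h1 _ h3 => ?_, fun R h1 _ h3 => ?_⟩
  · obtain ⟨a, b, -⟩ := key R h1 h3
    calc _ ≤ 2 ^ 3 := Nat.pow_le_pow_left a 3
      _ < 4 ^ 2 := by norm_num
      _ ≤ _ := Nat.pow_le_pow_left b 2
  · obtain ⟨a, -, b⟩ := key R h1 h3
    omega

theorem jh (h : Hy G q) (F : Fac G) (d : H20.N9.S3 L U k s) (hV : 4 < Nat.card (ZO 2 U)) :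
    IsSylowIn 2 (TT U s) ⊤ ∧ JT (TT U s) ≤ U ∧
      ∀ X : Subgroup G, IsTwoLocal X → ¬ 3 ∣ Nat.card X → TT U s ≤ X → X ≤ L := by
  haveI : Fact (Nat.Prime 2) := ⟨Nat.prime_two⟩
  have VT : ZO 2 U ≤ TT U s := (ZO_le U).trans d.UT
  have V1 : ZO 2 U ≠ ⊥ := fun e => by rw [e, Subgroup.card_bot] at hV; omega
  have cU : ∀ X ≤ TT U s, X ≤ CC(ZO 2 U) → X ≤ U := fun X h1 h2 r hr => by
    by_contra rU
    have h4 := four_le h d hV (h1 hr) rU
    rw [relIndex_eq_one.2 fun v hv => mem_centralizer_singleton_iff.2 (h2 hr v hv)] at h4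
    omega
  have JC : JT (TT U s) ≤ CC(ZO 2 U) := (e12 h d hV le_rfl).1.J_le (elab_ZO U) VT
  have JU : JT (TT U s) ≤ U := cU _ (JT_le _) JC
  have VJ : ZO 2 U ≤ JT (TT U s) := le_JT_of_cent (elab_ZO U) VT (le_CC_symm JC)
  have NJ : NN(JT (TT U s)) = L := d.NN_eq (d.T2.to_le (JT_le _))
    (fun e => V1 (le_bot_iff.1 (e ▸ VJ))) (JT_eq_of_le JU d.UT ▸ le_NN_JT d.LN)
  have syl : IsSylowIn 2 (TT U s) ⊤ :=
    d.sylT.of_NN_le le_top (inf_le_right.trans (NJ ▸ le_NN_JT le_rfl))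
  refine ⟨syl, JU, fun X hX h3 hT g hg => ?_⟩
  have HU : H10.JH (TT U s) ≤ U := cU _ (JH_le _) (sSup_le fun E hE => le_CC_symm
    (hE.2.1 _ (VJ.trans hE.2.2) ((hE.1.trans d.TL).trans (le_NN_ZO d.LN)) (elab_ZO U)
      (e12 h d hV hE.1).1 (e12 h d hV hE.1).2))
  have e : H20.N9.JH (TT U s) = H10.JH U := (map_jHat _).trans (JH_eq_of_le HU d.UT).symm
  have NZ : NN(ZO 2 (H10.JH U)) = L := d.NN_eq (isPGroup_ZO _)
    (fun e => V1 (le_bot_iff.1 (e ▸ ZO_le_ZO_JH U))) (le_NN_ZO (le_NN_JH d.LN))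
  obtain ⟨c, hc, n, hn, rfl⟩ := (F X _ hX h3 (syl.of_le hT le_top)).2 g hg
  rw [e] at hc
  exact L.mul_mem (NZ ▸ centralizer_le_normalizer _ hc) (NJ ▸ hn)

end H26.Jh
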