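import Cfsg.Agent.H26.Jh
import Cfsg.Agent.H6.MaxCl
import Cfsg.Agent.H1.Hig2

/-! The case of a four-group `Ω₁ Z(U)` in the analysis of a maximal 2-local `U : S₃`. -/

set_option autoImplicit false
set_option linter.unusedSectionVars false
set_option linter.unusedVariables false

namespace H26V4a

open Subgroup Cfsg H10 H20.N9

variable {G : Type*} [Group G] [Finite G] {q : ℕ} {L U : Subgroup G} {k s : G}

theorem two_cases {H : Subgroup G} (h : Nat.card H ≤ 2) {z y : G} (hz : z ∈ H) (z1 : z ≠ 1)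
    (hy : y ∈ H) : y = 1 ∨ y = z := by
  classical
  by_contra hc
  rw [not_or] at hc
  haveI := Fintype.ofFinite H
  have : 2 < Fintype.card H := Fintype.two_lt_card_iff.2
    ⟨1, ⟨z, hz⟩, ⟨y, hy⟩, fun e => z1 (congrArg Subtype.val e).symm,
      fun e => hc.1 (congrArg Subtype.val e).symm, fun e => hc.2 (congrArg Subtype.val e).symm⟩
  rw [Nat.card_eq_fintype_card] at h
  omega

theorem card_le_four {S : Type*} [Group S] [Finite S] {a : S} (ha : (zpowers a).index = 2)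
    {A : Subgroup S} (hA : ∀ x ∈ A, x ^ 2 = 1) : Nat.card A ≤ 4 := by
  have h1 := card_inf_mul_relIndex (zpowers a) A
  have h2 : (zpowers a).relIndex A ≤ 2 := by
    rw [← ha, ← relIndex_top_right]
    exact relIndex_le_of_le_right le_top FiniteIndex.index_ne_zero
  haveI : IsCyclic (zpowers a ⊓ A : Subgroup S) := isCyclic_of_le inf_le_left
  have h3 : Nat.card (zpowers a ⊓ A : Subgroup S) ∣ 2 := by
    rw [← IsCyclic.exponent_eq_card]
    exact Monoid.exponent_dvd_of_forall_pow_eq_one fun x => Subtype.ext (hA _ x.2.2)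
  have h4 := Nat.le_of_dvd (by norm_num) h3
  rw [← h1]
  exact (Nat.mul_le_mul h4 h2).trans (by norm_num)

theorem rank_of_sylow {S : Subgroup G} (hS : IsSylowIn 2 S ⊤)
    (h : ∀ A ≤ S, IsElementaryAbelian 2 A → Nat.card A ≤ 4) : PRankLE 2 2 G := by
  haveI : Fact (Nat.Prime 2) := ⟨Nat.prime_two⟩
  intro A h1 h2
  have hA : IsElementaryAbelian 2 A := ⟨h1, h2⟩
  obtain ⟨g, -, hg⟩ := hS.exists_cj_le (elab_isPGroup hA) le_top
  rw [← card_cj g]
  exact h _ hg (elab_cj g hA)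

theorem p3 (h : Hy G q) (d : H20.N9.S3 L U k s) : H1.Hig.P3 U k :=
  H1.Hig.p3_of_fpf d.kN d.kkk fun x hx e => h.fpf d.k3 d.two hx (mul_inv_eq_iff_eq_mul.1 e).symm

theorem rel_le (d : H20.N9.S3 L U k s) {A : Subgroup G} (hA : A ≤ TT U s) :
    Nat.card A ≤ Nat.card (U ⊓ A : Subgroup G) * 2 := by
  rw [← card_inf_mul_relIndex U A, ← H26.Jh.rel_two d]
  exact Nat.mul_le_mul_left _ (relIndex_le_of_le_right hA FiniteIndex.index_ne_zero)

/-- the centre of `T` meets `V` in a group of order two -/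
theorem exists_z (h : Hy G q) (d : H20.N9.S3 L U k s) (hV : Nat.card (ZO 2 U) = 4) :
    ∃ z ∈ ZO 2 U, z ≠ 1 ∧ s * z = z * s ∧ (∀ y ∈ ZO 2 U, s * y = y * s → y = 1 ∨ y = z) ∧
      ∃ v ∈ ZO 2 U, s * v ≠ v * s := by
  haveI : Fact (Nat.Prime 2) := ⟨Nat.prime_two⟩
  have h1 := d.sq_le h (isPGroup_ZO (p := 2) U) (NN_le_NN_ZO U d.kN)
  have h2 : Nat.card (ZO 2 U ⊓ centralizer {s} : Subgroup G) ≤ 2 := by
    rw [hV] at h1
    nlinarith
  obtain ⟨v, hv, hs⟩ : ∃ v ∈ ZO 2 U, s * v ≠ v * s := by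
    by_contra hc
    have : ZO 2 U ≤ centralizer {s} := fun v hv => mem_centralizer_singleton_iff.2 (by
      by_contra e
      exact hc ⟨v, hv, fun e' => e e'.symm⟩)
    rw [inf_eq_left.2 this] at h2
    omega
  have hw : s * v * s⁻¹ ∈ ZO 2 U := conj_mem_of_mem_NN (NN_le_NN_ZO U d.sN) hv
  have vv : v * v = 1 := by rw [← pow_two]; exact (mem_ZO.1 hv).2.2
  have c : v * (s * v * s⁻¹) = s * v * s⁻¹ * v := ZO_le_CC U hw _ (ZO_le U hv)
  have hz : s * (v * (s * v * s⁻¹)) = v * (s * v * s⁻¹) * s := by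
    calc s * (v * (s * v * s⁻¹)) = s * (s * v * s⁻¹ * v) := by rw [c]
      _ = s * s * v * s⁻¹ * v := by group
      _ = v * (s * v * s⁻¹) * s := by
          rw [d.ss, one_mul, ← mul_assoc v, inv_mul_cancel_right, d.sinv, mul_assoc]
  have z1 : v * (s * v * s⁻¹) ≠ 1 := fun e => hs (by
    rw [← vv] at e
    exact mul_inv_eq_iff_eq_mul.1 (mul_left_cancel e))
  exact ⟨_, mul_mem hv hw, z1, hz, fun y hy e => two_cases h2
    ⟨mul_mem hv hw, mem_centralizer_singleton_iff.2 hz.symm⟩ z1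
    ⟨hy, mem_centralizer_singleton_iff.2 e.symm⟩, v, hv, hs⟩

theorem cent_le (h : Hy G q) (d : H20.N9.S3 L U k s) (hV : Nat.card (ZO 2 U) = 4) {r : G}
    (hr : r ∈ TT U s) (hc : r ∈ CC(ZO 2 U)) : r ∈ U := by
  haveI : Fact (Nat.Prime 2) := ⟨Nat.prime_two⟩
  obtain ⟨z, -, -, -, -, v, hv, hs⟩ := exists_z h d hV
  by_contra rU
  have hu : r * s ∈ U := (d.mem_T.1 hr).resolve_left rU
  have h1 : v * r = r * v := hc v hv
  have h2 : r * s * v = v * (r * s) := ZO_le_CC U hv _ hu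
  rw [← mul_assoc, h1, mul_assoc, mul_assoc] at h2
  exact hs (mul_left_cancel h2)

theorem NN_V (d : H20.N9.S3 L U k s) (hV : Nat.card (ZO 2 U) = 4) : NN(ZO 2 U) = L := by
  haveI : Fact (Nat.Prime 2) := ⟨Nat.prime_two⟩
  exact d.NN_eq (isPGroup_ZO U) (fun e => by rw [e, Subgroup.card_bot] at hV; omega)
    (le_NN_ZO d.LN)

theorem small (h : Hy G q) (d : H20.N9.S3 L U k s) (hV : Nat.card (ZO 2 U) = 4)
    (hU : Nat.card U ≤ 4) : PRankLE 2 2 G := by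
  haveI : Fact (Nat.Prime 2) := ⟨Nat.prime_two⟩
  have eU : ZO 2 U = U := Subgroup.eq_of_le_of_card_ge (ZO_le U) (by omega)
  obtain ⟨S, hS, hT⟩ := exists_isSylowIn_ge (L := ⊤) d.T2 le_top
  have cS : S ⊓ CC(ZO 2 U) ≤ U := fun r hr => cent_le h d hV
    (d.sylT.eq_of_le (Q := S ⊓ L) (hS.isPGroup.to_le inf_le_left) (le_inf hT d.TL) inf_le_right ▸
      (⟨hr.1, NN_V d hV ▸ CC_le_NN _ hr.2⟩ : r ∈ S ⊓ L)) hr.2
  have VS : ZO 2 U ≤ S := (ZO_le U).trans (d.UT.trans hT)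
  obtain ⟨z, hz, z1, -, hz2, v, hv, hs⟩ := exists_z h d hV
  have V1 : ZO 2 U ≠ ⊥ := fun e => by rw [e, Subgroup.card_bot] at hV; omega
  obtain ⟨y, hy, y1⟩ := (Subgroup.bot_or_exists_ne_one _).resolve_left
    (ZO_ne_bot hS.isPGroup fun e => V1 (le_bot_iff.1 (e ▸ VS)))
  have yC := ZO_le_CC S hy
  have yV : y ∈ ZO 2 U := eU.symm ▸ cS ⟨ZO_le S hy, CC_anti VS yC⟩
  have sS : s ∈ S := hT d.sT
  have cv : S ⊓ centralizer {v} ≤ U := by
    intro r hr
    refine cS ⟨hr.1, ?_⟩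
    have h1 : ZO 2 U ⊓ centralizer {r} = ZO 2 U := by
      by_contra hne
      have h2 := two_mul_card_le (lt_of_le_of_ne inf_le_left hne)
      rcases two_cases (H := ZO 2 U ⊓ centralizer {r}) (by omega)
        ⟨yV, mem_centralizer_singleton_iff.2 (yC r hr.1).symm⟩ y1
        ⟨hv, mem_centralizer_singleton_iff.2 (mem_centralizer_singleton_iff.1 hr.2).symm⟩
        with e | e
      · exact hs (by rw [e, mul_one, one_mul])
      · exact hs (by rw [e]; exact yC s sS)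
    intro x hx
    rw [← h1] at hx
    exact mem_centralizer_singleton_iff.1 hx.2
  have c4 : Nat.card (centralizer ({⟨v, VS hv⟩} : Set S)) ≤ 4 := by
    rw [← card_map_subtype]
    refine le_trans (Subgroup.card_le_of_le ?_) hU
    rintro _ ⟨x, hx, rfl⟩
    exact cv ⟨x.2, mem_centralizer_singleton_iff.2
      (congrArg Subtype.val (mem_centralizer_singleton_iff.1 hx))⟩
  rcases H6.taussky_aux _ S rfl hS.isPGroup ((H6.index_commutator_le_card_cent _).trans c4)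
    with hc | ⟨a, ha⟩
  · exact (hs (congrArg Subtype.val (hc.is_comm.comm (⟨s, sS⟩ : S) ⟨v, VS hv⟩))).elim
  refine rank_of_sylow hS fun A hA he => ?_
  rw [← Nat.card_congr (subgroupOfEquivOfLe hA).toEquiv]
  exact card_le_four ha fun x hx => Subtype.ext (he.2 _ hx)

/-- an involution of `U` with commutators in `⟨z⟩` is central in `U` -/
theorem central (h : Hy G q) (d : H20.N9.S3 L U k s) {z w : G} (hz : z ∈ ZO 2 U) (z1 : z ≠ 1)
    (hw : w ∈ U) (hc : ∀ a ∈ U, a * w * a⁻¹ = w ∨ a * w * a⁻¹ = z * w) :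
    ∀ a ∈ U, a * w * a⁻¹ = w := by
  haveI : Fact (Nat.Prime 2) := ⟨Nat.prime_two⟩
  intro a ha
  have kV : ∀ y ∈ ZO 2 U, k * y * k⁻¹ ∈ ZO 2 U := fun y hy =>
    conj_mem_of_mem_NN (NN_le_NN_ZO U d.kN) hy
  have kU : ∀ y ∈ U, k * y * k⁻¹ ∈ U := fun y hy => conj_mem_of_mem_NN d.kN hy
  have cV : ∀ y ∈ ZO 2 U, ∀ u ∈ U, u * y = y * u := fun y hy u hu => ZO_le_CC U hy u hu
  have zz : z * z = 1 := by rw [← pow_two]; exact (mem_ZO.1 hz).2.2
  have zk : k * z * k⁻¹ ≠ z := fun e =>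
    z1 (h.fpf d.k3 d.two (ZO_le U hz) (mul_inv_eq_iff_eq_mul.1 e).symm)
  have hc' : ∀ a ∈ U, ∃ e, (e = 1 ∨ e = z) ∧ e ∈ ZO 2 U ∧ a * w * a⁻¹ = e * w := fun a ha => by
    rcases hc a ha with e | e
    · exact ⟨1, Or.inl rfl, one_mem _, by rw [e, one_mul]⟩
    · exact ⟨z, Or.inr rfl, hz, e⟩
  have h1 := kU a ha
  have h2 := kU _ h1
  have pa := p3 h d a ha
  have pw := p3 h d w hw
  obtain ⟨e0, a0, b0, c0⟩ := hc' a ha
  obtain ⟨e1, a1, b1, c1⟩ := hc' _ h1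
  obtain ⟨e2, a2, b2, c2⟩ := hc' _ h2
  have r1 : e2 * e1 * e0 = 1 := by
    generalize k * (k * a * k⁻¹) * k⁻¹ = x2 at *
    generalize k * a * k⁻¹ = x1 at *
    have : a * x1 * x2 * w * (a * x1 * x2)⁻¹ = e2 * e1 * e0 * w := by
      calc _ = a * (x1 * (x2 * w * x2⁻¹) * x1⁻¹) * a⁻¹ := by group
        _ = a * ((x1 * e2) * w * x1⁻¹) * a⁻¹ := by rw [c2]; group
        _ = (a * e2) * (x1 * w * x1⁻¹) * a⁻¹ := by rw [cV _ b2 _ h1]; group
        _ = e2 * (a * e1) * w * a⁻¹ := by rw [cV _ b2 _ ha, c1]; group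
        _ = e2 * e1 * (a * w * a⁻¹) := by rw [cV _ b1 _ ha]; group
        _ = _ := by rw [c0]; group
    rw [pa, one_mul, inv_one, mul_one] at this
    exact mul_eq_right.1 this.symm
  have r2 : e2 * (k * e1 * k⁻¹) * (k * (k * e0 * k⁻¹) * k⁻¹) = 1 := by
    have w1 := kU w hw
    have f1 := kV _ b1
    have f0 := kV _ (kV _ b0)
    have : (e2 * w) * (k * (e1 * w) * k⁻¹) * (k * (k * (e0 * w) * k⁻¹) * k⁻¹) = 1 := by
      rw [← c0, ← c1, ← c2]
      calc _ = (k * (k * a * k⁻¹) * k⁻¹) * (w * (k * w * k⁻¹) * (k * (k * w * k⁻¹) * k⁻¹)) *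
            (k * (k * a * k⁻¹) * k⁻¹)⁻¹ := by group
        _ = 1 := by rw [pw]; group
    calc _ = e2 * (k * e1 * k⁻¹) * (k * (k * e0 * k⁻¹) * k⁻¹) *
          (w * (k * w * k⁻¹) * (k * (k * w * k⁻¹) * k⁻¹)) := by rw [pw, mul_one]
      _ = e2 * (k * e1 * k⁻¹) * ((k * (k * e0 * k⁻¹) * k⁻¹) * (w * (k * w * k⁻¹))) *
          (k * (k * w * k⁻¹) * k⁻¹) := by group
      _ = e2 * ((k * e1 * k⁻¹) * w) * (k * w * k⁻¹) * (k * (k * e0 * k⁻¹) * k⁻¹) *
          (k * (k * w * k⁻¹) * k⁻¹) := by rw [← cV _ f0 _ (mul_mem hw w1)]; group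
      _ = (e2 * w) * (k * (e1 * w) * k⁻¹) * (k * (k * (e0 * w) * k⁻¹) * k⁻¹) := by
          rw [← cV _ f1 _ hw]; group
      _ = 1 := this
  rcases a0 with rfl | rfl
  · rw [c0, one_mul]
  exfalso
  rcases a1 with rfl | rfl <;> rcases a2 with rfl | rfl
  · exact z1 (by simpa using r1)
  · apply zk
    have : k * (k * e2 * k⁻¹) * k⁻¹ = e2 := by
      rw [mul_one, mul_inv_cancel, mul_one, ← zz] at r2
      exact mul_left_cancel r2
    calc k * e2 * k⁻¹ = k * (k * (k * e2 * k⁻¹) * k⁻¹) * k⁻¹ := by rw [this]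
      _ = (k * k * k) * e2 * (k * k * k)⁻¹ := by group
      _ = e2 := by rw [d.kkk]; group
  · apply zk
    have : e1 * (k * e1 * k⁻¹) = 1 := by
      calc _ = k⁻¹ * (1 * (k * e1 * k⁻¹) * (k * (k * e1 * k⁻¹) * k⁻¹)) * k := by group
        _ = 1 := by rw [r2]; group
    rw [← zz] at this
    exact mul_left_cancel this
  · rw [zz, one_mul] at r1
    exact z1 r1

theorem NN_T (h : Hy G q) (d : H20.N9.S3 L U k s) (hV : Nat.card (ZO 2 U) = 4)
    (hU : 4 < Nat.card U) : NN(TT U s) ≤ L := by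
  haveI : Fact (Nat.Prime 2) := ⟨Nat.prime_two⟩
  obtain ⟨z, hz, z1, zs, hz2, -⟩ := exists_z h d hV
  have VT : ZO 2 U ≤ TT U s := (ZO_le U).trans d.UT
  have cV : ∀ y ∈ ZO 2 U, ∀ u ∈ U, u * y = y * u := fun y hy u hu => ZO_le_CC U hy u hu
  have zT : ∀ t ∈ TT U s, t * z = z * t := fun t ht => by
    rcases d.mem_T.1 ht with e | e
    · exact cV z hz t e
    · have := cV z hz _ e
      rw [mul_assoc, zs, ← mul_assoc, ← mul_assoc] at this
      exact mul_right_cancel this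
  have vT : ∀ v ∈ ZO 2 U, ∀ t ∈ TT U s, t * v * t⁻¹ = v ∨ t * v * t⁻¹ = z * v := by
    intro v hv t ht
    rcases d.mem_T.1 ht with e | e
    · exact Or.inl (by rw [cV v hv t e, mul_inv_cancel_right])
    have hw : s * v * s⁻¹ ∈ ZO 2 U := conj_mem_of_mem_NN (NN_le_NN_ZO U d.sN) hv
    have vv : v * v = 1 := by rw [← pow_two]; exact (mem_ZO.1 hv).2.2
    have e1 : t * v * t⁻¹ = s * v * s⁻¹ := by
      calc t * v * t⁻¹ = t * (s * s) * v * (s * s)⁻¹ * t⁻¹ := by rw [d.ss]; group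
        _ = (t * s) * (s * v * s⁻¹) * (t * s)⁻¹ := by group
        _ = _ := by rw [cV _ hw _ e, mul_inv_cancel_right]
    have c := cV _ hw _ (ZO_le U hv)
    have e2 : s * (s * v * s⁻¹ * v) = s * v * s⁻¹ * v * s := by
      calc s * (s * v * s⁻¹ * v) = s * s * v * s⁻¹ * v := by group
        _ = v * (s * v * s⁻¹) * s := by
          rw [d.ss, one_mul, ← mul_assoc v, inv_mul_cancel_right, d.sinv, mul_assoc]
        _ = _ := by rw [c]
    rw [e1]
    rcases hz2 _ (mul_mem hw hv) e2 with f | f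
    · left
      rw [← vv] at f
      exact mul_right_cancel f
    · right
      rw [← f, mul_assoc _ v v, vv, mul_one]
  intro g hg
  have gT : ∀ t ∈ TT U s, g * t * g⁻¹ ∈ TT U s := fun t ht => conj_mem_of_mem_NN hg ht
  have gT' : ∀ t ∈ TT U s, g⁻¹ * t * g ∈ TT U s := fun t ht => conj_mem_of_mem_NN' hg ht
  have gz : g * z * g⁻¹ = z := by
    have c : ∀ t ∈ TT U s, t * (g * z * g⁻¹) = g * z * g⁻¹ * t := fun t ht => by
      calc _ = g * (g⁻¹ * t * g * z) * g⁻¹ := by group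
        _ = _ := by rw [zT _ (gT' t ht)]; group
    have hU' : g * z * g⁻¹ ∈ U := cent_le h d hV (gT z (VT hz)) fun v hv => c v (VT hv)
    have hV' : g * z * g⁻¹ ∈ ZO 2 U := mem_ZO.2 ⟨hU', fun v hv => c v (d.UT hv), by
      rw [conj_pow, (mem_ZO.1 hz).2.2]; group⟩
    refine (hz2 _ hV' (c s d.sT)).resolve_left fun e => z1 ?_
    calc z = g⁻¹ * (g * z * g⁻¹) * g := by group
      _ = 1 := by rw [e]; group
  rw [← NN_V d hV]
  refine mem_NN_of_conj_mem fun v hv => ?_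
  have wT := gT v (VT hv)
  have ww : (g * v * g⁻¹) ^ 2 = 1 := by rw [conj_pow, (mem_ZO.1 hv).2.2]; group
  by_cases wU : g * v * g⁻¹ ∈ U
  · refine mem_ZO.2 ⟨wU, fun a ha => mul_inv_eq_iff_eq_mul.1
      (central h d hz z1 wU (fun a ha => ?_) a ha), ww⟩
    have e : a * (g * v * g⁻¹) * a⁻¹ = g * (g⁻¹ * a * g * v * (g⁻¹ * a * g)⁻¹) * g⁻¹ := by group
    rw [e]
    rcases vT v hv _ (gT' a (d.UT ha)) with f | f
    · exact Or.inl (by rw [f])
    · exact Or.inr (by rw [f]; nth_rewrite 2 [← gz]; group)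
  exfalso
  obtain ⟨k', d', -⟩ := d.swap h wT wU (by rw [← pow_two, ww])
  have h1 := d'.sq_le h d.two d'.kN
  have h2 := rel_le d (A := cj g U) (cj_le_of fun x hx => gT x (d.UT hx))
  have h3 : U ⊓ cj g U ≤ U ⊓ centralizer {g * v * g⁻¹} := by
    refine inf_le_inf_left _ (cj_le_of fun x hx => mem_centralizer_singleton_iff.2 ?_)
    calc _ = g * (x * v) * g⁻¹ := by group
      _ = _ := by rw [cV v hv x hx]; group
  have h4 := Subgroup.card_le_of_le h3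
  rw [card_cj] at h2
  nlinarith

theorem J_le (h : Hy G q) (d : H20.N9.S3 L U k s) {A : Subgroup G}
    (hA : A ∈ H4.maxAb 2 (TT U s)) (h4 : 4 < Nat.card A) : A ≤ U := by
  haveI : Fact (Nat.Prime 2) := ⟨Nat.prime_two⟩
  intro a ha
  by_contra aU
  obtain ⟨k', d', -⟩ := d.swap h (hA.1 ha) aU (by rw [← pow_two]; exact hA.2.1.2 a ha)
  have cA : ∀ x ∈ A, ∀ y ∈ A, x * y = y * x := (H4.elemAb_iff.1 hA.2.1).1
  have e1 : IsElementaryAbelian 2 (U ⊓ A : Subgroup G) := elab_of_le hA.2.1 inf_le_right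
  have p := p3 h d'
  have c : U ⊓ A ≤ CC(cj k' (U ⊓ A)) := by
    intro y hy w hw
    obtain ⟨x, hx, rfl⟩ := mem_cj'.1 hw
    have h1 := p x hx.1
    have h2 := p y hy.1
    have h3 := p _ (mul_mem hx.1 hy.1)
    have h5 : k' * (k' * (x * y) * k'⁻¹) * k'⁻¹ =
        (k' * (k' * y * k'⁻¹) * k'⁻¹) * (k' * (k' * x * k'⁻¹) * k'⁻¹) := by
      rw [cA x hx.2 y hy.2]; group
    rw [h5, eq_inv_of_mul_eq_one_right h1, eq_inv_of_mul_eq_one_right h2, ← mul_inv_rev,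
      mul_inv_eq_one] at h3
    have h6 : x * (y * (k' * x * k'⁻¹)) * (k' * y * k'⁻¹) =
        x * ((k' * x * k'⁻¹) * y) * (k' * y * k'⁻¹) := by
      calc _ = x * y * (k' * (x * y) * k'⁻¹) := by group
        _ = _ := by rw [h3]; group
    exact (mul_left_cancel (mul_right_cancel h6)).symm
  have eB := elab_sup e1 (elab_cj k' e1) c
  have BU : (U ⊓ A) ⊔ cj k' (U ⊓ A) ≤ U := sup_le inf_le_left (cj_le_of_mem_NN d'.kN inf_le_left)
  have kB : k' ∈ NN(((U ⊓ A) ⊔ cj k' (U ⊓ A) : Subgroup G)) := by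
    refine mem_NN_of_cj_le ?_
    rw [cj_sup]
    refine sup_le le_sup_right (cj_le_of fun w hw => ?_)
    obtain ⟨x, hx, rfl⟩ := mem_cj'.1 hw
    rw [eq_inv_of_mul_eq_one_right (p x hx.1)]
    exact inv_mem (mul_mem (mem_sup_left hx) (mem_sup_right hw))
  have h1 := d'.sq_le h (d.two.to_le BU) kB
  have h2 := H4.maxAb_card_le hA (BU.trans d.UT) eB
  have h3 := rel_le d hA.1
  have h5 : U ⊓ A ≤ ((U ⊓ A) ⊔ cj k' (U ⊓ A)) ⊓ centralizer {a} :=
    le_inf le_sup_left fun x hx => mem_centralizer_singleton_iff.2 (cA x hx.2 a ha)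
  have h6 := Subgroup.card_le_of_le h5
  nlinarith

theorem v4a (h : Hy G q) (d : H20.N9.S3 L U k s) (hV : Nat.card (ZO 2 U) = 4) :
    PRankLE 2 2 G ∨ (IsSylowIn 2 (TT U s) ⊤ ∧ JT (TT U s) ≤ U ∧ 4 < Nat.card U ∧
      NN(TT U s) ≤ L) := by
  haveI : Fact (Nat.Prime 2) := ⟨Nat.prime_two⟩
  by_cases hU : Nat.card U ≤ 4
  · exact Or.inl (small h d hV hU)
  have hN := NN_T h d hV (not_le.1 hU)
  have syl : IsSylowIn 2 (TT U s) ⊤ := d.sylT.of_NN_le le_top (inf_le_right.trans hN)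
  obtain ⟨A, hA⟩ := H4.maxAb_nonempty 2 (TT U s)
  by_cases h4 : Nat.card A ≤ 4
  · exact Or.inl (rank_of_sylow syl fun B h1 h2 => (H4.maxAb_card_le hA h1 h2).trans h4)
  exact Or.inr ⟨syl, H4.thompsonOf_le_iff.2 fun B hB =>
    J_le h d hB (H4.maxAb_card_eq hA hB ▸ not_le.1 h4), not_le.1 hU, hN⟩

end H26V4a
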