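import Cfsg.Agent.H25.EO1
import Cfsg.Agent.H5.Fstar
import Cfsg.Agent.H9.GY
import Cfsg.Agent.H1.FTLib

/-!
Abelian Sylow `2`-subgroups and solvable involution centralizers.
-/

set_option autoImplicit false
set_option linter.unusedSectionVars false

namespace H26.Ab

open Cfsg Subgroup
open scoped MatrixGroups

universe u

variable {G : Type u} [Group G] [Finite G]

theorem simple_case (hs : IsSimpleGroup G) (hn : ¬ IsMulCommutative G) (S : Sylow 2 G) (hS : IsMulCommutative S)
    (hC : ∀ t : G, orderOf t = 2 → Group.IsSolvable (centralizer ({t} : Set G))) : H26.J.L2E G ∨ H4.L2D G := by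
  rcases H26.J.walter hs hn (H10.isSylowIn_top S) (H10.isMulCommutative_iff_le_CC.1 hS) with h | h | ⟨p, n, ρ, τ, f, h⟩
  · exact .inl h.2
  · exact .inr h
  · haveI := Fact.mk Nat.prime_two
    obtain ⟨t, ht⟩ := exists_prime_orderOf_dvd_card' 2
      (H1.ft_two_dvd (G := G) fun k => hn ⟨⟨IsSimpleGroup.comm_iff_isSolvable.2 k⟩⟩)
    obtain ⟨F, _, _, -, h3, ⟨e⟩⟩ := (h.lf t ht).l2d
    haveI := hC t ht
    have h1 : H26.J.Lt t ≤ centralizer {t} := commutator_le.2 fun a ha b hb =>
      mul_mem (mul_mem (mul_mem ha hb) (inv_mem ha)) (inv_mem hb)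
    haveI : Group.IsSolvable (H26.J.Lt t) := Group.isSolvable_of_isSolvable_injective (inclusion_injective h1)
    exact absurd (Group.isSolvable_of_surjective (f := e.toMonoidHom) e.surjective) (H25.EO.psl_not_solv h3)

theorem core_free (hO : pPrimeCore 2 G = ⊥) (S : Sylow 2 G) (hS : IsMulCommutative S)
    (hC : ∀ t : G, orderOf t = 2 → Group.IsSolvable (centralizer ({t} : Set G))) (hn : ¬ Group.IsSolvable G) :
    ∃ N : Subgroup G, N.Normal ∧ (H26.J.L2E N ∨ H4.L2D N) ∧ centralizer (N : Set G) = ⊥ := by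
  haveI := Fact.mk Nat.prime_two
  obtain ⟨L, hL⟩ : ∃ L, H5.CompOf L (⊤ : Subgroup G) := by
    by_contra k
    have h1 : layer G = ⊥ := H5.layerOf_top.symm.trans (H5.layerOf_eq_bot_iff.2 (not_exists.1 k))
    have h3 := H5.fstar_eq_pCore_iff_centralizer.1 ((H5.fstar_eq_pCore_iff (p := 2)).2 ⟨h1, hO⟩)
    have h4 : pCore 2 G ≤ S := H1.pCore_le_sylow S
    have h5 : (S : Subgroup G) ≤ pCore 2 G :=
      ((H10.isMulCommutative_iff_le_CC.1 hS).trans (centralizer_le h4)).trans h3
    haveI := (H1.isPGroup_pCore (G := G) 2).isNilpotent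
    haveI : Group.IsSolvable (G ⧸ pCore 2 G) := H1.ft_odd (by
      rw [← index_eq_card, ← le_antisymm h5 h4]
      exact Nat.odd_iff.2 (Nat.two_dvd_ne_zero.1 S.not_dvd_index))
    exact hn (Group.isSolvable_of_ker_le_range (pCore 2 G).subtype (QuotientGroup.mk' (pCore 2 G)) (by simp))
  have hodd : ¬ 2 ∣ Nat.card (centralizer (L : Set G)) := fun k => by
    obtain ⟨t, ht⟩ := exists_prime_orderOf_dvd_card' 2 k
    refine H5.qs_not_le_solvable hL.qs (hC t.1 (by rw [orderOf_coe, ht])) fun x hx => ?_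
    exact mem_centralizer_singleton_iff.2 (mem_centralizer_iff.1 t.2 x hx)
  haveI hN : L.Normal := normalizer_eq_top_iff.1 (eq_top_iff.2 fun g _ => H5.cj_eq_self_iff.1 (by
    by_contra k
    have h1 := hL.cj_of_mem (g := g) (by rw [normalizer_eq_top]; trivial)
    exact hodd ((H1.ft_two_dvd (H5.qs_not_solvable h1.qs)).trans (card_dvd_of_le
      (commutator_eq_bot_iff_le_centralizer.1 (h1.commutator_eq_bot hL k))))))
  have hc : centralizer (L : Set G) = ⊥ :=
    H1.pPrimeCore_eq_bot_iff.1 hO _ inferInstance ((Nat.prime_two.coprime_iff_not_dvd.2 hodd).symm)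
  have hz : center L = ⊥ := eq_bot_iff.2 fun x hx => by
    have : x.1 ∈ centralizer (L : Set G) := mem_centralizer_iff.2 fun y hy =>
      congrArg Subtype.val (mem_center_iff.1 hx ⟨y, hy⟩)
    rw [hc] at this
    exact mem_bot.2 (Subtype.ext this)
  haveI := hL.qs.2
  obtain ⟨T⟩ : Nonempty (Sylow 2 L) := inferInstance
  refine ⟨L, hN, simple_case (((QuotientGroup.quotientMulEquivOfEq hz).trans
    QuotientGroup.quotientBot).symm.isSimpleGroup) (fun k => H5.qs_not_solvable hL.qs (H1.isSolvable_of_comm' k))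
    T ?_ fun t ht => ?_, hc⟩
  · obtain ⟨R, hR⟩ := (T.isPGroup'.map L.subtype).exists_le_sylow
    obtain ⟨g, rfl⟩ := MulAction.exists_smul_eq G S R
    refine ⟨⟨fun a b => Subtype.ext (Subtype.ext ?_)⟩⟩
    obtain ⟨x, hx, e1⟩ := hR (mem_map_of_mem _ a.2)
    obtain ⟨y, hy, e2⟩ := hR (mem_map_of_mem _ b.2)
    have : x * y = y * x := congrArg Subtype.val (hS.1.1 (⟨x, hx⟩ : S) ⟨y, hy⟩)
    have e3 := congrArg (MulAut.conj g • ·) this
    simp only [smul_mul'] at e3
    exact (congrArg₂ (· * ·) e1 e2).symm.trans (e3.trans (congrArg₂ (· * ·) e2 e1))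
  · haveI := hC t.1 (by rw [orderOf_coe, ht])
    exact Group.isSolvable_of_isSolvable_injective (f := (L.subtype.comp (centralizer {t}).subtype).codRestrict
      (centralizer {t.1}) fun x => mem_centralizer_singleton_iff.2
        (congrArg Subtype.val (mem_centralizer_singleton_iff.1 x.2)))
      fun a b e => Subtype.ext (Subtype.ext (Subtype.ext_iff.1 e :))

end H26.Ab
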