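import Cfsg.Agent.H19.SD4

/-! Arithmetic for Brauer's order formula. -/

set_option autoImplicit false

namespace H26.Ar

open H19

theorem dv {r d : ℤ} (h3 : 9 ≤ r ^ 2) (h1 : d ∣ r ^ 2 - 1) (h2 : r ∣ d + 1) :
    d = -1 ∨ d = r - 1 ∨ d = -r - 1 ∨ d = r ^ 2 - 1 := by
  obtain ⟨e, he⟩ := h1
  obtain ⟨u, hu⟩ := h2
  obtain rfl : d = r * u - 1 := by linear_combination hu
  have r0 : r ≠ 0 := fun e => by rw [e] at h3; norm_num at h3
  obtain ⟨v, rfl⟩ : ∃ v, e = 1 + r * v := ⟨u * e - r, by linear_combination he⟩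
  have h : u - v = r * (1 - u * v) := mul_left_cancel₀ r0 (by linear_combination -he)
  by_cases u0 : u = 0
  · exact Or.inl (by rw [u0]; ring)
  by_cases v0 : v = 0
  · rw [v0] at h
    exact Or.inr (Or.inr (Or.inr (by linear_combination r * h)))
  have a1 : 1 ≤ u ^ 2 := (show 0 < u ^ 2 by positivity)
  have a2 : 1 ≤ v ^ 2 := (show 0 < v ^ 2 by positivity)
  have a3 : (u - v) ^ 2 ≤ (1 - u * v) ^ 2 := by nlinarith [mul_nonneg (sub_nonneg.2 a1) (sub_nonneg.2 a2)]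
  rw [h, mul_pow] at a3
  have a4 : 1 - u * v = 0 := by
    by_contra e
    have : 0 < (1 - u * v) ^ 2 := by positivity
    nlinarith
  rcases Int.eq_one_or_neg_one_of_mul_eq_one (show u * v = 1 by linarith) with rfl | rfl
  · exact Or.inr (Or.inl (by ring))
  · exact Or.inr (Or.inr (Or.inl (by ring)))

theorem two {p n : ℕ} (hp : p.Prime) (hn : 1 ≤ n) {r X Y W J c M a j : ℤ} (hr : r = p ^ n ∨ r = -p ^ n)
    (ha : r = 1 + 4 * M * a) (hj : X = r + 8 * M * j) (hX : 1 + X + Y + W = 0) (n0 : X ≠ 0) (n1 : X ≠ -1)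
    (n3 : W ≠ -1) (h1 : X * Y * W + r ^ 2 * Y * W + r ^ 2 * X * W + X * Y = 0)
    (hc : IsCoprime (p : ℤ) c) (hF : J * (X - r) ^ 2 * r = c ^ 2 * (r + 1) * X * (1 + X)) :
    X = r ^ 3 := by
  have hp' := Nat.prime_iff_prime_int.1 hp
  have cop : ∀ x : ℤ, IsCoprime (p : ℤ) x → IsCoprime r x := fun x h => by
    rcases hr with rfl | rfl
    exacts [h.pow_left, h.pow_left.neg_left]
  have pr : (p : ℤ) ∣ r := by
    rcases hr with rfl | rfl
    exacts [dvd_pow_self _ (by omega), (dvd_pow_self _ (by omega)).neg_right]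
  have r9 : 9 ≤ r ^ 2 := by
    have h2 : (2 : ℤ) ≤ p ^ n :=
      (show (2 : ℤ) ≤ p by exact_mod_cast hp.two_le).trans (le_self_pow₀ (by exact_mod_cast hp.one_le) (by omega))
    have : 3 ≤ r ∨ r ≤ -3 := by
      have : r = 1 + 4 * (M * a) := by rw [ha]; ring
      omega
    rcases this with h | h <;> nlinarith
  have r0 : r ≠ 0 := fun e => by rw [e] at r9; norm_num at r9
  have c1 : IsCoprime r (c ^ 2 * (r + 1)) :=
    (cop _ hc).pow_right.mul_right ⟨-1, 1, by ring⟩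
  have e1 : (X + r ^ 2) * (Y + r ^ 2) = r ^ 2 * (r ^ 2 - 1) := by
    have : (W + 1) * ((X + r ^ 2) * (Y + r ^ 2) - r ^ 2 * (r ^ 2 - 1)) = 0 := by
      have e : W = -1 - X - Y := by omega
      subst e; linear_combination h1
    exact sub_eq_zero.1 ((mul_eq_zero.1 this).resolve_left (by omega))
  have d1 : r ∣ X * (1 + X) := c1.dvd_of_dvd_mul_left ⟨J * (X - r) ^ 2, by linear_combination -hF⟩
  have r2 : r ^ 2 = 1 + 8 * (M * a) + 16 * (M * a * (M * a)) := by rw [ha]; ring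
  have ra : r = 1 + 4 * (M * a) := by rw [ha]; ring
  have hj' : X = r + 8 * (M * j) := by rw [hj]; ring
  by_cases pX : (p : ℤ) ∣ X
  · have c2 : IsCoprime r (1 + X) := cop _ ((hp'.irreducible.coprime_iff_not_dvd).2 fun h =>
      hp'.not_isUnit (isUnit_of_dvd_one (by simpa using dvd_sub h pX)))
    obtain ⟨s, hs⟩ := c2.dvd_of_dvd_mul_right d1
    have d3 : r ^ 3 ∣ X * (1 + X) := (c1.pow_left (m := 3)).dvd_of_dvd_mul_left
      ⟨J * (s - 1) ^ 2, by rw [← mul_assoc, ← hF, hs]; ring⟩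
    obtain ⟨m, hm⟩ := (c2.pow_left (m := 3)).dvd_of_dvd_mul_right d3
    have d4 : -(r * m + 1) ∣ r ^ 2 - 1 := ⟨-(Y + r ^ 2), mul_left_cancel₀ (pow_ne_zero 2 r0) (by
      rw [← e1, hm]; ring)⟩
    have r3 : r ^ 3 = 1 + 4 * (3 * (M * a) + 12 * (M * a) ^ 2 + 16 * (M * a) ^ 3) := by rw [ha]; ring
    have r4 : r ^ 4 = 1 + 4 * (4 * (M * a) + 24 * (M * a) ^ 2 + 64 * (M * a) ^ 3 + 64 * (M * a) ^ 4) := by
      rw [ha]; ring
    rcases dv r9 d4 ⟨-m, by ring⟩ with h | h | h | h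
    · exact absurd (by linear_combination hm - r ^ 2 * h) n0
    · have : X = -r ^ 3 := by linear_combination hm - r ^ 2 * h
      omega
    · linear_combination hm - r ^ 2 * h
    · have : X = -r ^ 4 := by linear_combination hm - r ^ 2 * h
      omega
  · exfalso
    have c2 : IsCoprime r X := cop _ ((hp'.irreducible.coprime_iff_not_dvd).2 pX)
    obtain ⟨s, hs⟩ := c2.dvd_of_dvd_mul_left d1
    have c3 : IsCoprime (X + r ^ 2) (r ^ 2) := by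
      have := (c2.symm.pow_right (n := 2)).add_mul_left_left 1
      rwa [mul_one] at this
    rcases dv r9 (c3.dvd_of_dvd_mul_left ⟨_, e1.symm⟩) ⟨s + r, by linear_combination hs⟩ with h | h | h | h
    · omega
    · omega
    · have : (4 : ℤ) = 8 * (M * (-j - 2 * a - 2 * (M * a * a))) := by
        rw [hj, ha] at h; linear_combination h
      omega
    · exact n1 (by linear_combination h)

theorem ar {p n g c t N o : ℕ} (hp : p.Prime) (p2 : p ≠ 2) (hn : 1 ≤ n)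
    {r X₁ X₂ X₃ A₁ A₂ A₃ B₁ B₂ B₃ m : ℤ} (hr : r = p ^ n ∨ r = -p ^ n) (hN : (N : ℤ) ∣ r - 1)
    (h4 : 4 ∣ N) (hX : 1 + X₁ + X₂ + X₃ = 0) (n0 : X₁ ≠ 0) (n1 : X₁ ≠ -1) (n2 : X₂ ≠ -1)
    (n3 : X₃ ≠ -1) (s1 : A₁ * A₁ + B₁ * B₁ = 1) (s2 : A₂ * A₂ + B₂ * B₂ = 1)
    (s3 : A₃ * A₃ + B₃ * B₃ = 1) (hA : 1 + A₁ + A₂ + A₃ = 0) (hB : B₁ + B₂ + B₃ = 0)
    (h1 : X₁ * X₂ * X₃ + (A₁ + r * B₁) ^ 2 * X₂ * X₃ + (A₂ + r * B₂) ^ 2 * X₁ * X₃ +
      (A₃ + r * B₃) ^ 2 * X₁ * X₂ = 0) (hm : X₁ + (A₁ + r * B₁) = 2 + 2 * N * m) {k I : ℕ}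
    (hk : N = 2 ^ k) (hI : Odd I) (ho : Odd o) (hc : c = 4 * N * o) (hg : g = c * I) (ht : t % 8 = 4)
    (hF : (I : ℤ) * (X₁ - (A₁ + r * B₁)) ^ 2 * t ^ 2 * r = c ^ 2 * (r + 1) * X₁ * (1 + X₁))
    (hreg : 3 * padicValNat p c ≤ padicValNat p g + 2 * padicValNat p t) :
    (g : ℤ) * t ^ 2 * (r - 1) ^ 2 = c ^ 3 * (r ^ 2 - r + 1) := by
  haveI := Fact.mk hp
  obtain ⟨M, hM⟩ := h4
  obtain ⟨a, ha⟩ := hN
  have hM' : (N : ℤ) = 4 * M := by exact_mod_cast hM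
  have ha' : r = 1 + 4 * M * a := by rw [← hM', ← ha]; ring
  have ra : r = 1 + 4 * (M * a) := by rw [ha']; ring
  obtain ⟨t', rfl⟩ : ∃ t', t = 4 * (2 * t' + 1) := ⟨t / 8, by omega⟩
  have sq := sd_sq
  have hm' : X₁ + (A₁ + r * B₁) = 2 + 8 * (M * m) := by rw [hm, hM']; ring
  have Zo : (A₁ + r * B₁) % 2 = 1 := by
    rcases sq _ _ s1 with ⟨rfl, rfl⟩ | ⟨rfl, rfl⟩ | ⟨rfl, rfl⟩ | ⟨rfl, rfl⟩ <;> omega
  obtain ⟨w, hw⟩ : ∃ w, 1 + X₁ = 2 * w := ⟨(1 + X₁) / 2, by omega⟩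
  have cp : IsCoprime ((2 * N : ℤ) ^ 2) (I * (2 * t' + 1) ^ 2 * r) := by
    have o2 : ∀ x : ℤ, x % 2 = 1 → IsCoprime 2 x := fun x hx => ⟨-(x / 2), 1, by omega⟩
    have : IsCoprime (2 : ℤ) (I * (2 * t' + 1) ^ 2 * r) :=
      ((o2 _ (by have := Nat.odd_iff.1 hI; omega)).mul_right (o2 _ (by omega)).pow_right).mul_right
        (o2 _ (by omega))
    rw [hk]; push_cast
    rw [← pow_succ']
    exact this.pow_left.pow_left
  obtain ⟨j, hj⟩ : (2 * N : ℤ) ∣ X₁ - (A₁ + r * B₁) := (Int.pow_dvd_pow_iff two_ne_zero).1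
    (cp.dvd_of_dvd_mul_left ⟨o ^ 2 * (1 + 2 * (M * a)) * X₁ * w, mul_left_cancel₀ (a := 16) (by norm_num) (by
      rw [hw, hc, show r + 1 = 2 * (1 + 2 * (M * a)) by rw [ra]; ring] at hF
      push_cast at hF
      linear_combination hF)⟩)
  have hj' : X₁ - (A₁ + r * B₁) = 8 * (M * j) := by rw [hj, hM']; ring
  have I0 : I ≠ 0 := fun e => by simp [e] at hI
  have c0 : c ≠ 0 := by
    rw [hc, hk]; exact mul_ne_zero (by positivity) fun e => by simp [e] at ho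
  obtain ⟨c', hc'⟩ : p ^ padicValNat p c ∣ c := pow_padicValNat_dvd
  have pc : IsCoprime (p : ℤ) c' := Nat.isCoprime_iff_coprime.2 ((Nat.Prime.coprime_iff_not_dvd hp).2
    fun ⟨s, hs⟩ => pow_succ_padicValNat_not_dvd (p := p) c0 ⟨s, by rw [pow_succ, mul_assoc, ← hs, ← hc']⟩)
  obtain ⟨J, hJ⟩ : p ^ (2 * padicValNat p c) ∣ I * (4 * (2 * t' + 1)) ^ 2 := by
    rw [padicValNat_dvd_iff_le (by positivity), padicValNat.mul I0 (by positivity),
      padicValNat.pow]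
    rw [hg, padicValNat.mul c0 I0] at hreg
    omega
  have hF2 : (J : ℤ) * (X₁ - (A₁ + r * B₁)) ^ 2 * r = c' ^ 2 * (r + 1) * X₁ * (1 + X₁) := by
    refine mul_left_cancel₀ (a := ((p : ℤ) ^ padicValNat p c) ^ 2)
      (pow_ne_zero _ (pow_ne_zero _ (Nat.cast_ne_zero.2 hp.ne_zero))) ?_
    have e1 : (c : ℤ) = p ^ padicValNat p c * c' := by exact_mod_cast hc'
    have e2 : (I : ℤ) * ((4 * (2 * t' + 1) : ℕ) : ℤ) ^ 2 = (p ^ padicValNat p c) ^ 2 * J := by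
      rw [← pow_mul, mul_comm _ 2]; exact_mod_cast hJ
    generalize (p : ℤ) ^ padicValNat p c = P at e1 e2
    rw [e1] at hF
    linear_combination hF - (X₁ - (A₁ + r * B₁)) ^ 2 * r * e2
  have key : ∀ {X Y W : ℤ}, 1 + X + Y + W = 0 → X ≠ -1 → Y ≠ -1 → W ≠ -1 →
      X * Y * W + Y * W + X * W + X * Y ≠ 0 := fun {X Y W} a b c d e =>
    mul_ne_zero (mul_ne_zero (show X + 1 ≠ 0 by omega) (show Y + 1 ≠ 0 by omega))
      (show W + 1 ≠ 0 by omega) (by linear_combination a + e)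
  rcases sq _ _ s1 with ⟨rfl, rfl⟩ | ⟨rfl, rfl⟩ | ⟨rfl, rfl⟩ | ⟨rfl, rfl⟩
  · have : A₂ = -1 ∧ B₂ = 0 ∧ A₃ = -1 ∧ B₃ = 0 := by
      have := sq _ _ s2; have := sq _ _ s3; omega
    obtain ⟨rfl, rfl, rfl, rfl⟩ := this
    exact absurd (by linear_combination h1) (key hX n1 n2 n3)
  · omega
  · have : A₂ = 0 ∧ B₂ = -1 ∧ A₃ = -1 ∧ B₃ = 0 ∨ A₂ = -1 ∧ B₂ = 0 ∧ A₃ = 0 ∧ B₃ = -1 := by
      have := sq _ _ s2; have := sq _ _ s3; omega
    have hX3 : X₁ = r ^ 3 := by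
      rcases this with ⟨rfl, rfl, rfl, rfl⟩ | ⟨rfl, rfl, rfl, rfl⟩
      · exact two hp hn hr ha' (j := j) (by linear_combination hj') hX n0 n1 n3
          (by linear_combination h1) pc (J := J) (by linear_combination hF2)
      · exact two hp hn hr ha' (j := j) (Y := X₃) (W := X₂) (by linear_combination hj') (by omega) n0 n1
          n2 (by linear_combination h1) pc (J := J) (by linear_combination hF2)
    have r0 : r ≠ 0 := by omega
    have r1 : r + 1 ≠ 0 := by omega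
    refine mul_left_cancel₀ (mul_ne_zero (pow_ne_zero 3 r0) (pow_ne_zero 2 r1)) ?_
    rw [hX3] at hF
    rw [hg, Nat.cast_mul]
    linear_combination c * hF
  · omega

theorem ar2 {p n g c t : ℕ} (hp : p.Prime) (hn : 1 ≤ n) (g0 : g ≠ 0) (c0 : c ≠ 0) (t0 : t ≠ 0) {r : ℤ}
    (hr : r = p ^ n ∨ r = -p ^ n) (h : (g : ℤ) * t ^ 2 * (r + 1) ^ 2 = c ^ 3 * (r ^ 2 + r + 1)) :
    3 * padicValNat p c ≤ padicValNat p g + 2 * padicValNat p t := by
  haveI := Fact.mk hp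
  obtain ⟨s, hs⟩ : (p : ℤ) ∣ r := by
    rcases hr with rfl | rfl
    exacts [dvd_pow_self _ (by omega), (dvd_pow_self _ (by omega)).neg_right]
  obtain ⟨c', hc'⟩ : p ^ padicValNat p c ∣ c := pow_padicValNat_dvd
  have c1 : IsCoprime ((p : ℤ) ^ (3 * padicValNat p c)) ((r + 1) ^ 2) :=
    IsCoprime.pow ⟨-s, 1, by rw [hs]; ring⟩
  have e1 : (c : ℤ) = p ^ padicValNat p c * c' := by exact_mod_cast hc'
  have d : (p : ℤ) ^ (3 * padicValNat p c) ∣ g * t ^ 2 := c1.dvd_of_dvd_mul_right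
    ⟨c' ^ 3 * (r ^ 2 + r + 1), by rw [h, mul_comm 3, pow_mul]; nth_rewrite 1 [e1]; ring⟩
  have d' : p ^ (3 * padicValNat p c) ∣ g * t ^ 2 := by exact_mod_cast d
  rwa [padicValNat_dvd_iff_le (by positivity), padicValNat.mul g0 (by positivity),
    padicValNat.pow] at d'

end H26.Ar
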