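import Cfsg.Agent.H26.CS1
import Cfsg.Agent.H17.BC1
import Cfsg.Agent.H17.Central
import Cfsg.Agent.H19.Vanish
import Cfsg.Agent.H19.Col

/-! An abelian subgroup containing the centralizers of its elements and an element whose class
size is prime to its index. -/

set_option autoImplicit false
set_option linter.unusedSectionVars false

namespace H26.CS

open Subgroup _root_.Cfsg H3.Pt H17 H17.BC
open scoped ComplexConjugate

local notation "C₁(" x ")" => Subgroup.centralizer (Singleton.singleton x : Set _)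
local notation "𝒩(" H ")" => Subgroup.normalizer (SetLike.coe H)

variable {G : Type*} [Group G] [Fintype G] {M : Subgroup G} [Fintype M] {x : G}

/-- the configuration -/
structure Cf (M : Subgroup G) (x : G) : Prop where
  comm : IsMulCommutative M
  cent : ∀ w ∈ M, w ≠ 1 → C₁(w) ≤ M
  h1 : ∀ k ∈ M, ¬ IsConj x k
  h2 : ∀ y ∈ M, y ≠ 1 → ∀ k ∈ M, ¬ IsConj (x * y) k
  h3 : ∀ y ∈ M, y ≠ 1 → ∀ g, IsConj (x * y) (g * x * g⁻¹ * y)

theorem ti (hc : IsMulCommutative M) (hC : ∀ w ∈ M, w ≠ 1 → C₁(w) ≤ M) :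
    ∀ k ∈ M, k ≠ 1 → ∀ g : G, g * k * g⁻¹ ∈ M → g ∈ 𝒩(M) := fun k hk k1 g hg =>
  mem_normalizer_fintype fun u hu => hC _ hg (fun e => k1 (conj_eq_one_iff.1 e))
    (mem_C₁.2 (Commute.conj (congrArg Subtype.val (hc.is_comm.comm ⟨k, hk⟩ ⟨u, hu⟩)) g))

namespace Cf
variable (h : Cf M x) [Fintype 𝒩(M)]
include h

theorem reg {lam : M → ℂ} (hl : IsIrrCharacter M lam) (l1 : lam ≠ fun _ => 1) :
    Reg (le_refl 𝒩(M)) lam := fun g hg => by
  by_contra ng
  have cm := h.comm.is_comm.comm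
  obtain ⟨f, rfl⟩ := hl.exists_linear_of_comm cm
  have inj : Function.Injective fun k : M => k⁻¹ * cE (le_refl 𝒩(M)) g k := fun a b e => by
    by_contra ne
    have e1 : cE (le_refl 𝒩(M)) g (b * a⁻¹) = b * a⁻¹ := by
      simp only [inv_mul_eq_iff_eq_mul] at e
      rw [map_mul, map_inv, e, mul_inv_rev, mul_inv_rev, inv_inv]
      group
    refine ng (h.cent _ (b * a⁻¹).2 (fun k => ne (mul_inv_eq_one.1 (Subtype.ext k)).symm) ?_)
    have e2 := congrArg Subtype.val e1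
    rw [cE_coe, mul_inv_eq_iff_eq_mul] at e2
    exact mem_C₁.2 e2.symm
  refine l1 (funext fun k => ?_)
  obtain ⟨u, rfl⟩ := Finite.surjective_of_injective inj k
  have := congrFun hg u
  simp only [Units.val_inj] at this
  simp [this]

theorem prod (χ : IrrCharacter G) {y : G} (hy : y ∈ M) (y1 : y ≠ 1) :
    χ.1 1 * χ.1 (x * y) = χ.1 x * χ.1 y := by
  have h1 := H19.sum_conj_mul χ x y
  rw [Finset.sum_congr rfl fun g _ => (H18.isClass_isConj χ.2.isClassFunction (h.h3 y hy y1 g)).symm,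
    Finset.sum_const, Finset.card_univ, ← Nat.card_eq_fintype_card, nsmul_eq_mul, mul_assoc,
    mul_div_assoc] at h1
  rw [mul_left_cancel₀ (H18.card_ne_zero G) h1, mul_div_cancel₀ _ χ.2.one_ne_zero]

theorem eqc {χ : IrrCharacter G} (hχ : χ.1 x ≠ 0) {lam mu : M → ℂ} (hl : IsIrrCharacter M lam)
    (hm : IsIrrCharacter M mu) (l1 : lam ≠ fun _ => 1) (m1 : mu ≠ fun _ => 1) :
    classInner lam (fun k : M => χ.1 k) = classInner mu (fun k : M => χ.1 k) := by
  by_cases e : ∃ g : 𝒩(M), (fun k => lam (cE le_rfl g k)) = mu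
  · obtain ⟨g, rfl⟩ := e
    exact (inner_cE le_rfl g lam χ.2.isClassFunction).symm
  by_cases e' : ∃ g : 𝒩(M), (fun k => mu (cE le_rfl g k)) = lam
  · obtain ⟨g, rfl⟩ := e'
    exact inner_cE le_rfl g mu χ.2.isClassFunction
  push Not at e e'
  have cm := h.comm.is_comm.comm
  have d1 : lam 1 = mu 1 := by
    obtain ⟨f, rfl⟩ := hl.exists_linear_of_comm cm
    obtain ⟨f', rfl⟩ := hm.exists_linear_of_comm cm
    simp
  have n2 := norm_two le_normalizer le_rfl (ti h.comm h.cent) hl hm d1 (h.reg hl l1) (h.reg hm m1) e e'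
  have hg := (hl.isGen.sub hm.isGen).ind
  have b1 : indFun M (lam - mu) 1 = 0 := by rw [indFun_one, Pi.sub_apply, d1, sub_self, mul_zero]
  rw [← sub_eq_zero, ← classInner_sub_left, ← frobenius_reciprocity _ χ.2.isClassFunction]
  set β := indFun M (lam - mu) with hβ
  obtain ⟨m, hm1, hm2⟩ := hg.exists_coeff
  choose d hd using fun ψ : IrrCharacter G => ψ.2.isCharacter.exists_nat_one
  obtain ⟨a, -, b, -, ab, hab⟩ := H19.norm_two (B := Finset.univ) (v := m) (d := fun ψ => d ψ)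
    (by exact_mod_cast (inner_eq_sum_coeff hg.isClassFunction hm1 hm1).symm.trans n2)
    (fun ψ => by
      have := ψ.2.one_ne_zero
      rw [hd] at this
      exact_mod_cast Nat.pos_of_ne_zero (by exact_mod_cast this))
    (by
      rw [hm2, Finset.sum_apply] at b1
      simp only [Pi.smul_apply, smul_eq_mul, hd] at b1
      exact_mod_cast b1)
  have hs : β = a.1 - b.1 := eq_sub_of_norm_two hg n2 ab
    (by rw [hm1, hab a (Finset.mem_univ _)]; simp [ab])
    (by rw [hm1, hab b (Finset.mem_univ _)]; simp [ab.symm])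
  have v : ∀ g, β g = 0 → a.1 g = b.1 g := fun g k => by rwa [hs, Pi.sub_apply, sub_eq_zero] at k
  have v1 := v x (indFun_eq_zero_of_forall _ fun k hk => absurd hk (h.h1 k k.2))
  have v2 : a.1 x = 0 := by
    by_contra k
    have z : (fun k : M => β k) = 0 := funext fun y => by
      by_cases y1 : (y : G) = 1
      · rw [y1]; exact b1
      have p1 := h.prod a y.2 y1
      rw [v 1 b1, v _ (indFun_eq_zero_of_forall _ fun k hk => absurd hk (h.h2 y y.2 y1 k k.2)),
        h.prod b y.2 y1, ← v1] at p1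
      rw [hs, Pi.sub_apply, ← mul_left_cancel₀ k p1, sub_self, Pi.zero_apply]
    rw [frobenius_reciprocity _ hg.isClassFunction, z, H18.inner_zero_right] at n2
    norm_num at n2
  rw [hm1, hab χ (Finset.mem_univ _), if_neg (fun k : χ = a => hχ (k ▸ v2)),
    if_neg (fun k : χ = b => hχ (k ▸ v1 ▸ v2))]
  simp

theorem const [Nontrivial M] {χ : IrrCharacter G} (hχ : χ.1 x ≠ 0) :
    ∃ b : ℤ, ∀ y ∈ M, y ≠ 1 → χ.1 y = b := by
  classical
  obtain ⟨u, hu⟩ := exists_ne (1 : M)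
  obtain ⟨mu, hm, m1⟩ := exists_irr_apply_ne hu
  have m2 : mu ≠ fun _ => 1 := by rintro rfl; exact m1 rfl
  have hg := χ.2.isGen.restrict M
  obtain ⟨a, ha⟩ := hg.inner_int isGen_one
  obtain ⟨c, hc⟩ := hg.inner_int hm.isGen
  refine ⟨a - c, fun y hy y1 => ?_⟩
  have h1 := hg.isClassFunction.apply_eq_sum ⟨y, hy⟩
  have h2 := sum_irr_one_mul_of_ne (g := (⟨y, hy⟩ : M)) fun k => y1 (congrArg Subtype.val k)
  have h3 : ∑ lam : IrrCharacter M, (classInner (fun k : M => χ.1 k) lam - c * lam.1 1) *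
      lam.1 ⟨y, hy⟩ = a - c := by
    rw [Finset.sum_eq_single ⟨_, isIrr_one⟩ (fun lam _ ne => ?_) (by simp)]
    · simp [ha]
    · rw [hg.inner_comm lam.2.isGen, h.eqc hχ lam.2 hm (fun k => ne (Subtype.ext k)) m2,
        ← hg.inner_comm hm.isGen, hc]
      obtain ⟨f, hf⟩ := lam.2.exists_linear_of_comm h.comm.is_comm.comm
      simp [hf]
  simp only [sub_mul, Finset.sum_sub_distrib, mul_assoc, ← Finset.mul_sum, h2, ← h1] at h3
  simpa using h3

theorem bound [Nontrivial M] {e : ℕ} (he : Nat.card 𝒩(M) = e * Nat.card M) (hn : e + 1 < Nat.card M) :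
    ∃ b : IrrCharacter G → ℤ, ∑ χ, b χ ^ 2 ≤ e ∧
      ∀ χ : IrrCharacter G, ∀ y ∈ M, y ≠ 1 → χ.1 1 * χ.1 (x * y) = χ.1 x * b χ := by
  classical
  have h0 : ∀ χ : IrrCharacter G, ∃ b : ℤ, (χ.1 x = 0 ∧ b = 0) ∨ ∀ y ∈ M, y ≠ 1 → χ.1 y = b := fun χ => by
    by_cases k : χ.1 x = 0
    exacts [⟨0, Or.inl ⟨k, rfl⟩⟩, (h.const k).imp fun _ => Or.inr]
  choose b hb using h0
  refine ⟨b, ?_, fun χ y hy y1 => ?_⟩
  swap
  · rw [h.prod χ hy y1]
    rcases hb χ with k | k
    · rw [k.1, zero_mul, zero_mul]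
    · rw [k y hy y1]
  let θ : M → ℂ := fun k => if k = 1 then 0 else 1
  obtain ⟨n, hn'⟩ : ∃ n, Nat.card M = n + 1 := ⟨_, (Nat.succ_pred_eq_of_pos Nat.card_pos).symm⟩
  have n0 : ((n : ℂ) + 1) ≠ 0 := by exact_mod_cast n.succ_ne_zero
  have k1 : ∀ (φ : M → ℂ) (c : ℝ), (∀ y, y ≠ 1 → φ y = c) →
      classInner θ φ = ((n * c / (n + 1) : ℝ) : ℂ) := fun φ c hφ => by
    have : ∀ y, θ y * conj (φ y) = c - if y = 1 then (c : ℂ) else 0 := fun y => by
      by_cases y1 : y = 1 <;> simp [θ, y1, hφ]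
    rw [classInner, Finset.sum_congr rfl fun y _ => this y, Finset.sum_sub_distrib, Finset.sum_const,
      Finset.card_univ, ← Nat.card_eq_fintype_card, hn']
    simp only [Finset.sum_ite_eq', Finset.mem_univ, if_true, nsmul_eq_mul]
    push_cast
    field_simp
    ring
  have k2 : classInner (indFun M θ) (indFun M θ) = ((n * e / (n + 1) : ℝ) : ℂ) := by
    rw [frobenius_reciprocity _ (isClassFunction_indFun θ)]
    refine k1 _ e fun y y1 => ?_
    rw [congrFun (ind_TI le_rfl (ti h.comm h.cent) (θ := θ) (by simp [θ])) y, Pi.smul_apply,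
      Finset.sum_apply]
    simp only [θ, EmbeddingLike.map_eq_one_iff, y1, if_false,
      Finset.sum_const, Finset.card_univ, ← Nat.card_eq_fintype_card, he, hn', smul_eq_mul,
      nsmul_eq_mul]
    push_cast
    field_simp
  rw [(isClassFunction_indFun θ).inner_eq_sum] at k2
  simp only [Complex.mul_conj, ← Complex.ofReal_sum, Complex.ofReal_inj] at k2
  have k3 : ∑ χ, ((n : ℝ) * (b χ : ℝ) / (n + 1)) ^ 2 ≤ (n : ℝ) * e / (n + 1) := by
    rw [← k2]
    refine Finset.sum_le_sum fun χ _ => ?_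
    rcases hb χ with k | k
    · simp [k.2, Complex.normSq_nonneg]
    · rw [frobenius_reciprocity _ χ.2.isClassFunction, k1 _ (b χ) fun y y1 =>
        (k y y.2 fun e => y1 (Subtype.ext e)).trans (by simp), Complex.normSq_ofReal, sq]
  simp only [div_pow, mul_pow, ← Finset.sum_div, ← Finset.mul_sum] at k3
  have n1 : (0 : ℝ) < n := by exact_mod_cast (by omega : 0 < n)
  have k4 : (n : ℝ) * ∑ χ, (b χ : ℝ) ^ 2 ≤ e * (n + 1) := by
    rw [div_le_div_iff₀ (by positivity) (by positivity)] at k3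
    refine le_of_mul_le_mul_left (a := (n : ℝ) * (n + 1)) ?_ (by positivity)
    nlinarith
  have k5 : (n : ℤ) * ∑ χ, b χ ^ 2 ≤ e * (n + 1) := by exact_mod_cast k4
  have k6 : (e : ℤ) < n := by exact_mod_cast (by omega : e < n)
  by_contra k
  nlinarith

theorem lt [IsSimpleGroup G] (hZ : center G = ⊥) {e : ℕ} (he : Nat.card 𝒩(M) = e * Nat.card M)
    (hn : e + 1 < Nat.card M) {y : G} (hy : y ∈ M) (y1 : y ≠ 1) : Nat.card C₁(x * y) < e := by
  haveI : Nontrivial M := ⟨⟨⟨y, hy⟩, 1, fun k => y1 (congrArg Subtype.val k)⟩⟩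
  obtain ⟨b, h1, h2⟩ := h.bound he hn
  by_contra l
  have h3 := sum_normSq_irr (x * y)
  have d0 : ∀ χ : IrrCharacter G, 0 < ‖χ.1 1‖ := fun χ => norm_pos_iff.2 χ.2.one_ne_zero
  have h4 : ∀ χ : IrrCharacter G, ‖χ.1 1‖ ^ 2 * ‖χ.1 (x * y)‖ ^ 2 = ‖χ.1 x‖ ^ 2 * (b χ : ℝ) ^ 2 :=
    fun χ => by
      rw [← mul_pow, ← norm_mul, h2 χ y hy y1, norm_mul, mul_pow, Complex.norm_intCast, sq_abs]
  have h5 : ∀ χ ∈ (Finset.univ : Finset (IrrCharacter G)), ‖χ.1 (x * y)‖ ^ 2 ≤ (b χ : ℝ) ^ 2 :=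
    fun χ _ => le_of_mul_le_mul_left (h4 χ ▸ mul_le_mul_of_nonneg_right
      (pow_le_pow_left₀ (norm_nonneg _) (χ.2.isCharacter.norm_le_norm_one x) 2) (sq_nonneg _))
      (pow_pos (d0 χ) 2)
  have h6 := (Finset.sum_eq_sum_iff_of_le h5).1 (le_antisymm (Finset.sum_le_sum h5) (by
    rw [h3]
    exact_mod_cast h1.trans (by exact_mod_cast not_lt.1 l)))
  rw [Finset.sum_eq_single ⟨_, isIrr_one⟩ (fun χ hχ ne => ?_) (by simp)] at h3
  · have h7 : Nat.card C₁(x * y) = 1 := by simpa using h3.symm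
    have h8 : x * y = 1 := mem_bot.1 (card_eq_one.1 h7 ▸ mem_C₁.2 (Commute.refl _))
    exact h.h2 y hy y1 1 (one_mem _) (h8 ▸ IsConj.refl _)
  · by_contra k
    have h7 := h4 χ
    rw [← h6 χ hχ] at h7
    have h8 := (pow_left_inj₀ (norm_nonneg _) (norm_nonneg _) two_ne_zero).1
      (mul_right_cancel₀ k h7)
    obtain ⟨d, hd⟩ := χ.2.isCharacter.exists_nat_one
    have h9 := (χ.2.isCharacter.mem_charCenter' hd).2 (by rw [← h8, hd, Complex.norm_natCast])
    rw [χ.2.charCenter_eq_center (χ.2.charKer_eq_bot_of_simple fun k => ne (Subtype.ext k)), hZ,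
      mem_bot] at h9
    exact h.h1 1 (one_mem _) (h9 ▸ IsConj.refl _)

end Cf

end H26.CS
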