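import Cfsg.Agent.H26.CS2
import Cfsg.Agent.H3.Cs3
import Cfsg.Agent.H4.Dk6
import Cfsg.Agent.H4.GamL1
import Cfsg.Agent.H2.Z2
import Cfsg.Agent.H18.Small
import Cfsg.Agent.H10.GG1
import Cfsg.Agent.H1.CIT11
import Cfsg.Agent.S3214
import Cfsg.Agent.S2507
import Cfsg.Agent.S2508

/-! Groups with the class sizes of `PSL₂(q)`: identification and splitting. -/

set_option autoImplicit false
set_option linter.unusedSectionVars false

namespace H26.CS

open Subgroup _root_.Cfsg H3.Pt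
open scoped MatrixGroups commutatorElement
open H4 (pmk smk pL pT pN psl2pgl Dih Four V4)

local notation "C₁(" x ")" => Subgroup.centralizer (Singleton.singleton x : Set _)

theorem cube_lt {a b : ℕ} (h : a < b) (h1 : 1 < b) : a * (a ^ 2 - 1) < b * (b ^ 2 - 1) := by
  have h2 : a ^ 2 < b ^ 2 := Nat.pow_lt_pow_left h two_ne_zero
  have h3 : 1 ^ 2 < b ^ 2 := Nat.pow_lt_pow_left h1 two_ne_zero
  exact Nat.mul_lt_mul_of_lt_of_le h (by omega) (by omega)

theorem cube_inj {a b : ℕ} (ha : 1 < a) (hb : 1 < b) (h : a * (a ^ 2 - 1) = b * (b ^ 2 - 1)) :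
    a = b := by
  rcases lt_trichotomy a b with l | l | l
  exacts [absurd h (cube_lt l hb).ne, l, absurd h (cube_lt l ha).ne']

theorem mix {a b j : ℕ} (ha : Odd a) (hb : b = 2 ^ j) (b4 : 4 ≤ b)
    (h : a * (a ^ 2 - 1) = 2 * (b * (b ^ 2 - 1))) : a = 5 ∧ b = 4 := by
  obtain ⟨c, rfl⟩ := ha
  have cp : ∀ {u : ℕ}, Odd u → b.Coprime u := fun hu =>
    hb ▸ (Nat.coprime_two_left.2 hu).pow_left _
  obtain ⟨s, hs⟩ : ∃ s, b ^ 2 = s + 1 := ⟨b ^ 2 - 1, by have : 0 < b ^ 2 := by positivity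
                                                        omega⟩
  rw [show (2 * c + 1) ^ 2 - 1 = 2 * (2 * c * (c + 1)) from Nat.sub_eq_of_eq_add (by ring), hs,
    Nat.add_sub_cancel] at h
  have h1 : (2 * c + 1) * (2 * c * (c + 1)) = b * s := by linarith
  have h2 : b ∣ 2 * c * (c + 1) := (cp ⟨c, rfl⟩).dvd_of_dvd_mul_left ⟨s, h1⟩
  have c0 : 0 < c := by
    rcases Nat.eq_zero_or_pos c with rfl | c0
    · nlinarith
    · exact c0
  have big : ¬ b ≤ c + 1 := fun l => by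
    have h3 : b ^ 2 ≤ (c + 1) ^ 2 := Nat.pow_le_pow_left l 2
    have h4 : b * s ≤ (c + 1) * (c * (c + 2)) := Nat.mul_le_mul l (by nlinarith)
    nlinarith
  have key : ∀ u t, u = b * t → 0 < u → u ≤ 2 * (c + 1) → u = b := fun u t e u0 ul => by
    have : t < 2 := by
      by_contra t2
      have : b * 2 ≤ b * t := Nat.mul_le_mul_left _ (by omega)
      omega
    interval_cases t <;> omega
  rcases Nat.even_or_odd c with e | e
  · obtain ⟨t, ht⟩ := (cp e.add_one).dvd_of_dvd_mul_right h2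
    have h3 := key _ t ht (by omega) (by omega)
    subst h3
    have h4 : (2 * c + 1) * (c + 1) = s :=
      Nat.eq_of_mul_eq_mul_left (show 0 < 2 * c by omega) (by linarith)
    have h5 : (2 * c + 1) * (c + 1) = (2 * c + 1) * (2 * c - 1) := by
      obtain ⟨c, rfl⟩ : ∃ c', c = c' + 1 := ⟨c - 1, by omega⟩
      rw [show 2 * (c + 1) - 1 = 2 * c + 1 by omega]
      linarith
    have := Nat.eq_of_mul_eq_mul_left (by omega) h5
    omega
  · rw [show 2 * c * (c + 1) = 2 * (c + 1) * c by ring] at h2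
    obtain ⟨t, ht⟩ := (cp e).dvd_of_dvd_mul_right h2
    have h3 := key _ t ht (by omega) (by omega)
    subst h3
    have h4 : (2 * c + 1) * c = s :=
      Nat.eq_of_mul_eq_mul_left (show 0 < 2 * (c + 1) by omega) (by linarith)
    nlinarith

theorem card_two {F : Type*} [Field F] [Fintype F] (h : ¬ Odd (Fintype.card F)) :
    ∃ j, Fintype.card F = 2 ^ j := by
  obtain ⟨p, _, n, hp, e⟩ := FiniteField.card' F
  rw [Nat.not_odd_iff_even, even_iff_two_dvd, e] at h
  exact ⟨n, by rw [e, (Nat.prime_dvd_prime_iff_eq Nat.prime_two hp).1 (Nat.prime_two.dvd_of_dvd_pow h)]⟩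

theorem two_zero {F : Type*} [Field F] [Fintype F] (h : ¬ Odd (Fintype.card F)) : (2 : F) = 0 := by
  rw [Nat.not_odd_iff, ← FiniteField.even_card_iff_char_two] at h
  exact_mod_cast (ringChar.spec F 2).2 (h ▸ dvd_rfl)

theorem three_dvd (q : ℕ) : 3 ∣ q * (q ^ 2 - 1) := by
  rcases q with _ | q
  · simp
  rw [show (q + 1) ^ 2 - 1 = q * (q + 2) from Nat.sub_eq_of_eq_add (by ring)]
  have : q % 3 = 0 ∨ (q + 1) % 3 = 0 ∨ (q + 2) % 3 = 0 := by omega
  rcases this with e | e | e <;> have := Nat.dvd_of_mod_eq_zero e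
  exacts [(this.mul_right _).mul_left _, this.mul_right _, (this.mul_left _).mul_left _]

theorem Nm.par' {k q d h : ℕ} (n : Nm k q d h) : (k = 1 ∧ ¬ Odd q) ∨ (k = 2 ∧ Odd q) := by
  refine n.par.imp_left fun ⟨h1, h2⟩ => ⟨h1, fun o => ?_⟩
  have h3 := o.pow (n := 2)
  rw [← n.eq, h1, one_mul] at h3
  exact Nat.not_even_iff_odd.2 h3 (n.dodd.mul h2).add_one

variable {G : Type*} [Group G] [Finite G]

theorem Xs.iso {k d h : ℕ} {F : Type*} [Field F] [Fintype F] (s : Xs G k (Fintype.card F) d h) :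
    Nonempty (G ≃* PSL(2, F)) := by
  have n := s.nm
  haveI := s.simple
  have q4 := n.q4
  have c : k * Nat.card G = Fintype.card F * (Fintype.card F ^ 2 - 1) := by
    rw [s.card, ← n.eq, Nat.add_sub_cancel]; ring
  have big : ∀ m, Nat.card G = m → m ≤ 20160 → Fintype.card F < 40 := fun m hm l => by
    by_contra b
    have h1 := cube_lt (show 39 < Fintype.card F by omega) (by omega)
    rcases n.k12 with rfl | rfl <;> omega
  rcases Cfsg.Agent.S3214.result s.not_comm s.npc with ⟨K, _, _, h3, ⟨e⟩⟩ | h | ⟨⟨e⟩⟩ |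
    ⟨K, _, _, h4, ⟨e⟩⟩
  · have c' := H4.card_psl (F := K)
    rw [← Nat.card_congr e.toEquiv] at c'
    have a5 : (Fintype.card F = 4 ∨ Fintype.card F = 5) → (Fintype.card K = 4 ∨ Fintype.card K = 5) →
        Nonempty (G ≃* PSL(2, F)) := fun h1 h2 =>
      ⟨(e.trans (H18.psl_a5 h2).some).trans (H18.psl_a5 h1).some.symm⟩
    have eq : Fintype.card K = Fintype.card F → Nonempty (G ≃* PSL(2, F)) := fun h1 =>
      ⟨e.trans (H2.z_psl_congr h1 2).some⟩
    by_cases o : Odd (Fintype.card K)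
    · rw [H4.gcd_eq_two (Nat.odd_iff.1 o)] at c'
      rcases n.par' with ⟨rfl, o'⟩ | ⟨rfl, o'⟩
      · obtain ⟨j, hj⟩ := card_two o'
        have := mix o hj q4 (by omega)
        exact a5 (by omega) (by omega)
      · exact eq (cube_inj (by omega) (by omega) (by omega))
    · rw [H4.gcd_eq_one (by rwa [Nat.not_odd_iff] at o) (by omega)] at c'
      rcases n.par' with ⟨rfl, o'⟩ | ⟨rfl, o'⟩
      · exact eq (cube_inj (by omega) (by omega) (by omega))
      · obtain ⟨j, hj⟩ := card_two o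
        have := mix o' hj h3 (by omega)
        exact a5 (by omega) (by omega)
  · refine absurd ?_ (H10.not_three_dvd_sz h)
    have := three_dvd (Fintype.card F)
    rcases n.k12 with rfl | rfl <;> omega
  · exfalso
    have h1 : Nat.card G = 2520 := by
      rw [Nat.card_congr e.toEquiv, nat_card_alternatingGroup]; simp [Nat.factorial]
    have h2 := big _ h1 (by norm_num)
    rw [h1] at c
    generalize Fintype.card F = q at c h2 q4
    rcases n.k12 with rfl | rfl <;> interval_cases q <;> omega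
  · exfalso
    have h1 : Nat.card G = 20160 := by
      rw [Nat.card_congr (e.trans (H2.z_psl_congr (h4.trans H1.CIT.card_F4.symm) 3).some).toEquiv,
        H1.CIT.card_psl34]
    have h2 := big _ h1 (by norm_num)
    rw [h1] at c
    generalize Fintype.card F = q at c h2 q4
    rcases n.k12 with rfl | rfl <;> interval_cases q <;> omega

theorem Sz.of_range {k q d h : ℕ} (n : Nm k q d h) (hr : ∀ m, (∃ g : G, C₁(g).index = m) ↔
    m = 1 ∨ m = d * h ∨ m = q * h ∨ m = q * d ∨ m = k * (q * d)) : Sz G k q d h := by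
  have key : ∀ a b, 1 < a → (∃ g : G, C₁(g).index = a * b) → ∃ g ∉ center G, C₁(g).index = a * b := by
    rintro a b ha ⟨g, hg⟩
    refine ⟨g, fun k => ?_, hg⟩
    rw [H8.index_centralizer_eq_one_iff.2 k] at hg
    have := Nat.eq_one_of_mul_eq_one_right hg.symm
    omega
  have q4 := n.q4
  exact ⟨n, fun x hx => ((hr _).1 ⟨x, rfl⟩).resolve_left (H8.index_centralizer_eq_one_iff.not.2 hx),
    key _ _ n.d1 ((hr _).2 (by simp)), key _ _ (by omega) ((hr _).2 (by simp)),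
    key _ _ (by omega) ((hr _).2 (by simp))⟩

theorem exists_sz {F : Type*} [Field F] [Fintype F]
    (hq : (2 ∣ Fintype.card F ∧ 2 < Fintype.card F) ∨ (¬ 2 ∣ Fintype.card F ∧ 7 ≤ Fintype.card F))
    (h : Set.range (fun g : G => C₁(g).index) = Set.range (fun g : PSL(2, F) => C₁(g).index)) :
    ∃ k d h, Sz G k (Fintype.card F) d h := by
  rcases hq with ⟨h1, h2⟩ | ⟨h1, h2⟩
  · rw [Cfsg.Agent.S2507.result h1 (by omega)] at h
    generalize Fintype.card F = q at *
    obtain ⟨c, rfl⟩ : ∃ c, q = 2 * c + 4 := ⟨q / 2 - 2, by omega⟩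
    refine ⟨1, 2 * c + 5, 2 * c + 3, Sz.of_range ⟨Or.inl ⟨rfl, ⟨c + 1, by ring⟩⟩, by ring, by omega,
      by omega, by omega, by omega, by omega, ⟨c + 2, by ring⟩, ?_, ?_⟩ fun m => ?_⟩
    · exact (Nat.modEq_iff_dvd' (by nlinarith)).2 ⟨2 * c + 2, Nat.sub_eq_of_eq_add (by ring)⟩ |>.symm
    · rw [show 2 * c + 5 = 2 + (2 * c + 3) by ring, Nat.coprime_add_self_left]
      exact Nat.coprime_two_left.2 ⟨c + 1, by ring⟩
    · rw [← Set.mem_range, h, show (2 * c + 4) ^ 2 - 1 = (2 * c + 5) * (2 * c + 3) from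
        Nat.sub_eq_of_eq_add (by ring), show 2 * c + 4 - 1 = 2 * c + 3 by omega, one_mul]
      simp only [Set.mem_insert_iff, Set.mem_singleton_iff]
      tauto
  · have h3 := Cfsg.Agent.S2508.result h1 h2
    rw [← h] at h3
    clear h
    generalize Fintype.card F = q at *
    rcases (by omega : q % 4 = 1 ∨ q % 4 = 3) with e | e
    · have h := h3.1 e
      obtain ⟨c, rfl⟩ : ∃ c, q = 4 * c + 5 := ⟨q / 4 - 1, by omega⟩
      refine ⟨2, 2 * c + 3, 4 * c + 4, Sz.of_range ⟨Or.inr ⟨rfl, ⟨2 * c + 2, by ring⟩⟩, by ring,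
        by omega, by omega, by omega, by omega, by omega, ⟨c + 1, by ring⟩, ?_, ?_⟩ fun m => ?_⟩
      · exact (Nat.modEq_iff_dvd' (by nlinarith)).2 ⟨8 * c + 6, Nat.sub_eq_of_eq_add (by ring)⟩ |>.symm
      · rw [show 4 * c + 4 = 2 * (2 * c + 2) by ring]
        refine Nat.Coprime.mul_right (Nat.coprime_two_right.2 ⟨c + 1, by ring⟩) ?_
        simp [show 2 * c + 3 = 1 + (2 * c + 2) by ring]
      · rw [← Set.mem_range, h, show (4 * c + 5) ^ 2 - 1 = (2 * c + 3) * (4 * c + 4) * 2 from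
          Nat.sub_eq_of_eq_add (by ring), show 4 * c + 5 - 1 = 4 * c + 4 by omega,
          show (4 * c + 5) * (4 * c + 5 + 1) = (4 * c + 5) * (2 * c + 3) * 2 by ring,
          Nat.mul_div_cancel _ two_pos, Nat.mul_div_cancel _ two_pos, mul_comm _ 2]
        simp only [Set.mem_insert_iff, Set.mem_singleton_iff]
        tauto
    · have h := h3.2 e
      obtain ⟨c, rfl⟩ : ∃ c, q = 4 * c + 7 := ⟨q / 4 - 1, by omega⟩
      refine ⟨2, 2 * c + 3, 4 * c + 8, Sz.of_range ⟨Or.inr ⟨rfl, ⟨2 * c + 3, by ring⟩⟩, by ring,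
        by omega, by omega, by omega, by omega, by omega, ⟨c + 1, by ring⟩, ?_, ?_⟩ fun m => ?_⟩
      · exact (Nat.modEq_iff_dvd' (by nlinarith)).2 ⟨8 * c + 18, Nat.sub_eq_of_eq_add (by ring)⟩ |>.symm
      · rw [show 4 * c + 8 = 2 * (1 + (2 * c + 3)) by ring]
        refine Nat.Coprime.mul_right (Nat.coprime_two_right.2 ⟨c + 1, by ring⟩) ?_
        simp
      · rw [← Set.mem_range, h, show (4 * c + 7) ^ 2 - 1 = (2 * c + 3) * (4 * c + 8) * 2 from
          Nat.sub_eq_of_eq_add (by ring), show 4 * c + 7 + 1 = 4 * c + 8 by omega,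
          show (4 * c + 7) * (4 * c + 7 - 1) = (4 * c + 7) * (2 * c + 3) * 2 by
            rw [show 4 * c + 7 - 1 = 4 * c + 6 by omega]; ring,
          Nat.mul_div_cancel _ two_pos, Nat.mul_div_cancel _ two_pos, mul_comm _ 2]
        simp only [Set.mem_insert_iff, Set.mem_singleton_iff]
        tauto

section
variable {X : Type*} [Group X] {F : Type*} [Field F] [Fintype F]

theorem ct (φ : X →* PGL(2, F)) (hφ : Function.Injective φ) {z a b : X} (z1 : z ≠ 1)
    (h : (2 : F) = 0 ∨ z * z ≠ 1) (ha : Commute a z) (hb : Commute b z) : Commute a b := by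
  obtain ⟨g, hg⟩ := Matrix.ProjGenLinGroup.mk_surjective (φ z)
  have z2 : φ z ≠ 1 := fun k => z1 ((injective_iff_map_eq_one φ).1 hφ _ k)
  have ns : ¬ H4.Sc g.1 := fun k => z2 (hg ▸ H4.pmk_eq_one_iff.2 k)
  have h' : (2 : F) = 0 ∨ φ z * φ z ≠ 1 :=
    h.imp_right fun h k => h ((injective_iff_map_eq_one φ).1 hφ _ (by rwa [map_mul]))
  have h1 := mem_pT' ns (hg ▸ H4.pmk_mem_pT_self g) z2 h' (ha.map φ)
  have h2 := mem_pT' ns (hg ▸ H4.pmk_mem_pT_self g) z2 h' (hb.map φ)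
  refine Commute.of_map hφ ?_
  obtain ⟨x, hx⟩ := Matrix.ProjGenLinGroup.mk_surjective (φ a)
  obtain ⟨y, hy⟩ := Matrix.ProjGenLinGroup.mk_surjective (φ b)
  rw [← hx] at h1 ⊢
  rw [← hy] at h2 ⊢
  obtain ⟨c, d, e⟩ := (H4.comm_iff ns).1 (H4.pmk_mem_pT.1 h1)
  obtain ⟨c', d', e'⟩ := (H4.comm_iff ns).1 (H4.pmk_mem_pT.1 h2)
  refine Commute.map (Units.ext ?_) pmk
  rw [Units.val_mul, Units.val_mul, e, e']
  simp only [add_mul, mul_add, smul_mul_smul_comm, one_mul, mul_one, mul_comm c, mul_comm d]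
  abel

theorem dih (φ : X →* PGL(2, F)) (hφ : Function.Injective φ) (h2 : (2 : F) ≠ 0) {t : X}
    (ht : orderOf t = 2) : ∃ T, Dih T C₁(t) := by
  obtain ⟨g, hg, tr⟩ := H4.exists_trace_zero ((orderOf_injective φ hφ t).trans ht)
  exact ⟨_, ((H4.dih_pN (H4.disc_of_trace_zero h2 tr)).comap hφ).mono fun y hy =>
    (H4.commute_iff_mem_pN tr).1 (hg ▸ (Commute.map (mem_centralizer_singleton_iff.1 hy) φ))⟩

theorem four (φ : X →* PGL(2, F)) (hφ : Function.Injective φ) (hL : pL F ≤ φ.range)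
    (h2 : (2 : F) ≠ 0) : ∃ a b : X, Four a b ∧ ∀ g, Commute g a → Commute g b → g * g = 1 := by
  obtain ⟨a, ha, b, hb, h, -⟩ := H4.exists_four_mem h2 (⊤ : Subfield F)
  have ha' := H4.pslS_le_pL _ ha
  have hb' := H4.pslS_le_pL _ hb
  obtain ⟨a, rfl⟩ := hL ha'
  obtain ⟨b, rfl⟩ := hL hb'
  refine ⟨a, b, h.of_map hφ, fun g h1 h3 => (injective_iff_map_eq_one φ).1 hφ _ ?_⟩
  have := h.klein.mul_self ⟨_, H4.four_cent h2 ha' hb' h _ (h1.map φ) (h3.map φ)⟩
  rw [map_mul]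
  exact congrArg Subtype.val this

end

theorem comm_of_cyc {a x y : G} (hx : (x : G ⧸ center G) ∈ zpowers (a : G ⧸ center G))
    (hy : (y : G ⧸ center G) ∈ zpowers (a : G ⧸ center G)) : Commute x y := by
  obtain ⟨i, hi⟩ := mem_zpowers_iff.1 hx
  obtain ⟨j, hj⟩ := mem_zpowers_iff.1 hy
  rw [← QuotientGroup.mk_zpow, QuotientGroup.eq] at hi hj
  have c : ∀ {u : G} (v : G), u ∈ center G → Commute v u := fun v hu => mem_center_iff.1 hu v
  rw [← mul_inv_cancel_left (a ^ i) x, ← mul_inv_cancel_left (a ^ j) y]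
  exact (((Commute.refl a).zpow_zpow i j).mul_right (c _ hj)).mul_left (c _ hi).symm

theorem dih_comm {T K : Subgroup (G ⧸ center G)} (h : Dih T K)
    (hI : ∀ b : G, orderOf (b : G ⧸ center G) = 2 → D b ≤ C₁(b)) {z : G} (hz : z ∈ center G)
    (hK : z ∈ ⁅K.comap (QuotientGroup.mk' _), K.comap (QuotientGroup.mk' _)⁆) : z = 1 := by
  obtain ⟨a, rfl⟩ := h.exists_gen
  obtain ⟨a, rfl⟩ := QuotientGroup.mk_surjective a
  rcases h.eq_or with e | ⟨s, hs, ns⟩
  · rw [← e, commutator_eq_bot_iff_le_centralizer.2 fun x hx => mem_centralizer_iff.2 fun y hy =>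
      comm_of_cyc hy hx] at hK
    exact hK
  obtain ⟨s, rfl⟩ := QuotientGroup.mk_surjective s
  set A := (zpowers (a : G ⧸ center G)).comap (QuotientGroup.mk' (center G)) with hA
  have cA : ∀ {x y}, x ∈ A → y ∈ A → Commute x y := fun hx hy => comm_of_cyc hx hy
  have nA : ∀ {x}, x ∈ A → s * x * s⁻¹ ∈ A := fun {x} hx => by
    change ((s * x * s⁻¹ : G) : G ⧸ center G) ∈ zpowers _
    rw [QuotientGroup.mk_mul, QuotientGroup.mk_mul, QuotientGroup.mk_inv, h.inv _ hs ns (x : G ⧸ center G) hx]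
    exact inv_mem hx
  let B : Subgroup G :=
    { carrier := {w | ∃ x ∈ A, w = x * (s * x⁻¹ * s⁻¹)}
      one_mem' := ⟨1, one_mem _, by simp⟩
      mul_mem' := by
        rintro _ _ ⟨x, hx, rfl⟩ ⟨y, hy, rfl⟩
        refine ⟨x * y, mul_mem hx hy, ?_⟩
        rw [mul_assoc x, ← mul_assoc _ y, (cA (nA (inv_mem hx)) hy).eq, mul_inv_rev,
          (cA (inv_mem hy) (inv_mem hx)).eq]
        group
      inv_mem' := by
        rintro _ ⟨x, hx, rfl⟩
        refine ⟨x⁻¹, inv_mem hx, ?_⟩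
        rw [inv_inv, (cA (inv_mem hx) (nA hx)).eq]
        group }
  have dec : ∀ x ∈ K.comap (QuotientGroup.mk' (center G)), x ∈ A ∨ ∃ y ∈ A, x = y * s := fun x hx => by
    by_cases k : x ∈ A
    · exact Or.inl k
    · exact Or.inr ⟨x * s⁻¹, h.mul _ hx k _ (inv_mem hs) fun k => ns (inv_mem_iff.1 k), by group⟩
  have m1 : ∀ x ∈ A, ∀ y ∈ A, ⁅x, y * s⁆ ∈ B := fun x hx y hy => ⟨x, hx, by
    rw [commutatorElement_def, show x * (y * s) * x⁻¹ * (y * s)⁻¹ = x * (y * (s * x⁻¹ * s⁻¹)) * y⁻¹ by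
      group, (cA hy (nA (inv_mem hx))).eq]
    group⟩
  have l : ⁅K.comap (QuotientGroup.mk' (center G)), K.comap (QuotientGroup.mk' (center G))⁆ ≤ B := by
    refine commutator_le.2 fun x hx' y hy' => ?_
    rcases dec x hx' with hx | ⟨x, hx, rfl⟩ <;> rcases dec y hy' with hy | ⟨y, hy, rfl⟩
    · rw [(cA hx hy).commutator_eq]; exact one_mem _
    · exact m1 x hx y hy
    · rw [← commutatorElement_inv]; exact inv_mem (m1 y hy x hx)
    · refine ⟨x * y⁻¹, mul_mem hx (inv_mem hy), ?_⟩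
      rw [commutatorElement_def, show x * s * (y * s) * (x * s)⁻¹ * (y * s)⁻¹ =
        x * ((s * (y * x⁻¹) * s⁻¹) * y⁻¹) by group,
        (cA (nA (mul_mem hy (inv_mem hx))) (inv_mem hy)).eq]
      group
  obtain ⟨x, hx, rfl⟩ := l hK
  have o : orderOf (s : G ⧸ center G) = 2 :=
    orderOf_eq_prime (by rw [sq]; exact h.sq _ hs ns) fun k => ns (k ▸ one_mem _)
  have h1 : x ∈ D s := mem_D.2 (by
    have := inv_mem hz
    rwa [show (x * (s * x⁻¹ * s⁻¹))⁻¹ = s * x * s⁻¹ * x⁻¹ by group] at this)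
  rw [(mem_C₁.1 (hI s o h1)).inv_right.eq]
  group

theorem exists_prime_order {N : Subgroup G} (h : N ≠ ⊥) : ∃ z ∈ N, (orderOf z).Prime := by
  have h1 : Nat.card N ≠ 1 := fun k => h (card_eq_one.1 k)
  haveI := Fact.mk (Nat.minFac_prime h1)
  obtain ⟨x, hx⟩ := exists_prime_orderOf_dvd_card' _ (Nat.card N).minFac_dvd
  exact ⟨x, x.2, by rw [orderOf_coe, hx]; exact Nat.minFac_prime h1⟩

namespace Sz
variable {k d h : ℕ} {F : Type*} [Field F] [Fintype F] (s : Sz G k (Fintype.card F) d h)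
  (e : G ⧸ center G ≃* PSL(2, F))
include s e

theorem abel {r : ℕ} [hr : Fact r.Prime] (h2 : k = 1 ∨ r ≠ 2) {P : Subgroup G} (hP : IsPGroup r P)
    {x y : G} (hx : x ∈ P) (hy : y ∈ P) : Commute x y := by
  by_cases nx : x ∈ center G
  · exact (mem_center_iff.1 nx y).symm
  have hQ := hP.map (QuotientGroup.mk' (center G))
  haveI : Nontrivial (P.map (QuotientGroup.mk' (center G))) :=
    ⟨⟨⟨x, mem_map_of_mem _ hx⟩, 1, fun k => nx ((QuotientGroup.eq_one_iff x).1
      (congrArg Subtype.val k))⟩⟩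
  haveI := hQ.center_nontrivial
  obtain ⟨⟨z, hz⟩, z1⟩ := exists_ne (1 : center (P.map (QuotientGroup.mk' (center G))))
  have cz : ∀ u ∈ P, Commute (u : G ⧸ center G) z := fun u hu =>
    congrArg Subtype.val (mem_center_iff.1 hz ⟨u, mem_map_of_mem _ hu⟩)
  have z2 : (z : G ⧸ center G) ≠ 1 := fun k => z1 (Subtype.ext (Subtype.ext k))
  have cp : r ≠ 2 → ∀ j, (r ^ j).Coprime 2 := fun h j =>
    ((Nat.coprime_primes hr.out Nat.prime_two).2 h).pow_left j
  have c : y ∈ D x := mem_C₁.2 (ct (psl2pgl.comp e.toMonoidHom)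
    (H4.psl2pgl_injective.comp e.injective) z2 (by
      rcases h2 with rfl | h2
      · exact Or.inl (two_zero (s.nm.par'.resolve_right (by simp)).2)
      · refine Or.inr fun k => z2 (orderOf_eq_one_iff.1 ?_)
        obtain ⟨j, hj⟩ := IsPGroup.iff_orderOf.1 hQ z
        rw [← orderOf_coe] at hj
        exact (hj ▸ cp h2 j).eq_one_of_dvd (orderOf_dvd_of_pow_eq_one (by rwa [sq])))
    (cz x hx) (cz y hy))
  rcases s.rel nx with h1 | ⟨h1, h3, -⟩
  · exact mem_C₁.1 (relIndex_eq_one.1 h1 c)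
  · obtain ⟨j, hj⟩ := IsPGroup.iff_orderOf.1 hP ⟨y, hy⟩
    rw [← orderOf_coe] at hj
    exact mem_C₁.1 (odd_mem (dvd_of_eq h3) c (hj ▸ cp (h2.resolve_left (by omega)) j))

theorem inv (hk : k = 2) : ∃ b : G, orderOf (b : G ⧸ center G) = 2 ∧ ¬ 2 ∣ C₁(b).index := by
  have o := (s.nm.par'.resolve_left (by omega)).2
  obtain ⟨y, hy, ey⟩ := s.exH
  have o2 : ¬ 2 ∣ C₁(y).index := ey ▸ (o.mul s.nm.dodd).not_two_dvd_nat
  by_cases h2 : 2 ∣ orderOf (y : G ⧸ center G)
  · refine ⟨y ^ (orderOf (y : G ⧸ center G) / 2), ?_, fun k => o2 (k.trans (index_dvd_of_le (C₁_pow _ _)))⟩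
    rw [QuotientGroup.mk_pow, orderOf_pow_orderOf_div (orderOf_pos _).ne' h2]
  exfalso
  obtain ⟨a, b, h4, hc⟩ := four (psl2pgl.comp e.toMonoidHom) (H4.psl2pgl_injective.comp e.injective)
    (by rintro _ ⟨u, rfl⟩; exact ⟨e.symm u, by simp⟩) (H4.two_ne_zero_of_odd o)
  obtain ⟨t, ht⟩ := exists_conj_comm (P := V4 a b) (IsPGroup.of_card (p := 2) (n := 2) h4.card)
    (g := (y : G ⧸ center G)) fun k => o2 (rel_D y ▸ k.mul_left _)
  have h1 := hc _ (ht a (H4.left_mem_V4 a b)).symm (ht b (H4.right_mem_V4 a b)).symm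
  rw [conj_mul, conj_eq_one_iff, ← sq] at h1
  rcases (Nat.dvd_prime Nat.prime_two).1 (orderOf_dvd_of_pow_eq_one h1) with k | k
  · exact hy ((QuotientGroup.eq_one_iff y).1 (orderOf_eq_one_iff.1 k))
  · exact h2 (dvd_of_eq k.symm)

theorem inv' (hk : k = 2) (b : G) (hb : orderOf (b : G ⧸ center G) = 2) :
    ¬ 2 ∣ C₁(b).index ∧ D b ≤ C₁(b) := by
  obtain ⟨a, ha, o⟩ := s.inv e hk
  have h2 := H4.two_ne_zero_of_odd (s.nm.par'.resolve_left (by omega)).2
  have h1 := e.symm.toMonoidHom.map_isConj (H4.psl_isConj_of_ord2 h2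
    ((e.orderOf_eq _).trans ha) ((e.orderOf_eq _).trans hb))
  simp only [MulEquiv.coe_toMonoidHom, MulEquiv.symm_apply_apply] at h1
  obtain ⟨g, hg⟩ := isConj_iff.1 h1
  obtain ⟨g, rfl⟩ := QuotientGroup.mk_surjective g
  rw [← QuotientGroup.mk_inv, ← QuotientGroup.mk_mul, ← QuotientGroup.mk_mul, QuotientGroup.eq] at hg
  have h3 : C₁(g * a * g⁻¹) ≤ C₁(b) := fun u hu => mem_C₁.2 (by
    rw [← mul_inv_cancel_left (g * a * g⁻¹) b]
    exact (mem_C₁.1 hu).mul_left (mem_center_iff.1 hg u).symm)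
  have h4 : ¬ 2 ∣ C₁(b).index := fun k =>
    o (H8.index_centralizer_conj a g ▸ k.trans (index_dvd_of_le h3))
  refine ⟨h4, relIndex_eq_one.1 ((s.rel fun k => ?_).resolve_right fun ⟨_, _, k⟩ =>
    h4 (k ▸ hk ▸ dvd_mul_right _ _))⟩
  rw [(QuotientGroup.eq_one_iff b).2 k, orderOf_one] at hb
  omega

theorem inf : commutator G ⊓ center G = ⊥ := by
  by_contra h0
  obtain ⟨z, ⟨h1, h2⟩, hr⟩ := exists_prime_order h0
  haveI := Fact.mk hr
  by_cases hk : k = 1 ∨ orderOf z ≠ 2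
  · let P : Sylow (orderOf z) G := default
    have h3 := transfer_central (H := P) h2 h1
    rw [commutator_eq_bot_iff_le_centralizer.2 fun x hx => mem_centralizer_iff.2 fun y hy =>
      s.abel e hk P.isPGroup' hy hx, mem_bot] at h3
    exact P.not_dvd_index (orderOf_dvd_of_pow_eq_one h3)
  · rw [not_or, not_not] at hk
    have k2 := s.nm.k12.resolve_left hk.1
    obtain ⟨b, hb, o⟩ := s.inv e k2
    obtain ⟨T, hT⟩ := dih (psl2pgl.comp e.toMonoidHom) (H4.psl2pgl_injective.comp e.injective)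
      (H4.two_ne_zero_of_odd (s.nm.par'.resolve_left (by omega)).2) hb
    have h3 := dih_comm hT (fun b hb => (s.inv' e k2 b hb).2) (pow_mem h2 _)
      (transfer_central (H := D b) h2 h1)
    exact o ((hk.2 ▸ orderOf_dvd_of_pow_eq_one h3).trans (index_dvd_of_le (le_D b)))

theorem sup : commutator G ⊔ center G = ⊤ := by
  haveI := s.quot.simple
  have h1 : commutator (G ⧸ center G) = ⊤ :=
    (IsSimpleGroup.eq_bot_or_eq_top_of_normal _ inferInstance).resolve_left fun k =>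
      s.quot.not_comm ⟨⟨fun a b => commutatorElement_eq_one_iff_mul_comm.1
        ((eq_bot_iff_forall _).1 k _ (commutator_mem_commutator (mem_top a) (mem_top b)))⟩⟩
  have h2 := comap_map_eq (QuotientGroup.mk' (center G)) (commutator G)
  rw [QuotientGroup.ker_mk', commutator_def, map_commutator,
    map_top_of_surjective _ (QuotientGroup.mk'_surjective _), ← commutator_def, h1] at h2
  exact h2.symm

theorem iso : Nonempty (commutator G ≃* PSL(2, F)) := by
  refine ⟨(MulEquiv.ofBijective ((QuotientGroup.mk' (center G)).comp (commutator G).subtype)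
    ⟨(injective_iff_map_eq_one _).2 fun x hx => Subtype.ext ?_, fun y => ?_⟩).trans e⟩
  · exact mem_bot.1 (s.inf e ▸ (⟨x.2, (QuotientGroup.eq_one_iff _).1 hx⟩ :
      (x : G) ∈ commutator G ⊓ center G))
  · obtain ⟨y, rfl⟩ := QuotientGroup.mk_surjective y
    obtain ⟨a, ha, z, hz, rfl⟩ := mem_sup_of_normal_right.1 (s.sup e ▸ mem_top y)
    exact ⟨⟨a, ha⟩, QuotientGroup.eq.2 (by simpa using hz)⟩

end Sz

end H26.CS
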