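import Cfsg.Agent.H26.CR1
import Cfsg.Agent.H26.CS3
import Cfsg.Agent.H17.Cs
import Cfsg.Agent.S0069

/-! Simple groups with three nontrivial class sizes. -/

set_option autoImplicit false
set_option linter.unusedSectionVars false

namespace H26.CS

open Subgroup _root_.Cfsg H3.Pt
open scoped MatrixGroups

local notation "C₁(" x ")" => Subgroup.centralizer (Singleton.singleton x : Set _)
local notation "𝒩(" H ")" => Subgroup.normalizer (SetLike.coe H)

variable {G : Type*} [Group G] [Finite G]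

/-- `n` is not a power of a prime -/
def NP (n : ℕ) : Prop := ∀ p k : ℕ, p.Prime → n ≠ p ^ k

theorem NP.two {n : ℕ} (h : NP n) (h0 : n ≠ 0) :
    ∃ p q : ℕ, p.Prime ∧ q.Prime ∧ p ≠ q ∧ p ∣ n ∧ q ∣ n := by
  have h1 : n ≠ 1 := fun e => h 2 0 Nat.prime_two e
  by_contra k
  refine h _ _ (Nat.minFac_prime h1) (Nat.eq_prime_pow_of_unique_prime_dvd h0 fun {d} hd l => ?_)
  by_contra ne
  exact k ⟨_, _, hd, Nat.minFac_prime h1, ne, l, n.minFac_dvd⟩

theorem NP.of_dvd {n p k : ℕ} (h : NP n) (hp : p.Prime) : ¬ n ∣ p ^ k := fun l =>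
  let ⟨i, _, e⟩ := (Nat.dvd_prime_pow hp).1 l; h p i hp e

theorem exists_central {p : ℕ} (hp : p.Prime) (h : p ∣ Nat.card G) :
    ∃ z : G, z ≠ 1 ∧ (∃ j, orderOf z = p ^ j) ∧ ¬ p ∣ C₁(z).index := by
  haveI := Fact.mk hp
  let P : Sylow p G := default
  haveI : Nontrivial P := (nontrivial_iff_ne_bot _).2 (P.ne_bot_of_dvd_card h)
  haveI := P.isPGroup'.center_nontrivial
  obtain ⟨⟨z, hz⟩, z1⟩ := exists_ne (1 : center P)
  refine ⟨z, fun k => z1 (Subtype.ext (Subtype.ext k)), ?_, fun k => P.not_dvd_index (k.trans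
    (index_dvd_of_le fun u hu => mem_C₁.2 (congrArg Subtype.val (mem_center_iff.1 hz ⟨u, hu⟩)).symm))⟩
  rw [orderOf_coe]
  exact IsPGroup.iff_orderOf.1 P.isPGroup' z

theorem exists_ord {K : Subgroup G} {r : ℕ} (hr : r.Prime) (h : r ∣ Nat.card K) :
    ∃ v ∈ K, v ≠ 1 ∧ orderOf v = r := by
  haveI := Fact.mk hr
  obtain ⟨v, hv⟩ := exists_prime_orderOf_dvd_card' r h
  rw [← orderOf_coe] at hv
  exact ⟨v, v.2, fun k => hr.ne_one (by rw [← hv, k, orderOf_one]), hv⟩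

theorem idx_dvd (x : G) : C₁(x).index ∣ Nat.card G := index_dvd_card _

theorem cc_hall {K : Subgroup G} (hK : ∀ v ∈ K, v ≠ 1 → C₁(v) = K) : (Nat.card K).Coprime K.index := by
  refine Nat.coprime_of_dvd fun r hr h1 h2 => ?_
  obtain ⟨v, hv, v1, o⟩ := exists_ord hr h1
  obtain ⟨z, z1, -, hz⟩ := exists_central hr (h1.trans (card_subgroup_dvd_card K))
  obtain ⟨t, ht⟩ := exists_conj_comm' hr (o.trans (pow_one r).symm) hz
  rw [hK v hv v1] at ht
  rw [← H8.index_centralizer_conj z t, hK _ ht fun k => z1 (conj_eq_one_iff.1 k)] at hz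
  exact hz h2

theorem cc_idx {K : Subgroup G} (hK : ∀ v ∈ K, v ≠ 1 → C₁(v) = K) {w : G} (w1 : w ≠ 1)
    (h : ¬ (Nat.card K).Coprime (Nat.card C₁(w))) : C₁(w).index = K.index := by
  obtain ⟨r, hr, h1, h2⟩ := Nat.Prime.not_coprime_iff_dvd.1 h
  obtain ⟨v, hv, v1, -⟩ := exists_ord hr h1
  obtain ⟨u, hu, u1, o⟩ := exists_ord hr h2
  obtain ⟨t, ht⟩ := exists_conj_comm' hr (o.trans (pow_one r).symm) (g := v) fun k =>
    hr.not_dvd_one (cc_hall hK ▸ Nat.dvd_gcd h1 (hK v hv v1 ▸ k))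
  have cj : ∀ {a b : G}, b ∈ C₁(a) → t⁻¹ * a * t⁻¹⁻¹ ∈ C₁(t⁻¹ * b * t⁻¹⁻¹) := fun h =>
    mem_C₁.2 ((mem_C₁.1 h).symm.conj _)
  have h3 := cj ht
  rw [show t⁻¹ * (t * v * t⁻¹) * t⁻¹⁻¹ = v by group, hK v hv v1] at h3
  have h4 := cj (mem_C₁.2 (mem_C₁.1 hu).symm)
  have h5 := mem_C₁.2 (mem_C₁.1 h4).symm
  rw [← H8.index_centralizer_conj w t⁻¹]
  have h6 := cj hu
  rw [hK _ h3 fun k => u1 (conj_eq_one_iff.1 k)] at h6
  rw [hK _ h6 fun k => w1 (conj_eq_one_iff.1 k)]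

theorem card_ne_one {w : G} (w1 : w ≠ 1) : Nat.card C₁(w) ≠ 1 := fun k =>
  w1 (mem_bot.1 (card_eq_one.1 k ▸ mem_C₁.2 (Commute.refl w)))

theorem index_inf {x y : G} (c : C₁(x).index.Coprime C₁(y).index) :
    (C₁(x) ⊓ C₁(y)).index = C₁(x).index * C₁(y).index := by
  rw [← relIndex_mul_index (inf_le_right : C₁(x) ⊓ C₁(y) ≤ _), inf_relIndex_right, H17.Cs.relIdx c]

theorem idx_mul_dvd {x y : G} (c : C₁(x).index.Coprime C₁(y).index) :
    C₁(x * y).index ∣ C₁(x).index * C₁(y).index :=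
  index_inf c ▸ index_dvd_of_le fun _ h => mem_C₁.2 ((mem_C₁.1 h.1).mul_left (mem_C₁.1 h.2))

theorem conj_mul' {x y : G} (c : C₁(x).index.Coprime C₁(y).index) (g : G) :
    IsConj (x * y) (g * x * g⁻¹ * y) := by
  obtain ⟨a, ha, b, hb, rfl⟩ := H17.Cs.prod c.symm g
  refine isConj_iff.2 ⟨a, ?_⟩
  rw [show a * b * x * (a * b)⁻¹ * y = a * (b * x * b⁻¹) * (a⁻¹ * y) by group, ← (mem_C₁.1 hb).eq,
    ← (mem_C₁.1 ha).inv_right.eq]
  group

/-- three class sizes `a`, `b`, `a * b` -/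
structure Ta (G : Type*) [Group G] (a b : ℕ) : Prop where
  cop : a.Coprime b
  all : ∀ x : G, x ≠ 1 → C₁(x).index = a ∨ C₁(x).index = b ∨ C₁(x).index = a * b
  na : NP a
  nb : NP b
  ex : ∃ w : G, w ≠ 1 ∧ C₁(w).index = a * b

namespace Ta
variable {a b : ℕ} (h : Ta G a b)
include h

theorem symm : Ta G b a :=
  ⟨h.cop.symm, fun x hx => by rw [mul_comm b]; have := h.all x hx; tauto, h.nb, h.na,
    mul_comm a b ▸ h.ex⟩

theorem dvd : a * b ∣ Nat.card G := let ⟨w, _, e⟩ := h.ex; e ▸ idx_dvd w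

theorem b0 : b ≠ 0 := fun e => by
  have := h.dvd
  rw [e, mul_zero, zero_dvd_iff] at this
  exact Nat.card_pos.ne' this

theorem of_dvd {z : G} (z1 : z ≠ 1) (l : C₁(z).index ∣ a) : C₁(z).index = a := by
  have k : ¬ b ∣ a := fun k => h.nb 2 0 Nat.prime_two (h.cop.symm.eq_one_of_dvd k)
  rcases h.all z z1 with e | e | e
  exacts [e, absurd (e ▸ l) k, absurd ((dvd_mul_left b a).trans (e ▸ l)) k]

theorem sub {w : G} (w1 : w ≠ 1) (e : C₁(w).index = a) {K : Subgroup G} (hK : C₁(w) = K) (v : K)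
    (c : (orderOf w).Coprime (orderOf (v : G))) : C₁(v).index = 1 ∨ C₁(v).index = b := by
  subst hK
  have h1 := idx_mul v c
  have h2 := H8.index_centralizer_pos w
  rw [e] at h1 h2
  rcases h.all _ (mt mem_bot.2 (mul_not_mem (mem_C₁.1 v.2) c (mt mem_bot.1 w1))) with k | k | k
  · exact Or.inl (Nat.eq_of_mul_eq_mul_right h2 (by rw [h1, k, one_mul]))
  · exact absurd (h.cop.eq_one_of_dvd (Dvd.intro_left _ (h1.trans k))) (h.na 2 0 Nat.prime_two)
  · exact Or.inr (Nat.eq_of_mul_eq_mul_right h2 (by rw [h1, k, mul_comm]))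

theorem one : ∃ x : G, C₁(x).index = a ∧
    (IsMulCommutative C₁(x) ∨ ∀ r : ℕ, r.Prime → r ∣ Nat.card C₁(x) → r ∣ b) := by
  obtain ⟨q, q', hq, hq', qq, l, l'⟩ := h.nb.two h.b0
  obtain ⟨x, x1, ⟨j, ox⟩, hx⟩ := exists_central hq (l.trans ((dvd_mul_left b a).trans h.dvd))
  have ex : C₁(x).index = a := by
    rcases h.all x x1 with e | e | e
    exacts [e, absurd (e ▸ l) hx, absurd (e ▸ l.mul_left a) hx]
  have cz : ∀ z ∈ center C₁(x), z ≠ 1 → C₁((z : G)).index = a ∧ C₁((z : G)) = C₁(x) := by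
    intro z hz z1
    have l : C₁(x) ≤ C₁((z : G)) := fun u hu =>
      mem_C₁.2 (congrArg Subtype.val (mem_center_iff.1 hz ⟨u, hu⟩)).symm
    have e := h.of_dvd (fun k => z1 (Subtype.ext k)) (ex ▸ index_dvd_of_le l)
    exact ⟨e, (eq_of_index l (ex.trans e.symm)).symm⟩
  have bK : b ∣ Nat.card C₁(x) := h.cop.symm.dvd_of_dvd_mul_right
    (by rw [← ex, card_mul_index]; exact (dvd_mul_left b a).trans h.dvd)
  obtain ⟨z, z1, ⟨i, oz⟩, hz⟩ := exists_central hq' (l'.trans bK)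
  have cp : ∀ {a b i l : ℕ}, a.Prime → b.Prime → a ≠ b → (a ^ i).Coprime (b ^ l) :=
    fun ha hb ab => Nat.Coprime.pow _ _ ((Nat.coprime_primes ha hb).2 ab)
  have zc := cz z (H8.index_centralizer_eq_one_iff.1 ((h.sub x1 ex rfl z
    (by rw [orderOf_coe, ox, oz]; exact cp hq hq' qq)).resolve_right fun k => hz (k ▸ l'))) z1
  refine ⟨x, ex, or_iff_not_imp_left.2 fun nc r hr hd => ?_⟩
  obtain ⟨v, hv⟩ : ∃ v : C₁(x), v ∉ center C₁(x) := by
    by_contra k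
    push Not at k
    exact nc ⟨⟨fun a b => mem_center_iff.1 (k b) a⟩⟩
  obtain ⟨n, s, m, hs, ov, nv⟩ := exists_prim hv
  obtain ⟨t, ht, ts, tq, hreg⟩ : ∃ t : ℕ, t.Prime ∧ t ≠ s ∧ (t = q ∨ t = q') ∧ ∀ u : C₁(x),
      (orderOf u).Coprime t → C₁(u).index = 1 ∨ C₁(u).index = b := by
    by_cases e : q = s
    · exact ⟨q', hq', e ▸ qq.symm, Or.inr rfl, fun u c => h.sub (fun k => z1 (Subtype.ext k)) zc.1 zc.2 u
        (by rw [orderOf_coe, orderOf_coe, oz]; exact c.symm.pow_left _)⟩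
    · exact ⟨q, hq, e, Or.inl rfl, fun u c => h.sub x1 ex rfl u
        (by rw [orderOf_coe, ox]; exact c.symm.pow_left _)⟩
  have c : (orderOf (v ^ n)).Coprime t := by simpa [ov] using cp (i := m) (l := 1) hs ht ts.symm
  have e := (hreg _ c).resolve_left (mt H8.index_centralizer_eq_one_iff.1 nv)
  have bZ : b ∣ (center C₁(x)).index := e ▸ index_dvd_of_le (center_le_C₁ _)
  obtain ⟨s', hs'⟩ : ∃ s', ∀ r : ℕ, r.Prime → r ≠ s' → r ≠ t → ¬ r ∣ (center C₁(x)).index := by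
    by_contra k
    push Not at k
    obtain ⟨i, hi⟩ := (ch_of_two ht hreg k).index_pow c
    exact h.nb t i ht (e.symm.trans hi)
  by_contra rb
  have rq : r ≠ q := fun k => rb (k ▸ l)
  have rq' : r ≠ q' := fun k => rb (k ▸ l')
  have rZ : ¬ r ∣ (center C₁(x)).index := fun k => by
    have k1 : r = s' := by
      by_contra k1
      exact hs' r hr k1 (by rcases tq with rfl | rfl <;> assumption) k
    subst k1
    rcases tq with rfl | rfl
    exacts [hs' q' hq' rq'.symm qq.symm (l'.trans bZ), hs' q hq rq.symm qq (l.trans bZ)]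
  obtain ⟨u, hu, u1, ou⟩ := exists_ord (K := center C₁(x)) hr
    (((Nat.Prime.dvd_mul hr).1 ((center C₁(x)).card_mul_index ▸ hd)).resolve_right rZ)
  have uc := cz u hu u1
  obtain ⟨s, k, hs, hk⟩ := ito (G := C₁(x)) (m := b) fun y => by
    obtain ⟨j, m, c, -, o1, o2⟩ := exists_parts r hr y
    have e : C₁(y ^ r ^ j) = C₁(y) := le_antisymm (fun g hg => mem_C₁.2 (mem_C₁.1 (mem_of_parts hr
      (H := C₁(g)) (fun n i o => center_le_C₁ _ (mem_of_cop (o ▸ ((Nat.Prime.coprime_iff_not_dvd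
        hr).2 rZ).pow_left i))) fun n o => ?_)).symm) (C₁_pow _ _)
    · rw [← e]
      exact h.sub (fun k => u1 (Subtype.ext k)) uc.1 uc.2 _
        (by rw [orderOf_coe, orderOf_coe, ou, o2]; exact c.symm)
    · obtain ⟨i, hi⟩ := exists_pow_eq_self_of_coprime (o.symm.pow_left j)
      rw [← hi, ← pow_mul, ← pow_mul, mul_left_comm, pow_mul]
      exact mem_C₁.2 ((mem_C₁.1 hg).symm.pow_right _)
  exact h.nb.of_dvd hs (hk ▸ bZ)

theorem two {x : G} (ex : C₁(x).index = a) : ¬ IsMulCommutative C₁(x) := fun hc => by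
  have hK : ∀ v ∈ C₁(x), v ≠ 1 → C₁(v) = C₁(x) := fun v hv v1 => by
    have l : C₁(x) ≤ C₁(v) := fun u hu =>
      mem_C₁.2 (congrArg Subtype.val (hc.is_comm.comm ⟨v, hv⟩ ⟨u, hu⟩))
    exact (eq_of_index l (ex.trans (h.of_dvd v1 (ex ▸ index_dvd_of_le l)).symm)).symm
  obtain ⟨w, w1, ew⟩ := h.ex
  have a0 : 0 < a := ex ▸ H8.index_centralizer_pos x
  have e : Nat.card C₁(x) = Nat.card C₁(w) * b := Nat.eq_of_mul_eq_mul_right a0 (by
    rw [mul_assoc, mul_comm b, ← ew, card_mul_index, ← ex, card_mul_index])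
  have h1 := cc_idx hK w1 fun k => card_ne_one w1 (k.symm.eq_one_of_dvd (Dvd.intro _ e.symm))
  rw [ew, ex] at h1
  exact h.nb 2 0 Nat.prime_two (Nat.eq_of_mul_eq_mul_left a0 (h1.trans (mul_one a).symm))

theorem false : False := by
  obtain ⟨x, ex, hx⟩ := h.one
  obtain ⟨y, ey, hy⟩ := h.symm.one
  replace hx := hx.resolve_left (h.two ex)
  replace hy := hy.resolve_left (h.symm.two ey)
  obtain ⟨w, w1, ew⟩ := h.ex
  have h1 : Nat.card C₁(x) ∣ b := (Nat.coprime_of_dvd fun r hr k1 k2 => hr.not_dvd_one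
    (h.cop ▸ Nat.dvd_gcd (hy r hr k2) (hx r hr k1))).dvd_of_dvd_mul_left
      (by rw [← ey, card_mul_index]; exact card_subgroup_dvd_card _)
  have h2 : Nat.card C₁(w) * (a * b) ∣ 1 * (a * b) := by
    rw [one_mul]
    nth_rw 1 [← ew]
    rw [card_mul_index, ← C₁(x).card_mul_index, ex, mul_comm a]
    exact mul_dvd_mul_right h1 a
  exact card_ne_one w1 (Nat.dvd_one.1 (Nat.dvd_of_mul_dvd_mul_right
    (ew ▸ H8.index_centralizer_pos w) h2))

end Ta

theorem rel_lt {M : Subgroup G} (hK : ∀ v ∈ M, v ≠ 1 → C₁(v) = M) (hn : NP (Nat.card M)) :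
    M.relIndex 𝒩(M) + 1 < Nat.card M := by
  obtain ⟨r, t, hr, ht, rt, l, l'⟩ := hn.two Nat.card_pos.ne'
  obtain ⟨u, hu, u1, ou⟩ := exists_ord hr l
  obtain ⟨v, hv, v1, ov⟩ := exists_ord ht l'
  have h1 := H8.card_conj_orbit 𝒩(M) u
  rw [hK u hu u1] at h1
  have h2 : {y : G | ∃ h ∈ 𝒩(M), h * u * h⁻¹ = y} ⊆ (M : Set G) \ {1, v} := by
    rintro _ ⟨g, hg, rfl⟩
    refine ⟨(mem_normalizer_iff.1 hg u).1 hu, ?_⟩
    rintro (k | k)
    · exact u1 (conj_eq_one_iff.1 k)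
    · rw [← ov, ← Set.mem_singleton_iff.1 k, ← MulAut.conj_apply, MulEquiv.orderOf_eq] at rt
      exact rt ou.symm
  have h3 := Set.ncard_le_ncard h2
  have h4 : ({1, v} : Set G) ⊆ M := by
    rintro _ (rfl | rfl)
    exacts [one_mem _, hv]
  have h5 := Set.ncard_le_ncard h4
  rw [Set.ncard_sdiff h4, Set.ncard_pair v1.symm] at h3
  rw [Set.ncard_pair v1.symm] at h5
  rw [← h1]
  change Nat.card _ ≤ Nat.card M - 2 at h3
  change 2 ≤ Nat.card M at h5
  change Nat.card {y : G | ∃ h ∈ 𝒩(M), h * u * h⁻¹ = y} + 1 < _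
  omega

theorem exists_cen {M : Subgroup G} (hK : ∀ v ∈ M, v ≠ 1 → C₁(v) = M) (h0 : M ≠ ⊥)
    (h1 : M.relIndex 𝒩(M) ≠ 1) : ∃ t ∈ 𝒩(M), t ∉ M ∧ M.relIndex 𝒩(M) ∣ Nat.card C₁(t) := by
  have hc := Nat.card_congr (subgroupOfEquivOfLe (le_normalizer (H := M))).toEquiv
  have cp : (Nat.card M).Coprime (M.relIndex 𝒩(M)) :=
    (cc_hall hK).coprime_dvd_right (relIndex_dvd_index_of_le le_normalizer)
  obtain ⟨E, hE⟩ := exists_right_complement'_of_coprime (N := M.subgroupOf 𝒩(M)) (hc ▸ cp)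
  have e : Nat.card E = M.relIndex 𝒩(M) := hE.symm.index_eq_card.symm
  have k : ∀ t ∈ E, (t : G) ∈ M → t = 1 := fun t ht hm =>
    mem_bot.1 (hE.disjoint.eq_bot ▸ (⟨hm, ht⟩ : t ∈ M.subgroupOf 𝒩(M) ⊓ E))
  obtain ⟨t, ht, t1⟩ := (bot_or_exists_ne_one _).resolve_left (Cfsg.Agent.S0069.result _ E hE
    (fun k => h0 (card_eq_one.1 (hc ▸ card_eq_one.2 k))) (fun k => h1 (e ▸ card_eq_one.2 k))
    fun t ht t1 => (eq_bot_iff_forall _).2 fun u hu => by_contra fun u1 => t1 (k t ht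
      ((hK u hu.1 (fun k => u1 (Subtype.ext k))).le (mem_C₁.2
        (congrArg Subtype.val (mem_C₁.1 hu.2).symm.eq)))))
  refine ⟨t, (t : 𝒩(M)).2, fun m => t1 (Subtype.ext (k t t.2 m)), ?_⟩
  rw [← e, ← card_map_of_injective (f := 𝒩(M).subtype) (subtype_injective _)]
  refine card_dvd_of_le ?_
  rintro _ ⟨u, hu, rfl⟩
  exact mem_C₁.2 (congrArg (fun z : E => ((z : 𝒩(M)) : G)) (mem_center_iff.1 ht ⟨u, hu⟩)).symm

section
variable [IsSimpleGroup G] (hG : ¬ IsMulCommutative G)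
include hG

theorem center_bot : center G = ⊥ :=
  (IsSimpleGroup.eq_bot_or_eq_top_of_normal _ inferInstance).resolve_right fun k =>
    hG ⟨⟨fun a b => mem_center_iff.1 (k ▸ mem_top b) a⟩⟩

theorem np {x : G} (x1 : x ≠ 1) : NP C₁(x).index := fun _ _ hp e =>
  haveI := Fact.mk (H17.card_prime_of_simple_of_prime_pow_class hp x1 e)
  hG ⟨⟨(isCyclic_of_prime_card rfl).commGroup.mul_comm⟩⟩

theorem lt_mul {x y : G} (x1 : x ≠ 1) (y1 : y ≠ 1) (c : C₁(x).index.Coprime C₁(y).index) :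
    C₁(y).index < C₁(x * y).index := by
  by_contra l
  have h1 := H17.Cs.mem_St c (not_lt.1 l)
  rcases IsSimpleGroup.eq_bot_or_eq_top_of_normal (H17.Cs.St y) inferInstance with e | e
  · refine x1 (mem_bot.1 (center_bot hG ▸ mem_center_iff.2 fun g => ?_))
    have := h1 g
    rw [e, mem_bot, inv_mul_eq_one, eq_mul_inv_iff_mul_eq] at this
    exact this.symm
  · have h2 := H17.Cs.St_dvd y
    rw [e, card_top, ← C₁(y).card_mul_index] at h2
    exact card_ne_one y1 (Nat.dvd_one.1 (Nat.dvd_of_mul_dvd_mul_right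
      (H8.index_centralizer_pos y) (by rwa [one_mul])))

theorem lt_mul' {x y : G} (x1 : x ≠ 1) (y1 : y ≠ 1) (c : C₁(x).index.Coprime C₁(y).index) :
    C₁(x).index < C₁(x * y).index := by
  rw [show x * y = x * (y * x) * x⁻¹ by group, H8.index_centralizer_conj]
  exact lt_mul hG y1 x1 c.symm

/-- a factorisation into the centralizer of `x` and an abelian group -/
theorem cc_lt {M : Subgroup G} (hK : ∀ v ∈ M, v ≠ 1 → C₁(v) = M) {x : G} (x1 : x ≠ 1)
    (ex : C₁(x).index = Nat.card M) {y : G} (hy : y ∈ M) (y1 : y ≠ 1) :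
    Nat.card C₁(x * y) < M.relIndex 𝒩(M) := by
  have cp := cc_hall hK
  have c : ∀ v ∈ M, v ≠ 1 → C₁(x).index.Coprime C₁(v).index := fun v hv v1 => by
    rwa [hK v hv v1, ex]
  have n1 : ∀ {v : G}, v ≠ 1 → C₁(v).index ≠ 1 := fun h => np hG h 2 0 Nat.prime_two
  classical
  haveI := Fintype.ofFinite G
  refine Cf.lt (x := x) ⟨⟨⟨fun a b => Subtype.ext ?_⟩⟩, fun w hw w1 => (hK w hw w1).le, fun k hk e => ?_,
    fun v hv v1 k hk e => ?_, fun v hv v1 => conj_mul' (c v hv v1)⟩ (center_bot hG) ?_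
    (rel_lt hK (ex ▸ np hG x1)) hy y1
  · by_cases a1 : (a : G) = 1
    · simp [a1]
    · exact mem_C₁.1 ((hK a a.2 a1).ge b.2)
  · have k1 : k ≠ 1 := by rintro rfl; exact x1 (isConj_one_left.1 e)
    have h1 := c k hk k1
    rw [← H8.index_centralizer_of_isConj e, Nat.coprime_self] at h1
    exact n1 x1 h1
  · have h1 := lt_mul hG x1 v1 (c v hv v1)
    rw [H8.index_centralizer_of_isConj e] at h1
    by_cases k1 : k = 1
    · rw [k1, H8.index_centralizer_eq_one_iff.2 (one_mem _)] at h1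
      have := H8.index_centralizer_pos v
      omega
    · rw [hK k hk k1, hK v hv v1] at h1
      exact h1.ne rfl
  · rw [mul_comm, ← Nat.card_congr (subgroupOfEquivOfLe (le_normalizer (H := M))).toEquiv]
    exact (card_mul_index _).symm

theorem cc_ne {M : Subgroup G} (h0 : M ≠ ⊥) (h1 : M ≠ ⊤) {t : G} (ht : t ∈ 𝒩(M)) (t1 : t ≠ 1) :
    ¬ M.index.Coprime C₁(t).index := fun c => by
  have h2 : t ∈ 𝒩(M).normalCore := fun g => by
    obtain ⟨a, ha, b, hb, rfl⟩ := H17.Cs.prod c g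
    rw [show a * b * t * (a * b)⁻¹ = a * (b * t * b⁻¹) * a⁻¹ by group, ← (mem_C₁.1 hb).eq,
      mul_inv_cancel_right]
    exact mul_mem (mul_mem (le_normalizer ha) ht) (inv_mem (le_normalizer ha))
  rcases IsSimpleGroup.eq_bot_or_eq_top_of_normal 𝒩(M).normalCore inferInstance with e | e
  · exact t1 (mem_bot.1 (e ▸ h2))
  · exact (IsSimpleGroup.eq_bot_or_eq_top_of_normal M
      (normalizer_eq_top_iff.1 (top_le_iff.1 (e ▸ normalCore_le _)))).elim h0 h1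

theorem caseB {n k m : ℕ} (cop : n.Coprime m) (km : k ∣ m) (ne : k ≠ m)
    (all : ∀ x : G, x ≠ 1 → C₁(x).index = n ∨ C₁(x).index = n * k ∨ C₁(x).index = m) {x y : G}
    (x1 : x ≠ 1) (ex : C₁(x).index = n) (y1 : y ≠ 1) (ey : C₁(y).index = m) : False := by
  have hZ := center_bot hG
  have nn : NP n := ex ▸ np hG x1
  have n1 : n ≠ 1 := nn 2 0 Nat.prime_two
  have m1 : m ≠ 1 := ey ▸ np hG y1 2 0 Nat.prime_two
  have m0 : 0 < m := ey ▸ H8.index_centralizer_pos y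
  have fr : Fr G m := fun z hz hd => by
    rcases all z (fun k => hz (k ▸ one_mem _)) with e | e | e <;> rw [e] at hd ⊢
    · exact absurd hd (not_or.2 ⟨fun k => n1 (cop.eq_one_of_dvd k), fun k => m1 (cop.symm.eq_one_of_dvd k)⟩)
    · exact absurd hd (not_or.2 ⟨fun k => n1 (cop.eq_one_of_dvd ((dvd_mul_right _ _).trans k)),
        fun k => ne (Nat.dvd_antisymm km (cop.symm.dvd_of_dvd_mul_left k))⟩)
  have nM : n ∣ Nat.card C₁(y) := cop.dvd_of_dvd_mul_right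
    (by rw [← ey, card_mul_index, ← ex]; exact idx_dvd x)
  obtain ⟨r, t, hr, ht, rt, l, l'⟩ := nn.two (ex ▸ (H8.index_centralizer_pos x).ne')
  have hK : ∀ v ∈ C₁(y), v ≠ 1 → C₁(v) = C₁(y) := fun v hv v1 =>
    fr.all (hZ ▸ mt mem_bot.1 y1) ey hr ht rt (by rw [hZ, relIndex_bot_left]; exact l.trans nM)
      (by rw [hZ, relIndex_bot_left]; exact l'.trans nM) hv (hZ ▸ mt mem_bot.1 v1)
  have c : C₁(x).index.Coprime C₁(y).index := by rwa [ex, ey]
  have e1 : Nat.card G = n * m := by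
    rw [← ex, ← ey, ← index_inf c, (eq_bot_iff_forall (C₁(x) ⊓ C₁(y))).2 fun v hv => by_contra fun v1 => ?_,
      index_bot]
    have h1 := hK x (hK v hv.2 v1 ▸ mem_C₁.2 (mem_C₁.1 hv.1).symm) x1
    rw [h1, Nat.coprime_self, ey] at c
    exact m1 c
  have e2 : Nat.card C₁(y) = n := Nat.eq_of_mul_eq_mul_right m0 (by rw [← e1, ← ey, card_mul_index])
  have yy : y ∈ C₁(y) := mem_C₁.2 (Commute.refl y)
  have h1 := cc_lt hG hK x1 (ex.trans e2.symm) yy y1
  have h2 := lt_mul hG x1 y1 c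
  have h3 := lt_mul' hG x1 y1 c
  have xy : x * y ≠ 1 := fun k => by
    rw [k, H8.index_centralizer_eq_one_iff.2 (one_mem _)] at h2
    omega
  have h4 : C₁(x * y).index = n * k := by rcases all _ xy with e | e | e <;> omega
  have h0 : C₁(y) ≠ ⊥ := fun k => y1 (mem_bot.1 (k ▸ yy))
  obtain ⟨u, hu, nu, hd⟩ := exists_cen hK h0 (by have := Nat.card_pos (α := C₁(x * y)); omega)
  have u1 : u ≠ 1 := fun k => nu (k ▸ one_mem _)
  have h5 := cc_ne hG h0 (fun k => m1 (by rw [← ey, k, index_top])) hu u1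
  rcases all u u1 with e | e | e
  · exact h5 (by rw [ey, e]; exact cop.symm)
  · have h6 : Nat.card C₁(u) = Nat.card C₁(x * y) := Nat.eq_of_mul_eq_mul_right
      (H8.index_centralizer_pos u) (by rw [card_mul_index, e, ← h4, card_mul_index])
    exact h1.not_ge (h6 ▸ Nat.le_of_dvd Nat.card_pos hd)
  · have h6 : Nat.card C₁(u) = n := Nat.eq_of_mul_eq_mul_right m0 (by rw [← e1, ← e, card_mul_index])
    have h7 := cop.symm.coprime_dvd_left (ey ▸ relIndex_dvd_index_of_le (le_normalizer (H := C₁(y))))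
    have := h7.eq_one_of_dvd (h6 ▸ hd)
    have := Nat.card_pos (α := C₁(x * y))
    omega

theorem three_F (h : {m : ℕ | ∃ x : G, x ≠ 1 ∧ m = C₁(x).index}.ncard ≤ 3) :
    ∀ x ∉ center G, ∀ y ∉ center G, C₁(x) ≤ C₁(y) → C₁(x) = C₁(y) := by
  intro w hw x hx l
  rw [center_bot hG, mem_bot] at hw hx
  by_contra ne
  obtain ⟨k, hk⟩ := index_dvd_of_le l
  have k1 : k ≠ 1 := by rintro rfl; exact ne (eq_of_index l (by rw [hk, mul_one]))
  have n0 := H8.index_centralizer_pos x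
  generalize ex : C₁(x).index = n at hk n0
  have nk : n ≠ n * k := fun e => k1 (Nat.eq_of_mul_eq_mul_left n0 (e.symm.trans (mul_one n).symm))
  have n1 : n ≠ 1 := ex ▸ np hG hx 2 0 Nat.prime_two
  obtain ⟨y, y1, -, hy⟩ := exists_central (Nat.minFac_prime n1) (n.minFac_dvd.trans (ex ▸ idx_dvd x))
  generalize ey : C₁(y).index = m at hy
  have fin : {m : ℕ | ∃ x : G, x ≠ 1 ∧ m = C₁(x).index}.Finite :=
    (Set.finite_range fun x : G => C₁(x).index).subset fun _ ⟨x, _, e⟩ => ⟨x, e.symm⟩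
  have h1 : ({n, n * k, m} : Set ℕ) = {m : ℕ | ∃ x : G, x ≠ 1 ∧ m = C₁(x).index} := by
    refine Set.eq_of_subset_of_ncard_le ?_ (h.trans (Set.ncard_eq_three.2 ⟨_, _, _, nk,
      fun e => hy (n.minFac_dvd.trans (dvd_of_eq e)),
      fun e => hy ((n.minFac_dvd.mul_right k).trans (dvd_of_eq e)), rfl⟩).ge) fin
    rintro _ (rfl | rfl | rfl)
    exacts [⟨x, hx, ex.symm⟩, ⟨w, hw, hk.symm⟩, ⟨y, y1, ey.symm⟩]
  have all : ∀ z : G, z ≠ 1 → C₁(z).index = n ∨ C₁(z).index = n * k ∨ C₁(z).index = m :=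
    fun z z1 => h1.ge ⟨z, z1, rfl⟩
  have cop : n.Coprime m := Nat.coprime_of_dvd fun r hr h2 h3 => by
    obtain ⟨z, z1, -, hz⟩ := exists_central hr (h2.trans (ex ▸ idx_dvd x))
    rcases all z z1 with e | e | e <;> rw [e] at hz
    exacts [hz h2, hz (h2.mul_right k), hz h3]
  have c : C₁(x).index.Coprime C₁(y).index := by rwa [ex, ey]
  have h2 := lt_mul hG hx y1 c
  have h3 := lt_mul' hG hx y1 c
  have xy : x * y ≠ 1 := fun k => by
    rw [k, H8.index_centralizer_eq_one_iff.2 (one_mem _)] at h3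
    omega
  have h4 : C₁(x * y).index = n * k := by rcases all _ xy with e | e | e <;> omega
  have h5 := idx_mul_dvd c
  rw [h4, ex, ey] at h5
  by_cases km : k = m
  · subst km
    exact Ta.false (G := G) ⟨cop, fun z z1 => by have := all z z1; tauto, ex ▸ np hG hx, ey ▸ np hG y1,
      w, hw, hk⟩
  · exact caseB hG cop (Nat.dvd_of_mul_dvd_mul_left n0 h5) km all hx ex y1 ey

end

theorem idx_equiv {H : Type*} [Group H] (e : G ≃* H) (x : G) : C₁(e x).index = C₁(x).index := by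
  rw [← index_comap_of_surjective (f := e.toMonoidHom) _ e.surjective]
  congr 1
  ext y
  simp only [mem_comap, mem_centralizer_singleton_iff, MulEquiv.coe_toMonoidHom, ← map_mul,
    EmbeddingLike.apply_eq_iff_eq]

theorem range_equiv {H : Type*} [Group H] (e : G ≃* H) :
    Set.range (fun g : G => C₁(g).index) = Set.range (fun g : H => C₁(g).index) := by
  rw [← e.surjective.range_comp]
  exact congrArg _ (funext fun x => (idx_equiv e x).symm)

theorem sizes_eq : {m : ℕ | ∃ x : G, x ∉ center G ∧ m = C₁(x).index} =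
    Set.range (fun g : G => C₁(g).index) \ {1} := by
  ext m
  exact ⟨fun ⟨x, hx, e⟩ => ⟨⟨x, e.symm⟩, fun k => hx (H8.index_centralizer_eq_one_iff.1 (e ▸ k))⟩,
    fun ⟨⟨x, e⟩, k⟩ => ⟨x, fun hx => k (e ▸ H8.index_centralizer_eq_one_iff.2 hx), e.symm⟩⟩

theorem ncard_diff3 {a b c : ℕ} (h : 1 ≠ a ∧ 1 ≠ b ∧ 1 ≠ c ∧ a ≠ b ∧ a ≠ c ∧ b ≠ c) :
    (({1, a, b, c} : Set ℕ) \ {1}).ncard = 3 := by
  rw [Set.insert_sdiff_self_of_notMem (by simp [h])]
  exact Set.ncard_eq_three.2 ⟨_, _, _, h.2.2.2.1, h.2.2.2.2.1, h.2.2.2.2.2, rfl⟩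

theorem ncard_diff4 {a b c d : ℕ} (h : 1 ≠ a ∧ 1 ≠ b ∧ 1 ≠ c ∧ 1 ≠ d ∧ a ≠ b ∧ a ≠ c ∧ a ≠ d ∧
    b ≠ c ∧ b ≠ d ∧ c ≠ d) : (({1, a, b, c, d} : Set ℕ) \ {1}).ncard = 4 := by
  obtain ⟨h1, h2, h3, h4, h5, h6, h7, h8, h9, h10⟩ := h
  rw [Set.insert_sdiff_self_of_notMem (by simp [*]), Set.ncard_insert_of_notMem (by simp [*]),
    Set.ncard_eq_three.2 ⟨_, _, _, h8, h9, h10, rfl⟩]

theorem sizes_even {F : Type*} [Field F] [Fintype F] (e : G ≃* PSL(2, F)) (h2 : 2 ∣ Fintype.card F)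
    (h4 : 4 ≤ Fintype.card F) : {m : ℕ | ∃ x : G, x ∉ center G ∧ m = C₁(x).index}.ncard = 3 := by
  rw [sizes_eq, range_equiv e, Cfsg.Agent.S2507.result h2 h4]
  obtain ⟨c, hc⟩ : ∃ c, Fintype.card F = c + 4 := ⟨_, (Nat.sub_add_cancel h4).symm⟩
  rw [hc, show (c + 4) * (c + 4 - 1) = c * c + 7 * c + 12 by rw [show c + 4 - 1 = c + 3 by omega]; ring,
    show (c + 4) ^ 2 - 1 = c * c + 8 * c + 15 from Nat.sub_eq_of_eq_add (by ring),
    show (c + 4) * (c + 4 + 1) = c * c + 9 * c + 20 by ring]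
  exact ncard_diff3 (by omega)

theorem sizes_odd {F : Type*} [Field F] [Fintype F] (e : G ≃* PSL(2, F)) (h2 : ¬ 2 ∣ Fintype.card F)
    (h7 : 7 ≤ Fintype.card F) : {m : ℕ | ∃ x : G, x ∉ center G ∧ m = C₁(x).index}.ncard = 4 := by
  have h := Cfsg.Agent.S2508.result h2 h7
  rw [sizes_eq, range_equiv e]
  obtain ⟨c, hc⟩ : ∃ c, Fintype.card F = 2 * c + 7 := ⟨(Fintype.card F - 7) / 2, by omega⟩
  rw [hc, show (2 * c + 7) * (2 * c + 7 - 1) = 4 * (c * c) + 26 * c + 42 by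
      rw [show 2 * c + 7 - 1 = 2 * c + 6 by omega]; ring,
    show (2 * c + 7) ^ 2 - 1 = 4 * (c * c) + 28 * c + 48 from Nat.sub_eq_of_eq_add (by ring),
    show (2 * c + 7) * (2 * c + 7 + 1) = 4 * (c * c) + 30 * c + 56 by ring] at h
  rcases (by omega : (2 * c + 7) % 4 = 1 ∨ (2 * c + 7) % 4 = 3) with k | k
  · rw [h.1 k]; exact ncard_diff4 (by omega)
  · rw [h.2 k]; exact ncard_diff4 (by omega)

theorem res_simple [IsSimpleGroup G] (hG : ¬ IsMulCommutative G)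
    (h : ∀ x ∉ center G, ∀ y ∉ center G, C₁(x) ≤ C₁(y) → C₁(x) = C₁(y)) :
    ∃ (F : Type) (_ : Field F) (_ : Fintype F), 3 < Fintype.card F ∧ Nonempty (G ≃* PSL(2, F)) := by
  have e0 : G ≃* G ⧸ center G := QuotientGroup.quotientBot.symm.trans
    (QuotientGroup.quotientMulEquivOfEq (center_bot hG).symm)
  rcases fgroup h with k | ⟨F, i, j, h3, ⟨⟨e⟩⟩ | ⟨o, ⟨e⟩⟩⟩
  · exact absurd ⟨⟨IsSimpleGroup.comm_iff_isSolvable.2 k⟩⟩ hG
  · exact ⟨F, i, j, h3, ⟨e0.trans e⟩⟩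
  · exfalso
    haveI := (e0.trans e).symm.isSimpleGroup
    rcases IsSimpleGroup.eq_bot_or_eq_top_of_normal (H4.pL F) inferInstance with k | k
    · have h1 := H4.card_pL (F := F)
      rw [k, card_bot, H4.gcd_eq_two (Nat.odd_iff.1 o)] at h1
      have := cube_lt h3 (by omega)
      omega
    · exact H4.pL_ne_top (Nat.odd_iff.1 o) k

theorem three [IsSimpleGroup G] (hG : ¬ IsMulCommutative G)
    (h : {m : ℕ | ∃ x : G, x ∉ center G ∧ m = C₁(x).index}.ncard ≤ 3) :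
    ∃ (m : ℕ) (F : Type) (_ : Field F) (_ : Fintype F), 2 ≤ m ∧ Fintype.card F = 2 ^ m ∧
      Nonempty (G ≃* PSL(2, F)) := by
  obtain ⟨F, _, _, h3, ⟨e⟩⟩ := res_simple hG (three_F hG (by simpa [center_bot hG] using h))
  by_cases o : Odd (Fintype.card F)
  · by_cases h5 : Fintype.card F = 5
    · exact ⟨2, H1.CIT.F4, inferInstance, inferInstance, le_rfl, H1.CIT.card_F4,
        ⟨(e.trans (H18.psl_a5 (Or.inr h5)).some).trans (H18.psl_a5 (Or.inl H1.CIT.card_F4)).some.symm⟩⟩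
    · rw [sizes_odd e o.not_two_dvd_nat (by obtain ⟨c, hc⟩ := o; omega)] at h
      omega
  · obtain ⟨j, hj⟩ := card_two o
    refine ⟨j, F, inferInstance, inferInstance, ?_, hj, ⟨e⟩⟩
    by_contra l
    have : j = 0 ∨ j = 1 := by omega
    rcases this with rfl | rfl <;> omega

end H26.CS
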