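import Cfsg.Agent.H26.CR2
import Cfsg.Agent.H8.Kaz
import Cfsg.Agent.H2.ThompsonFPF
import Cfsg.Agent.H1.Solvable
import Cfsg.Agent.H3.PComp
import Cfsg.Agent.H17.Ker
import Cfsg.Agent.S0564
import Cfsg.Agent.S4160
import Cfsg.Agent.S0042

/-! Centreless groups with three nontrivial class sizes `n`, `n * k`, `m`: first reductions. -/

set_option autoImplicit false
set_option linter.unusedSectionVars false

namespace H26.CS

open Subgroup _root_.Cfsg H3.Pt H17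
open scoped MatrixGroups Pointwise

local notation "C₁(" x ")" => Subgroup.centralizer (Singleton.singleton x : Set _)
local notation "𝒩(" H ")" => Subgroup.normalizer (SetLike.coe H)

theorem Cf.le_index {G : Type*} [Group G] [Fintype G] {M : Subgroup G} [Fintype M] {x : G}
    (h : Cf M x) [Fintype 𝒩(M)] (hZ : center G = ⊥) {L : Subgroup G} [L.Normal]
    (hL : ∀ N : Subgroup G, N.Normal → N ≠ ⊥ → L ≤ N) {e : ℕ} (he : Nat.card 𝒩(M) = e * Nat.card M)
    (hn : e + 1 < Nat.card M) {y : G} (hy : y ∈ M) (y1 : y ≠ 1) (l : e ≤ Nat.card C₁(x * y)) :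
    Nat.card C₁(x * y) ≤ L.index := by
  classical
  haveI : Nontrivial M := ⟨⟨⟨y, hy⟩, 1, fun k => y1 (congrArg Subtype.val k)⟩⟩
  obtain ⟨b, h1, h2⟩ := h.bound he hn
  have h3 := sum_normSq_irr (x * y)
  have d0 : ∀ χ : IrrCharacter G, 0 < ‖χ.1 1‖ := fun χ => norm_pos_iff.2 χ.2.one_ne_zero
  have h4 : ∀ χ : IrrCharacter G, ‖χ.1 1‖ ^ 2 * ‖χ.1 (x * y)‖ ^ 2 = ‖χ.1 x‖ ^ 2 * (b χ : ℝ) ^ 2 :=
    fun χ => by
      rw [← mul_pow, ← norm_mul, h2 χ y hy y1, norm_mul, mul_pow, Complex.norm_intCast, sq_abs]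
  have h5 : ∀ χ ∈ (Finset.univ : Finset (IrrCharacter G)), ‖χ.1 (x * y)‖ ^ 2 ≤ (b χ : ℝ) ^ 2 :=
    fun χ _ => le_of_mul_le_mul_left (h4 χ ▸ mul_le_mul_of_nonneg_right
      (pow_le_pow_left₀ (norm_nonneg _) (χ.2.isCharacter.norm_le_norm_one x) 2) (sq_nonneg _))
      (pow_pos (d0 χ) 2)
  have h6 := (Finset.sum_eq_sum_iff_of_le h5).1 (le_antisymm (Finset.sum_le_sum h5) (by
    rw [h3]
    exact_mod_cast h1.trans (by exact_mod_cast l)))
  have h7 := sum_irr_ker_eq L (fun f : G → ℂ => ‖f 1‖ ^ 2)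
  have h8 := sum_normSq_irr (1 : G ⧸ L)
  rw [(centralizer_eq_top_iff_subset).2 (by simp), card_top] at h8
  simp only [QuotientGroup.mk_one] at h7
  rw [h8, Finset.sum_filter] at h7
  have h9 : (Nat.card C₁(x * y) : ℝ) ≤ Nat.card (G ⧸ L) := by
    rw [← h3, ← h7]
    refine Finset.sum_le_sum fun χ hχ => ?_
    split_ifs with k
    · exact pow_le_pow_left₀ (norm_nonneg _) (χ.2.isCharacter.norm_le_norm_one _) 2
    · by_contra k'
      have h7 := h4 χ
      rw [← h6 χ hχ] at h7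
      have h8 := (pow_left_inj₀ (norm_nonneg _) (norm_nonneg _) two_ne_zero).1
        (mul_right_cancel₀ (not_le.1 k').ne' h7)
      obtain ⟨d, hd⟩ := χ.2.isCharacter.exists_nat_one
      have h9 := (χ.2.isCharacter.mem_charCenter' hd).2 (by rw [← h8, hd, Complex.norm_natCast])
      refine k (hL _ χ.2.isCharacter.charKer_normal fun k0 => ?_)
      rw [χ.2.charCenter_eq_center k0, hZ, mem_bot] at h9
      exact h.h1 1 (one_mem _) (h9 ▸ IsConj.refl _)
  exact_mod_cast h9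

variable {G : Type*} [Group G] [Finite G]

theorem exists_res : ∃ D : Subgroup G, ∃ _ : D.Normal, Group.IsSolvable (G ⧸ D) ∧
    ∀ r : ℕ, r.Prime → HasNormalPComplement r G → ¬ r ∣ Nat.card D := by
  obtain ⟨j, hj⟩ := (wellFounded_lt (α := Subgroup G)).has_min (Set.range (derivedSeries G))
    ⟨_, 0, rfl⟩
  obtain ⟨⟨i, rfl⟩, hi⟩ := hj
  haveI := derivedSeries_normal G i
  refine ⟨derivedSeries G i, inferInstance, ⟨i, ?_⟩, fun r hr h => ?_⟩
  · rw [← map_derivedSeries_eq (QuotientGroup.mk'_surjective _), Subgroup.map_eq_bot_iff, QuotientGroup.ker_mk']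
  · haveI := Fact.mk hr
    obtain ⟨N, _, h1, h2⟩ := H3.hasNormalPComplement_iff_exists.1 h
    haveI := h2.isNilpotent
    obtain ⟨l, hl⟩ := (inferInstance : Group.IsSolvable (G ⧸ N))
    rw [← map_derivedSeries_eq (QuotientGroup.mk'_surjective _), Subgroup.map_eq_bot_iff,
      QuotientGroup.ker_mk'] at hl
    have h3 : derivedSeries G i ≤ derivedSeries G l := (le_total l i).elim
      (fun k => derivedSeries_antitone G k) fun k =>
        ((derivedSeries_antitone G k).lt_or_eq.resolve_left (hi _ ⟨l, rfl⟩)).ge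
    exact (hr.coprime_iff_not_dvd).1 (h1.coprime_dvd_left (card_dvd_of_le (h3.trans hl))).symm

theorem solv_top {H N : Subgroup G} [N.Normal] (hH : Group.IsSolvable H) (hN : Group.IsSolvable N)
    (h : H ⊔ N = ⊤) : Group.IsSolvable G := by
  have := H1.isSolvable_sup hH hN (normalizer_eq_top N ▸ le_top)
  rw [h] at this
  exact Group.isSolvable_of_surjective (f := (⊤ : Subgroup G).subtype) fun g => ⟨⟨g, mem_top g⟩, rfl⟩

theorem frob_solv {H : Subgroup G} (hH : IsFrobeniusComplement H) (hs : Group.IsSolvable H) :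
    Group.IsSolvable G := by
  obtain ⟨N, e, _, hN⟩ := Cfsg.Agent.S0042.result H hH
  refine solv_top hs (N := N) inferInstance (H8.eq_top_of_forall_conj_mem fun x => ?_)
  by_cases k : x ∈ frobeniusKernel H
  · exact ⟨1, mem_sup_right (by simpa using (e ▸ k : x ∈ (N : Set G)))⟩
  · obtain ⟨g, hg⟩ := not_forall.1 (not_or.1 k).2
    rw [not_not, mem_pointwise_smul_iff_inv_smul_mem] at hg
    exact ⟨g, mem_sup_left (by simpa [mul_assoc] using hg)⟩

theorem cpw {a b : ℕ} (ha : a.Prime) (hb : b.Prime) (ab : a ≠ b) (i l : ℕ) : (a ^ i).Coprime (b ^ l) :=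
  Nat.Coprime.pow _ _ ((Nat.coprime_primes ha hb).2 ab)

theorem ne_of_idx {x : G} (h : C₁(x).index ≠ 1) : x ≠ 1 := fun k =>
  h (H8.index_centralizer_eq_one_iff.2 (k ▸ one_mem _))

theorem self_mem (x : G) : x ∈ C₁(x) := mem_C₁.2 (Commute.refl x)

theorem C₁_symm {x y : G} (h : y ∈ C₁(x)) : x ∈ C₁(y) := mem_C₁.2 (mem_C₁.1 h).symm

/-- three class sizes `n`, `n * k`, `m` -/
structure Tr (G : Type*) [Group G] (n k m : ℕ) : Prop where
  cop : n.Coprime m
  all : ∀ x : G, x ≠ 1 → C₁(x).index = n ∨ C₁(x).index = n * k ∨ C₁(x).index = m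
  n1 : n ≠ 1
  k1 : k ≠ 1
  m1 : m ≠ 1
  exX : ∃ x : G, C₁(x).index = n
  exW : ∃ x : G, C₁(x).index = n * k
  exY : ∃ x : G, C₁(x).index = m

namespace Tr
variable {n k m : ℕ} (h : Tr G n k m)
include h

theorem symm {k' : ℕ} (e : k = m * k') : Tr G m (n * k') n :=
  ⟨h.cop.symm, fun x hx => by rw [mul_left_comm, ← e]; have := h.all x hx; tauto, h.m1,
    fun e => h.n1 (Nat.eq_one_of_mul_eq_one_right e), h.n1, h.exY,
    by rw [mul_left_comm, ← e]; exact h.exW, h.exX⟩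

theorem n0 : 0 < n := let ⟨x, e⟩ := h.exX; e ▸ H8.index_centralizer_pos x

theorem m0 : 0 < m := let ⟨x, e⟩ := h.exY; e ▸ H8.index_centralizer_pos x

theorem nk : n * k ≠ n := fun e => h.k1 (Nat.eq_of_mul_eq_mul_left h.n0 (e.trans (mul_one n).symm))

theorem nm : ¬ n ∣ m := fun e => h.n1 (h.cop.eq_one_of_dvd e)

theorem mn : ¬ m ∣ n := fun e => h.m1 (h.cop.symm.eq_one_of_dvd e)

theorem x1 {x : G} (e : C₁(x).index = n) : x ≠ 1 := ne_of_idx (e ▸ h.n1)

theorem y1 {x : G} (e : C₁(x).index = m) : x ≠ 1 := ne_of_idx (e ▸ h.m1)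

theorem w1 {x : G} (e : C₁(x).index = n * k) : x ≠ 1 :=
  ne_of_idx (e ▸ fun e => h.n1 (Nat.eq_one_of_mul_eq_one_right e))

theorem hZ : center G = ⊥ := (eq_bot_iff_forall _).2 fun z hz => by_contra fun z1 => by
  have e := H8.index_centralizer_eq_one_iff.2 hz
  rcases h.all z z1 with k | k | k <;> rw [e] at k
  exacts [h.n1 k.symm, h.n1 (Nat.eq_one_of_mul_eq_one_right k.symm), h.m1 k.symm]

theorem nG : n ∣ Nat.card G := let ⟨x, e⟩ := h.exX; e ▸ idx_dvd x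

theorem mG : m ∣ Nat.card G := let ⟨x, e⟩ := h.exY; e ▸ idx_dvd x

theorem of_dvd {z : G} (z1 : z ≠ 1) (l : C₁(z).index ∣ n) : C₁(z).index = n := by
  rcases h.all z z1 with e | e | e
  exacts [e, absurd (Nat.dvd_antisymm (e ▸ l) (dvd_mul_right n k)) h.nk, absurd (e ▸ l) h.mn]

theorem of_dvd' {z : G} (z1 : z ≠ 1) (l : C₁(z).index ∣ m) : C₁(z).index = m := by
  rcases h.all z z1 with e | e | e
  exacts [absurd (e ▸ l) h.nm, absurd ((dvd_mul_right n k).trans (e ▸ l)) h.nm, e]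

theorem sub {w : G} (e : C₁(w).index = n) {K : Subgroup G} (hK : C₁(w) = K) (v : K)
    (c : (orderOf w).Coprime (orderOf (v : G))) : C₁(v).index = 1 ∨ C₁(v).index = k := by
  subst hK
  have h1 := idx_mul v c
  rw [e] at h1
  rcases h.all _ (mt mem_bot.2 (mul_not_mem (mem_C₁.1 v.2) c (mt mem_bot.1 (h.x1 e)))) with k | k | k
  · exact Or.inl (Nat.eq_of_mul_eq_mul_right h.n0 (by rw [h1, k, one_mul]))
  · exact Or.inr (Nat.eq_of_mul_eq_mul_right h.n0 (by rw [h1, k, mul_comm]))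
  · exact absurd (Dvd.intro_left _ (h1.trans k)) h.nm

theorem cz {x : G} (ex : C₁(x).index = n) {z : C₁(x)} (hz : z ∈ center C₁(x)) (z1 : z ≠ 1) :
    C₁((z : G)) = C₁(x) := by
  have l : C₁(x) ≤ C₁((z : G)) := fun u hu =>
    mem_C₁.2 (congrArg Subtype.val (mem_center_iff.1 hz ⟨u, hu⟩)).symm
  exact (eq_of_index l (ex.trans (h.of_dvd (fun k => z1 (Subtype.ext k))
    (ex ▸ index_dvd_of_le l)).symm)).symm

theorem cW {x w : G} (ex : C₁(x).index = n) (ew : C₁(w).index = n * k) :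
    Nat.card C₁(x) = Nat.card C₁(w) * k := Nat.eq_of_mul_eq_mul_right h.n0 (by
  rw [mul_assoc, mul_comm k, ← ew, card_mul_index, ← ex, card_mul_index])

theorem kK {x : G} (ex : C₁(x).index = n) : k ∣ Nat.card C₁(x) :=
  let ⟨_, e⟩ := h.exW; Dvd.intro_left _ (h.cW ex e).symm

theorem cen1 {x : G} (ex : C₁(x).index = n) {q j r : ℕ} (hq : q.Prime) (ox : orderOf x = q ^ j)
    (hr : r.Prime) (rq : q ≠ r) (l : r ∣ k) :
    ∃ z : G, (∃ i, orderOf z = r ^ i) ∧ C₁(z) = C₁(x) := by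
  obtain ⟨z, z1, ⟨i, oz⟩, hz⟩ := exists_central hr (l.trans (h.kK ex))
  exact ⟨z, ⟨i, (orderOf_coe z).trans oz⟩, h.cz ex (H8.index_centralizer_eq_one_iff.1 ((h.sub ex rfl z
    (by rw [orderOf_coe, ox, oz]; exact cpw hq hr rq _ _)).resolve_right fun k => hz (k ▸ l))) z1⟩

theorem nab {x : G} (ex : C₁(x).index = n) : ¬ IsMulCommutative C₁(x) := fun hc => by
  have hK : ∀ v ∈ C₁(x), v ≠ 1 → C₁(v) = C₁(x) := fun v hv v1 =>
    h.cz ex (z := ⟨v, hv⟩) (mem_center_iff.2 fun u => hc.is_comm.comm _ _) fun k =>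
      v1 (congrArg Subtype.val k)
  obtain ⟨w, ew⟩ := h.exW
  have h1 := cc_idx hK (h.w1 ew) fun k => card_ne_one (h.w1 ew)
    (k.symm.eq_one_of_dvd (Dvd.intro _ (h.cW ex ew).symm))
  rw [ew, ex] at h1
  exact h.nk h1

theorem two {x : G} (ex : C₁(x).index = n) {q q' j : ℕ} (hq : q.Prime) (hq' : q'.Prime)
    (qq : q ≠ q') (ox : orderOf x = q ^ j) (l : q ∣ k) (l' : q' ∣ k) {r : ℕ} (hr : r.Prime)
    (hd : r ∣ Nat.card C₁(x)) : r = q ∨ r = q' := by
  have nb : NP k := fun p i hp e => qq (((Nat.prime_dvd_prime_iff_eq hq hp).1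
    (hq.dvd_of_dvd_pow (e ▸ l))).trans ((Nat.prime_dvd_prime_iff_eq hq' hp).1
      (hq'.dvd_of_dvd_pow (e ▸ l'))).symm)
  obtain ⟨z, ⟨i, oz⟩, zc⟩ := h.cen1 ex hq ox hq' qq l'
  obtain ⟨v, hv⟩ : ∃ v : C₁(x), v ∉ center C₁(x) := by
    by_contra k
    push Not at k
    exact h.nab ex ⟨⟨fun a b => mem_center_iff.1 (k b) a⟩⟩
  obtain ⟨c, s, d, hs, ov, nv⟩ := exists_prim hv
  obtain ⟨t, ht, ts, tq, hreg⟩ : ∃ t : ℕ, t.Prime ∧ t ≠ s ∧ (t = q ∨ t = q') ∧ ∀ u : C₁(x),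
      (orderOf u).Coprime t → C₁(u).index = 1 ∨ C₁(u).index = k := by
    by_cases e : q = s
    · exact ⟨q', hq', e ▸ qq.symm, Or.inr rfl, fun u c => h.sub (zc ▸ ex) zc u
        (by rw [orderOf_coe, oz]; exact c.symm.pow_left _)⟩
    · exact ⟨q, hq, e, Or.inl rfl, fun u c => h.sub ex rfl u
        (by rw [orderOf_coe, ox]; exact c.symm.pow_left _)⟩
  have c : (orderOf (v ^ c)).Coprime t := by simpa [ov] using cpw hs ht ts.symm d 1
  have e := (hreg _ c).resolve_left (mt H8.index_centralizer_eq_one_iff.1 nv)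
  have bZ : k ∣ (center C₁(x)).index := e ▸ index_dvd_of_le (center_le_C₁ _)
  obtain ⟨s', hs'⟩ : ∃ s', ∀ r : ℕ, r.Prime → r ≠ s' → r ≠ t → ¬ r ∣ (center C₁(x)).index := by
    by_contra k
    push Not at k
    obtain ⟨i, hi⟩ := (ch_of_two ht hreg k).index_pow c
    exact nb t i ht (e.symm.trans hi)
  by_contra rb
  obtain ⟨rq, rq'⟩ := not_or.1 rb
  have rZ : ¬ r ∣ (center C₁(x)).index := fun k => by
    have k1 : r = s' := by
      by_contra k1
      exact hs' r hr k1 (by rcases tq with rfl | rfl <;> assumption) k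
    subst k1
    rcases tq with rfl | rfl
    exacts [hs' q' hq' (Ne.symm rq') qq.symm (l'.trans bZ), hs' q hq (Ne.symm rq) qq (l.trans bZ)]
  obtain ⟨u, hu, u1, ou⟩ := exists_ord (K := center C₁(x)) hr
    (((Nat.Prime.dvd_mul hr).1 ((center C₁(x)).card_mul_index ▸ hd)).resolve_right rZ)
  have uc := h.cz ex hu u1
  obtain ⟨s, a, hs, hk⟩ := ito (G := C₁(x)) (m := k) fun y => by
    obtain ⟨j, b, c, -, o1, o2⟩ := exists_parts r hr y
    have e : C₁(y ^ r ^ j) = C₁(y) := le_antisymm (fun g hg => mem_C₁.2 (mem_C₁.1 (mem_of_parts hr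
      (H := C₁(g)) (fun n i o => center_le_C₁ _ (mem_of_cop (o ▸ ((Nat.Prime.coprime_iff_not_dvd
        hr).2 rZ).pow_left i))) fun n o => ?_)).symm) (C₁_pow _ _)
    · rw [← e]
      exact h.sub (by rw [uc, ex]) uc _ (by rw [orderOf_coe, orderOf_coe, ou, o2]; exact c.symm)
    · obtain ⟨i, hi⟩ := exists_pow_eq_self_of_coprime (o.symm.pow_left j)
      rw [← hi, ← pow_mul, ← pow_mul, mul_left_comm, pow_mul]
      exact mem_C₁.2 ((mem_C₁.1 hg).symm.pow_right _)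
  exact nb.of_dvd hs (bZ.trans (dvd_of_eq hk))

theorem exc {r : ℕ} (hr : r.Prime) (l : r ∣ m) (l' : r ∣ k) :
    ∃ x : G, C₁(x).index = n ∧ ∃ j, orderOf x = r ^ j := by
  obtain ⟨x, x1, o, hx⟩ := exists_central hr (l.trans h.mG)
  refine ⟨x, ?_, o⟩
  rcases h.all x x1 with e | e | e
  exacts [e, absurd (e ▸ l'.mul_left n) hx, absurd (e ▸ l) hx]

theorem exy {p : ℕ} (hp : p.Prime) (l : p ∣ n) :
    ∃ y : G, C₁(y).index = m ∧ ∃ j, orderOf y = p ^ j := by
  obtain ⟨x, x1, o, hx⟩ := exists_central hp (l.trans h.nG)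
  refine ⟨x, ?_, o⟩
  rcases h.all x x1 with e | e | e
  exacts [absurd (e ▸ l) hx, absurd (e ▸ l.mul_right k) hx, e]

theorem nd {r : ℕ} (hr : r.Prime) (l : r ∣ m) : ¬ r ∣ n := fun l' =>
  hr.not_dvd_one (h.cop ▸ Nat.dvd_gcd l' l)

/-- if the centralizers of index `n` have order prime to `n` -/
theorem isY {x : G} (ex : C₁(x).index = n) (c : (Nat.card C₁(x)).Coprime n) {p : ℕ} (hp : p.Prime)
    (l : p ∣ n) {g : G} (g1 : g ≠ 1) (hg : p ∣ Nat.card C₁(g)) : C₁(g).index = m := by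
  have k0 : ¬ p ∣ Nat.card C₁(x) := fun k => hp.not_dvd_one (c ▸ Nat.dvd_gcd k l)
  rcases h.all g g1 with e | e | e
  · refine absurd (hg.trans (dvd_of_eq (Nat.eq_of_mul_eq_mul_right h.n0 ?_))) k0
    rw [← e, card_mul_index, e, ← ex, card_mul_index]
  · exact absurd (hg.trans (Dvd.intro _ (h.cW ex e).symm)) k0
  · exact e

end Tr

theorem Tr.caseA1 {n m : ℕ} (h : Tr G n m m) : ¬ NP m := fun hm => by
  obtain ⟨q, q', hq, hq', qq, l, l'⟩ := hm.two h.m0.ne'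
  obtain ⟨a, ea, j, oa⟩ := h.exc hq l l
  have hK : ∀ {r : ℕ}, r.Prime → r ∣ Nat.card C₁(a) → r ∣ m := fun hr hd =>
    (h.two ea hq hq' qq oa l l' hr hd).elim (· ▸ l) (· ▸ l')
  have c : (Nat.card C₁(a)).Coprime n := Nat.coprime_of_dvd fun r hr h1 => h.nd hr (hK hr h1)
  obtain ⟨p, hp, pn⟩ := Nat.exists_prime_and_dvd h.n1
  obtain ⟨y, ey, i, oy⟩ := h.exy hp pn
  obtain ⟨w, ew⟩ := h.exW
  obtain ⟨r, hr, rw'⟩ := Nat.exists_prime_and_dvd (card_ne_one (h.w1 ew))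
  have rm := hK hr (rw'.trans (Dvd.intro _ (h.cW ea ew).symm))
  have pr : p ≠ r := fun e => h.nd hr rm (e ▸ pn)
  obtain ⟨v, hv, v1, ov⟩ := exists_ord (K := C₁(y)) hr (rw'.trans (Dvd.intro n
    (Nat.eq_of_mul_eq_mul_right h.m0 (by rw [mul_assoc, ← ew, card_mul_index, ← ey, card_mul_index]))))
  have py : ∀ {g : G}, y ∈ C₁(g) → p ∣ Nat.card C₁(g) := fun hg =>
    ((dvd_pow_self p fun e => h.y1 ey (orderOf_eq_one_iff.1 (by rw [oy, e, pow_zero]))).trans
      (dvd_of_eq oy.symm)).trans (H16.orderOf_dvd_card hg)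
  have cv : (orderOf y).Coprime (orderOf v) := by simpa [oy, ov] using cpw hp hr pr i 1
  have cm := mem_C₁.1 hv
  have e1 := h.isY ea c hp pn (mt mem_bot.2 (mul_not_mem cm cv (mt mem_bot.1 (h.y1 ey))))
    (py (mem_C₁.2 ((Commute.refl y).mul_left cm.symm)))
  have e2 := h.isY ea c hp pn v1 (py (C₁_symm hv))
  have e3 := eq_of_index (C₁_le_of_index cm cv (e1.trans ey.symm)) (ey.trans e2.symm)
  obtain ⟨x, ex, -⟩ := h.exc hr rm rm
  obtain ⟨t, ht⟩ := exists_conj_comm' hr (ov.trans (pow_one r).symm) (g := x) (ex ▸ h.nd hr rm)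
  have e4 := h.isY ea c hp pn (fun k => h.x1 ex (conj_eq_one_iff.1 k)) (py (C₁_symm (e3 ▸ ht)))
  rw [H8.index_centralizer_conj, ex] at e4
  exact h.nm (dvd_of_eq e4)

theorem Tr.caseA {n m : ℕ} (h : Tr G n m m) : Group.IsSolvable G := by
  have h1 := h.caseA1
  have h2 := (by simpa using h.symm (mul_one m).symm : Tr G m n n).caseA1
  simp only [NP, not_forall, not_not] at h1 h2
  obtain ⟨q, j, hq, rfl⟩ := h1
  obtain ⟨p, i, hp, rfl⟩ := h2
  refine isSolvable_of_two_primes hp hq fun r hr hd => by_contra fun k => ?_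
  obtain ⟨k1, k2⟩ := not_or.1 k
  obtain ⟨z, -, z1, oz⟩ := exists_ord (K := (⊤ : Subgroup G)) hr (by rwa [card_top])
  have c1 := (hr.coprime_iff_not_dvd).1 (by simpa using cpw hr hp k1 1 i)
  have c2 := (hr.coprime_iff_not_dvd).1 (by simpa using cpw hr hq k2 1 j)
  refine z1 (mem_bot.1 (h.hZ ▸ H8.index_centralizer_eq_one_iff.1 (index_eq_one.2
    (H8.eq_top_of_forall_conj_mem fun g => ?_))))
  obtain ⟨t, ht⟩ := exists_conj_comm' hr (oz.trans (pow_one r).symm) (g := g) (by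
    by_cases g1 : g = 1
    · rw [H8.index_centralizer_eq_one_iff.2 (g1 ▸ one_mem _)]; exact hr.not_dvd_one
    · rcases h.all g g1 with e | e | e <;> rw [e]
      exacts [c1, fun k => ((Nat.Prime.dvd_mul hr).1 k).elim c1 c2, c2])
  exact ⟨t⁻¹, by rwa [inv_inv]⟩

theorem Tr.caseI {n m k : ℕ} (h : Tr G n (m * k) m) (k1 : k ≠ 1) (lt : n < m) : False := by
  have ne : n * m ≠ n * (m * k) := fun e => k1 (Nat.eq_of_mul_eq_mul_left h.m0
    ((Nat.eq_of_mul_eq_mul_left h.n0 e).symm.trans (mul_one m).symm))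
  have ord : ∀ {x : G}, C₁(x).index = n → orderOf x ∣ m := fun {x} ex => by
    obtain ⟨y, ey⟩ := h.exY
    have c : C₁(x).index.Coprime C₁(y).index := by rw [ex, ey]; exact h.cop
    have h1 := idx_mul_dvd c
    rw [ex, ey] at h1
    have h2 : C₁(x * y).index ≤ C₁(y).index := by
      rw [ey]
      by_cases k : x * y = 1
      · rw [H8.index_centralizer_eq_one_iff.2 (k ▸ one_mem _)]; exact h.m0
      · rcases h.all _ k with e | e | e
        · omega
        · exact absurd (Nat.dvd_antisymm (mul_dvd_mul_left n (dvd_mul_right m _)) (e ▸ h1)) ne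
        · omega
    have h3 := ey ▸ H17.Cs.St_dvd y
    have h4 := H17.Cs.pw (H17.Cs.le_c1 (ex ▸ h.cop.symm.coprime_dvd_left h3)) (H17.Cs.mem_St c h2)
    rw [h.hZ, mem_bot] at h4
    exact (orderOf_dvd_of_pow_eq_one h4).trans h3
  obtain ⟨r, hr, rk⟩ := Nat.exists_prime_and_dvd k1
  have rm : r ∣ m := by
    obtain ⟨q, hq, l⟩ := Nat.exists_prime_and_dvd h.m1
    obtain ⟨x, ex, j, ox⟩ := h.exc hq l (l.mul_right k)
    by_contra nr
    obtain ⟨z, ⟨i, oz⟩, e⟩ := h.cen1 ex hq ox hr (fun e => nr (e ▸ l)) (rk.mul_left m)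
    have h1 := ord (e ▸ ex)
    rw [oz] at h1
    exact nr ((dvd_pow_self r fun k => h.x1 (e ▸ ex) (orderOf_eq_one_iff.1
      (by rw [oz, k, pow_zero]))).trans h1)
  obtain ⟨p, hp, pn⟩ := Nat.exists_prime_and_dvd h.n1
  obtain ⟨y, ey, i, oy⟩ := h.exy hp pn
  have pr : p ≠ r := fun e => h.nd hr rm (e ▸ pn)
  obtain ⟨z, ⟨l, oz⟩, e⟩ := (h.symm rfl).cen1 ey hp oy hr pr (rk.mul_left n)
  obtain ⟨x, ex, j, ox⟩ := h.exc hr rm (rm.mul_right k)
  obtain ⟨t, ht⟩ := exists_conj_comm' hr oz (g := x) (ex ▸ h.nd hr rm)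
  rw [e] at ht
  have c : (orderOf y).Coprime (orderOf (t * x * t⁻¹)) := by
    rw [← MulAut.conj_apply, MulEquiv.orderOf_eq, oy, ox]; exact cpw hp hr pr _ _
  have h1 := h.all _ (mt mem_bot.2 (mul_not_mem (mem_C₁.1 ht) c (mt mem_bot.1 (h.y1 ey))))
  rw [H8.centralizer_mul_of_coprime (mem_C₁.1 ht) c, index_inf (by
    rw [H8.index_centralizer_conj, ex, ey]; exact h.cop.symm), H8.index_centralizer_conj, ex, ey,
    mul_comm m] at h1
  rcases h1 with e | e | e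
  exacts [h.mn (Dvd.intro_left _ e), ne e, h.nm (Dvd.intro _ e)]

end H26.CS
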