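import Cfsg.Agent.H26.CR3
import Cfsg.Agent.H2.Z2

/-! Centreless groups with three nontrivial class sizes. -/

set_option autoImplicit false
set_option linter.unusedSectionVars false

namespace H26.CS

open Subgroup _root_.Cfsg H3.Pt H17
open scoped MatrixGroups Pointwise

local notation "C₁(" x ")" => Subgroup.centralizer (Singleton.singleton x : Set _)
local notation "𝒩(" H ")" => Subgroup.normalizer (SetLike.coe H)

variable {G : Type*} [Group G] [Finite G]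

theorem cc_comm {M : Subgroup G} (hK : ∀ v ∈ M, v ≠ 1 → C₁(v) = M) : IsMulCommutative M :=
  ⟨⟨fun a b => Subtype.ext (by
    by_cases a1 : (a : G) = 1
    · simp [a1]
    · exact mem_C₁.1 ((hK a a.2 a1).ge b.2))⟩⟩

open scoped IsMulCommutative in
theorem nil_of_comm (h : IsMulCommutative G) : Group.IsNilpotent G := inferInstance

theorem cc_le {M N : Subgroup G} [N.Normal] (hK : ∀ v ∈ M, v ≠ 1 → C₁(v) = M) {t : G}
    (ht : t ∈ 𝒩(M)) (hN : t ∈ N) (nt : t ∉ M) : M ≤ N := fun v hv => by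
  have inj : Function.Injective fun a : M => (⟨(a : G)⁻¹ * (t * a * t⁻¹),
      mul_mem (inv_mem a.2) ((mem_normalizer_iff.1 ht a).1 a.2)⟩ : M) := fun a b e => by
    by_contra ne
    have e1 : (a : G)⁻¹ * (t * a * t⁻¹) = (b : G)⁻¹ * (t * b * t⁻¹) := congrArg Subtype.val e
    refine nt (hK _ (b * a⁻¹).2 (fun k => ne (mul_inv_eq_one.1 (Subtype.ext k)).symm) ▸ mem_C₁.2 ?_)
    calc (b : G) * (a : G)⁻¹ * t = b * ((a : G)⁻¹ * (t * a * t⁻¹)) * (t * (a : G)⁻¹) := by group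
      _ = t * (b * (a : G)⁻¹) := by rw [e1]; group
  obtain ⟨a, ha⟩ := Finite.surjective_of_injective inj ⟨v, hv⟩
  have e : (a : G)⁻¹ * t * (a : G)⁻¹⁻¹ * t⁻¹ = v := by
    rw [← show (a : G)⁻¹ * (t * a * t⁻¹) = v from congrArg Subtype.val ha]; group
  exact e ▸ mul_mem (Normal.conj_mem inferInstance t hN _) (inv_mem hN)

theorem lt_of_St {x y : G} (hx : x ∉ center G) (c : C₁(x).index.Coprime C₁(y).index)
    (e : H17.Cs.St y = ⊥) : C₁(y).index < C₁(x * y).index := by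
  by_contra l
  refine hx (mem_center_iff.2 fun g => ?_)
  have := H17.Cs.mem_St c (not_lt.1 l) g
  rw [e, mem_bot, inv_mul_eq_one, eq_mul_inv_iff_mul_eq] at this
  exact this.symm

theorem mem_C₁_conj {a g v : G} : v ∈ C₁(g * a * g⁻¹) ↔ g⁻¹ * v * g ∈ C₁(a) := by
  simp only [mem_centralizer_singleton_iff]
  constructor <;> intro e
  · calc _ = g⁻¹ * (v * (g * a * g⁻¹)) * g := by group
      _ = _ := by rw [e]; group
  · calc _ = g * (g⁻¹ * v * g * a) * g⁻¹ := by group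
      _ = _ := by rw [e]; group

theorem cc_ti {M : Subgroup G} (hK : ∀ v ∈ M, v ≠ 1 → C₁(v) = M) :
    ∀ k ∈ M, k ≠ 1 → ∀ g : G, g * k * g⁻¹ ∈ M → g ∈ 𝒩(M) := by
  haveI := Fintype.ofFinite G
  haveI := Fintype.ofFinite M
  exact ti (cc_comm hK) fun w hw w1 => (hK w hw w1).le

theorem cc_frattini {y : G} (hK : ∀ v ∈ C₁(y), v ≠ 1 → C₁(v) = C₁(y)) {N : Subgroup G}
    [hN : N.Normal] (yN : y ∈ N) {p : ℕ} (hp : p.Prime) (oy : orderOf y = p)
    (h : ¬ p ∣ C₁(y).index) : N ⊔ 𝒩(C₁(y)) = ⊤ := eq_top_iff.2 fun g _ => by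
  obtain ⟨s, hs⟩ := exists_conj_comm' (G := N) (j := 1) hp (w := ⟨g * y * g⁻¹, hN.conj_mem y yN g⟩)
    (g := ⟨y, yN⟩) (by rw [orderOf_mk, ← MulAut.conj_apply, MulEquiv.orderOf_eq, oy, pow_one])
    fun k => h (k.trans (by
      rw [show C₁((⟨y, yN⟩ : N)) = C₁(y).subgroupOf N from ext fun y => by
        simp [mem_C₁, mem_subgroupOf, commute_iff_eq, Subtype.ext_iff]]
      exact H8.relIndex_dvd_index_of_normal' _ _))
  have h1 : (s : G) * y * (s : G)⁻¹ ∈ C₁(g * y * g⁻¹) :=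
    mem_C₁.2 (congrArg Subtype.val (mem_C₁.1 hs))
  have h2 := cc_ti hK y (self_mem y) (ne_one_of_ord hp oy) (g⁻¹ * s)
    (by simpa [mul_assoc] using mem_C₁_conj.1 h1)
  simpa using mul_mem (mem_sup_left s.2) (mem_sup_right (inv_mem h2) : _ ∈ N ⊔ 𝒩(C₁(y)))

theorem cc_index_lt {y : G} (hK : ∀ v ∈ C₁(y), v ≠ 1 → C₁(v) = C₁(y)) {N : Subgroup G}
    [hN : N.Normal] (yN : y ∈ N) (y1 : y ≠ 1) (fr : N ⊔ 𝒩(C₁(y)) = ⊤) (ns : ¬ Group.IsSolvable N)
    (nl : ¬ N ≤ C₁(y)) : N.index < C₁(y).relIndex 𝒩(C₁(y)) := by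
  obtain ⟨s, hs, sN, ns'⟩ : ∃ s ∈ 𝒩(C₁(y)), s ∈ N ∧ s ∉ C₁(y) := by
    by_contra k
    push Not at k
    haveI := nil_of_comm (cc_comm hK)
    refine ns (frob_solv (H := C₁(y).subgroupOf N) ⟨fun e => y1 (congrArg Subtype.val
      (mem_bot.1 (e ▸ self_mem y : (⟨y, yN⟩ : N) ∈ ⊥))), fun e => nl (subgroupOf_eq_top.1 e),
        fun g hg => (eq_bot_iff_forall _).2 fun v hv => by_contra fun v1 => hg (k _ (inv_mem_iff.1
          (cc_ti hK v hv.1 (fun k => v1 (Subtype.ext k)) _ ?_)) g.2)⟩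
            (H1.isSolvable_subgroupOf inferInstance N))
    simpa [mem_subgroupOf, mul_assoc] using mem_pointwise_smul_iff_inv_smul_mem.1 hv.2
  have h1 := relIndex_mul_relIndex C₁(y) (N ⊓ 𝒩(C₁(y))) 𝒩(C₁(y))
    (le_inf (cc_le hK hs sN ns') le_normalizer) inf_le_right
  have h2 : C₁(y).relIndex (N ⊓ 𝒩(C₁(y))) ≠ 1 := fun e => ns' (relIndex_eq_one.1 e ⟨sN, hs⟩)
  have h3 := H16.relIndex_pos C₁(y) (N ⊓ 𝒩(C₁(y)))
  rw [inf_relIndex_right, ← relIndex_sup_left _ N, fr, relIndex_top_right] at h1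
  rw [← h1]
  exact lt_mul_left (Nat.pos_of_ne_zero index_ne_zero_of_finite) (by omega)

namespace Tr
variable {n k m : ℕ} (h : Tr G n k m)
include h

theorem wle {u x : G} (e : C₁(u).index = n * k) (cm : Commute u x)
    (c : (orderOf u).Coprime (orderOf x)) : C₁(u) ≤ C₁(x) := by
  refine C₁_le_of_index cm c ?_
  have l : n * k ∣ C₁(u * x).index :=
    e ▸ index_dvd_of_le (H8.centralizer_mul_of_coprime cm c ▸ inf_le_left)
  rcases h.all _ (mt mem_bot.2 (mul_not_mem cm c (mt mem_bot.1 (h.w1 e)))) with k | k | k <;>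
    rw [k] at l ⊢
  exacts [absurd (Nat.dvd_antisymm l (dvd_mul_right _ _)) h.nk, e.symm,
    absurd ((dvd_mul_right _ _).trans l) h.nm]

theorem nc {x : G} (x1 : x ≠ 1) : x ∉ center G := h.hZ ▸ mt mem_bot.1 x1

theorem nM {y : G} (ey : C₁(y).index = m) : n ∣ Nat.card C₁(y) :=
  h.cop.dvd_of_dvd_mul_right (by rw [← ey, card_mul_index]; exact h.nG)

theorem ccn {y : G} (ey : C₁(y).index = m) (hK : ∀ v ∈ C₁(y), v ≠ 1 → C₁(v) = C₁(y)) :
    Nat.card C₁(y) = n := by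
  obtain ⟨x, ex⟩ := h.exX
  have c : C₁(x).index.Coprime C₁(y).index := by rw [ex, ey]; exact h.cop
  refine Nat.eq_of_mul_eq_mul_right h.m0 ?_
  rw [← ex, ← ey, ← index_inf c, (eq_bot_iff_forall (C₁(x) ⊓ C₁(y))).2 fun v hv => by_contra fun v1 => ?_,
    index_bot, card_mul_index]
  rw [hK x (hK v hv.2 v1 ▸ C₁_symm hv.1) (h.x1 ex), Nat.coprime_self, ey] at c
  exact h.m1 c

theorem exy' {p : ℕ} (hp : p.Prime) (l : p ∣ n) : ∃ y : G, C₁(y).index = m ∧ orderOf y = p := by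
  obtain ⟨y, ey, j, o⟩ := h.exy hp l
  obtain ⟨_, ⟨i, rfl⟩, v1, ov⟩ := exists_ord (K := zpowers y) hp (by
    rw [Nat.card_zpowers, o]
    exact dvd_pow_self p fun e => h.y1 ey (orderOf_eq_one_iff.1 (by rw [o, e, pow_zero])))
  exact ⟨_, h.of_dvd' v1 (ey ▸ index_dvd_of_le fun g hg => mem_C₁.2 ((mem_C₁.1 hg).zpow_left i)), ov⟩

variable (mk : ¬ m ∣ k)
include mk

theorem cc {y : G} (ey : C₁(y).index = m) {r t : ℕ} (hr : r.Prime) (ht : t.Prime) (rt : r ≠ t)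
    (l : r ∣ Nat.card C₁(y)) (l' : t ∣ Nat.card C₁(y)) : ∀ v ∈ C₁(y), v ≠ 1 → C₁(v) = C₁(y) := by
  have fr : Fr G m := fun z hz hd => by
    rcases h.all z (fun k => hz (k ▸ one_mem _)) with e | e | e <;> rw [e] at hd ⊢
    · exact absurd hd (not_or.2 ⟨h.nm, h.mn⟩)
    · exact absurd hd (not_or.2 ⟨fun k => h.nm ((dvd_mul_right _ _).trans k),
        fun k => mk (h.cop.symm.dvd_of_dvd_mul_left k)⟩)
  exact fun v hv v1 => fr.all (h.nc (h.y1 ey)) ey hr ht rt (by rwa [h.hZ, relIndex_bot_left])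
    (by rwa [h.hZ, relIndex_bot_left]) hv (h.nc v1)

theorem hY {y : G} (ey : C₁(y).index = m) :
    Group.IsNilpotent C₁(y) ∧ ∀ r : ℕ, r.Prime → r ∣ Nat.card C₁(y) → r ∣ n := by
  obtain ⟨p, hp, pn⟩ := Nat.exists_prime_and_dvd h.n1
  by_cases k : ∀ r : ℕ, r.Prime → r ∣ Nat.card C₁(y) → r = p
  · haveI := Fact.mk hp
    exact ⟨(IsPGroup.of_card (Nat.eq_prime_pow_of_unique_prime_dvd Nat.card_pos.ne'
      (k _))).isNilpotent, fun r hr l => k r hr l ▸ pn⟩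
  · push Not at k
    obtain ⟨r, hr, l, rp⟩ := k
    have hK := h.cc mk ey hr hp rp l (pn.trans (h.nM ey))
    exact ⟨nil_of_comm (cc_comm hK), fun r _ l => h.ccn ey hK ▸ l⟩

theorem nil {K : Subgroup G} (c : (Nat.card K).Coprime n) {y : G} (hy : y ∈ 𝒩(K))
    (ey : C₁(y).index = m) {p : ℕ} (hp : p.Prime) (o : orderOf y = p) : Group.IsNilpotent K :=
  H2.thompson_fpf_conj hy hp (o ▸ pow_orderOf_eq_one y) (card_eq_one.1
    (Nat.eq_one_iff_not_exists_prime_dvd.2 fun r hr l => hr.not_dvd_one (c ▸ Nat.dvd_gcd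
      (l.trans (card_dvd_of_le inf_le_left)) ((h.hY mk ey).2 r hr
        (l.trans (card_dvd_of_le inf_le_right))))))

theorem caseF {q : ℕ} (hq : q.Prime) (hk : ∀ r : ℕ, r.Prime → r ∣ k → r ∣ m → r = q) :
    Group.IsSolvable G := by
  obtain ⟨D, _, h1, h2⟩ := exists_res (G := G)
  refine solv_of_normal (N := D) ?_ h1
  by_cases hp : ∀ p : ℕ, p.Prime → p ∣ n → HasNormalPComplement p G
  · obtain ⟨p, hp', pn⟩ := Nat.exists_prime_and_dvd h.n1
    obtain ⟨y, ey, o⟩ := h.exy' hp' pn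
    haveI := h.nil mk (K := D) (Nat.coprime_of_dvd fun r hr l l' => h2 r hr (hp r hr l') l)
      (normalizer_eq_top D ▸ mem_top y) ey hp' o
    infer_instance
  push Not at hp
  obtain ⟨p, hp, pn, np⟩ := hp
  obtain ⟨x, ex⟩ := h.exX
  obtain ⟨y, ey⟩ := h.exY
  haveI := Fact.mk hq
  let Q : Sylow q D := default
  refine Cfsg.Agent.S0564.result (C₁(y).subgroupOf D) Q (H1.isNilpotent_subgroupOf (h.hY mk ey).1 D)
    Q.isPGroup'.isNilpotent (H17.Cs.prod (Nat.coprime_of_dvd fun r hr l l' => Q.not_dvd_index ?_))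
  have rm : r ∣ m := l.trans (ey ▸ H8.relIndex_dvd_index_of_normal' _ _)
  refine hk r hr (by_contra fun rk => h2 r hr ?_ (l.trans (index_dvd_card _))) rm ▸ l'
  refine (Cfsg.Agent.S4160.result p r hp hr (fun e => h.nd hr rm (e ▸ pn)) ⟨x, ex ▸ pn⟩ ⟨y, ey ▸ rm⟩
    fun g hg => ?_).resolve_left np
  have g1 := (dvd_mul_right p r).trans hg
  have g2 := (dvd_mul_left r p).trans hg
  rcases h.all g (ne_of_idx fun e => hp.not_dvd_one (e ▸ g1)) with e | e | e <;> rw [e] at g1 g2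
  exacts [h.nd hr rm g2, ((Nat.Prime.dvd_mul hr).1 g2).elim (h.nd hr rm) rk, h.nd hp g1 pn]

variable {a : G} (ea : C₁(a).index = n) (c : (Nat.card C₁(a)).Coprime n)
include ea c

theorem cY {y : G} (ey : C₁(y).index = m) : Nat.card C₁(y) = n :=
  Nat.dvd_antisymm ((Nat.coprime_of_dvd fun r hr l l' => hr.not_dvd_one (c ▸ Nat.dvd_gcd l'
    ((h.hY mk ey).2 r hr l))).dvd_of_dvd_mul_left
      (by rw [← ea, card_mul_index]; exact card_subgroup_dvd_card _)) (h.nM ey)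

theorem cG : Nat.card G = n * m := let ⟨y, ey⟩ := h.exY; by
  rw [← h.cY mk ea c ey, ← ey, card_mul_index]

theorem cX {x : G} (ex : C₁(x).index = n) : Nat.card C₁(x) = m :=
  Nat.eq_of_mul_eq_mul_right h.n0 (by rw [mul_comm m, ← h.cG mk ea c, ← ex, card_mul_index])

theorem nY {v : G} (o : (orderOf v).Coprime n) : C₁(v).index ≠ m := fun e =>
  h.y1 e (orderOf_eq_one_iff.1 (o.eq_one_of_dvd (h.cY mk ea c e ▸ Xs.ord v)))

theorem copn {v : G} (v1 : v ≠ 1) (o : (orderOf v).Coprime n) : (Nat.card C₁(v)).Coprime n :=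
  Nat.coprime_of_dvd fun _ hp l l' => h.nY mk ea c o (h.isY ea c hp l' v1 l)

theorem caseB' (hs : Group.IsSolvable C₁(a)) {B : Subgroup G} [B.Normal] (h0 : B ≠ ⊥)
    (hB : (Nat.card B).Coprime m) : Group.IsSolvable G := by
  obtain ⟨z, hz, hp⟩ := exists_prime_order h0
  have pB := H16.orderOf_dvd_card hz
  have pn := ((Nat.Prime.dvd_mul hp).1 (h.cG mk ea c ▸ orderOf_dvd_natCard z)).resolve_right
    fun k => hp.not_dvd_one (hB ▸ Nat.dvd_gcd pB k)
  have ez := h.isY ea c hp pn (fun k => hp.ne_one (orderOf_eq_one_iff.2 k)) (Xs.ord z)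
  have e : C₁(z) = centralizer (B : Set G) := le_antisymm (fun v hv => by
    by_cases v1 : v = 1
    · exact v1 ▸ one_mem _
    obtain ⟨r, hr, l⟩ := exists_prime_dvd_ord v1
    have ev := h.isY ea c hr (h.cY mk ea c ez ▸ l.trans (H16.orderOf_dvd_card hv)) v1
      (l.trans (Xs.ord v))
    exact fun b hb => (mem_C₁.1 (H17.Cs.le_c1 (ev ▸ hB) hb)).symm)
    (centralizer_le (Set.singleton_subset_iff.2 hz))
  haveI := (h.hY mk ez).1
  haveI : C₁(z).Normal := e ▸ inferInstance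
  refine solv_top hs (N := C₁(z)) inferInstance (eq_top_iff.2 fun g _ => ?_)
  obtain ⟨u, hu, v, hv, rfl⟩ := H17.Cs.prod (H := C₁(a)) (L := C₁(z)) (by rw [ea, ez]; exact h.cop) g
  exact mul_mem (mem_sup_left hu) (mem_sup_right hv)

theorem caseH (hs : Group.IsSolvable C₁(a)) {b : G} (eb : C₁(b) = C₁(a)) {q r i j : ℕ}
    (hq : q.Prime) (hr : r.Prime) (qr : q ≠ r) (oa : orderOf a = q ^ i) (ob : orderOf b = r ^ j)
    {A : Subgroup G} [A.Normal] (h0 : A ≠ ⊥) (hA : (Nat.card A).Coprime n) : Group.IsSolvable G := by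
  by_cases hN : ¬ 𝒩(C₁(a)) ≤ C₁(a)
  · obtain ⟨p, hp, l⟩ := Nat.exists_prime_and_dvd (mt relIndex_eq_one.1 hN)
    obtain ⟨y, hy, y1, o⟩ := exists_ord (K := 𝒩(C₁(a))) hp (l.trans (relIndex_dvd_card _ _))
    have ey := h.isY ea c hp (ea ▸ l.trans (relIndex_dvd_index_of_le le_normalizer)) y1 (o ▸ Xs.ord y)
    exact Cfsg.Agent.S0564.result _ _ (h.nil mk c hy ey hp o) (h.hY mk ey).1
      (H17.Cs.prod (by rw [ea, ey]; exact h.cop))
  rw [not_not] at hN
  let S := centralizer {x : G | C₁(x).index = n}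
  haveI : S.Normal := ⟨fun u hu g x hx => mem_C₁.1 (C₁_symm (mem_C₁_conj.2 (C₁_symm (mem_C₁.2
    (hu _ (by rw [← hx, ← H8.index_centralizer_conj x g⁻¹, inv_inv]; rfl))))))⟩
  have hX : ∀ {x : G}, C₁(x).index = n → x ∈ S := fun {x} ex x' ex' => by
    obtain ⟨z, hz, z1⟩ := (bot_or_exists_ne_one A).resolve_left h0
    exact mem_C₁.1 (H17.Cs.le_c1 (N := centralizer (A : Set G)) (ex' ▸ (h.copn mk ea c z1
      (hA.coprime_dvd_left (H16.orderOf_dvd_card hz))).coprime_dvd_left (card_dvd_of_le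
        (centralizer_le (Set.singleton_subset_iff.2 hz)))) fun u hu =>
          (mem_C₁.1 (H17.Cs.le_c1 (ex ▸ hA) hu)).symm)
  have hS : ∀ {x : G}, C₁(x).index = n → S ≤ C₁(x) := fun ex u hu => mem_C₁.2 (hu _ ex)
  have key : ∀ g ∉ C₁(a), ∀ v ∈ C₁(a), g⁻¹ * v * g ∈ C₁(a) → v ∈ S := fun g hg v hv hv' => by
    have e1 : C₁(g * b * g⁻¹) = C₁(g * a * g⁻¹) := ext fun u => by rw [mem_C₁_conj, mem_C₁_conj, eb]
    have e2 : C₁(g * b * g⁻¹).index = n := by rw [H8.index_centralizer_conj, eb, ea]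
    have oc : ∀ u : G, orderOf (g * u * g⁻¹) = orderOf u := fun u => by
      rw [← MulAut.conj_apply, MulEquiv.orderOf_eq]
    have cm := mem_C₁.1 (hS ea (hX e2))
    have cp : (orderOf a).Coprime (orderOf (g * b * g⁻¹)) := by rw [oc, oa, ob]; exact cpw hq hr qr _ _
    have e3 : (C₁(a) ⊓ C₁(g * b * g⁻¹)).index = n * k := by
      rw [← H8.centralizer_mul_of_coprime cm cp]
      rcases h.all _ (mt mem_bot.2 (mul_not_mem cm cp (mt mem_bot.1 (h.x1 ea)))) with k | k | k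
      · have := eq_of_index (C₁_le_of_index cm cp (k.trans ea.symm)) (ea.trans e2.symm)
        exact absurd (hN (mem_normalizer_iff''.2 fun u => by rw [← mem_C₁_conj, ← e1, ← this])) hg
      · exact k
      · exact absurd (ea ▸ k ▸ index_dvd_of_le
          (H8.centralizer_mul_of_coprime cm cp ▸ inf_le_left)) h.nm
    have k2 : ∀ u ∈ C₁(a) ⊓ C₁(g * b * g⁻¹), (orderOf u).Coprime (orderOf a) ∨
        (orderOf u).Coprime (orderOf b) → u ∈ S := fun u hu o => by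
      by_cases u1 : u = 1
      · exact u1 ▸ one_mem _
      rcases h.all u u1 with e | e | e
      · exact hX e
      · have l : C₁(u) ≤ C₁(a) ⊓ C₁(g * b * g⁻¹) := by
          rcases o with o | o
          · exact le_inf (h.wle e (mem_C₁.1 hu.1).symm o)
              (e1 ▸ h.wle e (mem_C₁.1 (e1 ▸ hu.2)).symm (by rwa [oc]))
          · exact le_inf (eb ▸ h.wle e (mem_C₁.1 (eb ▸ hu.1)).symm o)
              (h.wle e (mem_C₁.1 hu.2).symm (by rwa [oc]))
        exact fun x hx => (mem_C₁.1 ((eq_of_index l (e.trans e3.symm)).ge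
          ⟨hS ea (hX hx), hS e2 (hX hx)⟩)).symm
      · exact absurd e (h.nY mk ea c (c.coprime_dvd_left (H16.orderOf_dvd_card hu.1)))
    have hv2 : v ∈ C₁(a) ⊓ C₁(g * b * g⁻¹) := ⟨hv, e1 ▸ mem_C₁_conj.2 hv'⟩
    exact mem_of_parts hr (fun l s o => k2 _ (pow_mem hv2 l) (Or.inl (by
      rw [o, oa]; exact cpw hr hq qr.symm _ _))) fun l o => k2 _ (pow_mem hv2 l)
        (Or.inr (ob ▸ o.pow_right j))
  have mm : ∀ u : G, (u : G ⧸ S) ∈ C₁(a).map (QuotientGroup.mk' S) ↔ u ∈ C₁(a) := fun u =>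
    SetLike.ext_iff.1 (comap_map_eq_self (f := QuotientGroup.mk' S)
      ((QuotientGroup.ker_mk' S).trans_le (hS ea))) u
  have nt : C₁(a) ≠ ⊤ := fun e => h.n1 (by rw [← ea, e, index_top])
  refine solv_of_normal (H1.isSolvable_of_le hs (hS ea)) (frob_solv
    (H := C₁(a).map (QuotientGroup.mk' S)) ⟨fun e => nt ?_, fun e => nt ?_, fun g hg => ?_⟩
      (H1.isSolvable_map hs _))
  · rw [Subgroup.map_eq_bot_iff, QuotientGroup.ker_mk'] at e
    haveI : C₁(a).Normal := le_antisymm (hS ea) e ▸ inferInstance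
    exact top_le_iff.1 (normalizer_eq_top C₁(a) ▸ hN)
  · exact eq_top_iff.2 fun u _ => (mm u).1 (e ▸ mem_top _)
  · obtain ⟨g, rfl⟩ := QuotientGroup.mk_surjective g
    refine (eq_bot_iff_forall _).2 fun v hv => ?_
    obtain ⟨v, rfl⟩ := QuotientGroup.mk_surjective v
    refine (QuotientGroup.eq_one_iff v).2 (key g (mt (mm g).2 hg) v ((mm v).1 hv.1) ((mm _).1 ?_))
    simpa [mul_assoc] using mem_pointwise_smul_iff_inv_smul_mem.1 hv.2

theorem caseJ (hA : ∀ A : Subgroup G, A.Normal → A ≠ ⊥ → ¬ (Nat.card A).Coprime n)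
    (hB : ∀ A : Subgroup G, A.Normal → A ≠ ⊥ → ¬ (Nat.card A).Coprime m) : False := by
  classical
  haveI := Fintype.ofFinite G
  have ns : ∀ N : Subgroup G, N.Normal → N ≠ ⊥ → ¬ Group.IsSolvable N := fun N _ h0 hs => by
    obtain ⟨M, p, hM, M0, -, hp, -, -, pg, -⟩ := H1.exists_minimal_normal_elementary N hs h0
    haveI := Fact.mk hp
    obtain ⟨l, hl⟩ := IsPGroup.iff_card.1 pg
    by_cases k : p ∣ n
    · exact hB M hM M0 (hl ▸ (hp.coprime_iff_not_dvd.2 fun k' => h.nd hp k' k).pow_left l)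
    · exact hA M hM M0 (hl ▸ (hp.coprime_iff_not_dvd.2 k).pow_left l)
  have nn : NP n := fun p l hp e => by
    haveI := Fact.mk hp
    refine ns (normalClosure {a}) inferInstance (fun k => h.x1 ea ?_) (H8.kazarin (ea.trans e))
    exact mem_bot.1 (k.le (subset_normalClosure (Set.mem_singleton a)))
  haveI : Nontrivial G := ⟨⟨a, 1, h.x1 ea⟩⟩
  obtain ⟨N, hN, N0, -, mn⟩ := H1.exists_minimal_normal_le (⊤ : Subgroup G) top_ne_bot
  obtain ⟨p, hp, pN, pn⟩ := Nat.Prime.not_coprime_iff_dvd.1 (hA N hN N0)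
  obtain ⟨y, yN, y1, oy⟩ := exists_ord hp pN
  have ey := h.isY ea c hp pn y1 (oy ▸ Xs.ord y)
  have hL : ∀ L : Subgroup G, L.Normal → L ≠ ⊥ → N ≤ L := fun L hL L0 => by
    refine ((mn (N ⊓ L) inferInstance inf_le_left).resolve_left fun k => ?_).ge.trans inf_le_right
    obtain ⟨r, hr, rL, rm⟩ := Nat.Prime.not_coprime_iff_dvd.1 (hB L hL L0)
    obtain ⟨v, vL, v1, ov⟩ := exists_ord hr rL
    exact h.nd hr rm ((h.hY mk ey).2 r hr (ov ▸ H16.orderOf_dvd_card (mem_C₁.2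
      (commute_of_normal_of_disjoint N L hN hL (disjoint_iff.2 k) y v yN vL))))
  obtain ⟨r, t, hr, ht, rt, l, l'⟩ := nn.two h.n0.ne'
  have hK := h.cc mk ey hr ht rt (l.trans (h.nM ey)) (l'.trans (h.nM ey))
  have cM := h.cY mk ea c ey
  have fr := cc_frattini hK yN hp oy fun k => h.nd hp (ey ▸ k) pn
  have lt := cc_index_lt hK yN y1 fr (ns N hN N0) fun e =>
    hB N hN N0 (h.cop.coprime_dvd_left (cM ▸ card_dvd_of_le e))
  have cp : ∀ v ∈ C₁(y), v ≠ 1 → C₁(a).index.Coprime C₁(v).index := fun v hv v1 => by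
    rw [hK v hv v1, ea, ey]; exact h.cop
  have l1 : ∀ v ∈ C₁(y), v ≠ 1 → m < C₁(a * v).index := fun v hv v1 => by
    have ev : C₁(v).index = m := by rw [hK v hv v1, ey]
    exact ev ▸ lt_of_St (h.nc (h.x1 ea)) (cp v hv v1) (by_contra fun k => hA _ inferInstance k
      (h.cop.symm.coprime_dvd_left (ev ▸ H17.Cs.St_dvd v)))
  have l2 : n < C₁(a * y).index := by
    rw [show a * y = a * (y * a) * a⁻¹ by group, H8.index_centralizer_conj]
    exact ea ▸ lt_of_St (h.nc y1) (cp y (self_mem y) y1).symm (by_contra fun k =>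
      hB _ inferInstance k (h.cop.coprime_dvd_left (ea ▸ H17.Cs.St_dvd a)))
  have l3 := l1 y (self_mem y) y1
  have h4 : C₁(a * y).index = n * k := by
    have := h.n0
    rcases h.all (a * y) (ne_of_idx (by omega)) with e | e | e <;> omega
  have h0 : C₁(y) ≠ ⊥ := fun k => y1 (mem_bot.1 (k ▸ self_mem y))
  have i0 : 0 < N.index := Nat.pos_of_ne_zero index_ne_zero_of_finite
  obtain ⟨u, hu, nu, hd⟩ := exists_cen hK h0 (by omega)
  have u1 : u ≠ 1 := fun k => nu (k ▸ one_mem _)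
  rcases h.all u u1 with e | e | e
  · have h2 : u ∈ 𝒩(C₁(y)).normalCore := fun g => by
      obtain ⟨a, ha, b, hb, rfl⟩ := H17.Cs.prod (H := C₁(y)) (L := C₁(u))
        (by rw [e, ey]; exact h.cop.symm) g
      rw [show a * b * u * (a * b)⁻¹ = a * (b * u * b⁻¹) * a⁻¹ by group, ← (mem_C₁.1 hb).eq,
        mul_inv_cancel_right]
      exact mul_mem (mul_mem (le_normalizer ha) hu) (inv_mem (le_normalizer ha))
    rw [sup_eq_right.2 ((hL _ inferInstance fun k => u1 (mem_bot.1 (k ▸ h2))).trans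
      (normalCore_le _))] at fr
    exact hB _ (normalizer_eq_top_iff.1 fr) h0 (cM ▸ h.cop)
  · have h6 : Nat.card C₁(u) = Nat.card C₁(a * y) := Nat.eq_of_mul_eq_mul_right
      (H8.index_centralizer_pos u) (by rw [card_mul_index, e, ← h4, card_mul_index])
    have h7 := h6 ▸ Nat.le_of_dvd Nat.card_pos hd
    refine (h7.trans (Cf.le_index (x := a) ⟨cc_comm hK, fun w hw w1 => (hK w hw w1).le,
      fun k hk e => ?_, fun v hv v1 k hk e => ?_, fun v hv v1 => conj_mul' (cp v hv v1)⟩ h.hZ hL ?_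
        (rel_lt hK (cM ▸ nn)) (self_mem y) y1 h7)).not_gt lt
    · have h1 := cp k hk (by rintro rfl; exact h.x1 ea (isConj_one_left.1 e))
      rw [← H8.index_centralizer_of_isConj e, Nat.coprime_self, ea] at h1
      exact h.n1 h1
    · have h1 := l1 v hv v1
      rw [H8.index_centralizer_of_isConj e] at h1
      by_cases k1 : k = 1
      · rw [k1, H8.index_centralizer_eq_one_iff.2 (one_mem _)] at h1
        have := h.m0
        omega
      · rw [hK k hk k1, ey] at h1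
        exact h1.ne rfl
    · rw [mul_comm, ← Nat.card_congr (subgroupOfEquivOfLe (le_normalizer (H := C₁(y)))).toEquiv]
      exact (card_mul_index _).symm
  · have := (h.cop.symm.coprime_dvd_left (ey ▸ relIndex_dvd_index_of_le
      (le_normalizer (H := C₁(y))))).eq_one_of_dvd (h.cY mk ea c e ▸ hd)
    omega

end Tr

theorem Tr.solv {n k m : ℕ} (h : Tr G n k m) : Group.IsSolvable G := by
  by_cases mk : m ∣ k
  · obtain ⟨k', rfl⟩ := mk
    by_cases k1 : k' = 1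
    · exact (by simpa [k1] using h : Tr G n m m).caseA
    rcases lt_trichotomy n m with l | l | l
    exacts [(h.caseI k1 l).elim, (h.nm (dvd_of_eq l)).elim, ((h.symm rfl).caseI k1 l).elim]
  by_cases hq : ∃ q : ℕ, q.Prime ∧ ∀ r : ℕ, r.Prime → r ∣ k → r ∣ m → r = q
  · exact let ⟨_, hq, hk⟩ := hq; h.caseF mk hq hk
  push Not at hq
  obtain ⟨q, hq', l, l', -⟩ := hq 2 Nat.prime_two
  obtain ⟨r, hr, s, s', rq⟩ := hq q hq'
  obtain ⟨a, ea, i, oa⟩ := h.exc hq' l' l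
  obtain ⟨b, ⟨j, ob⟩, eb⟩ := h.cen1 ea hq' oa hr rq.symm s
  have hK := fun (t : ℕ) (ht : t.Prime) => h.two ea hq' hr rq.symm oa l s ht
  have c : (Nat.card C₁(a)).Coprime n :=
    Nat.coprime_of_dvd fun t ht h1 => h.nd ht ((hK t ht h1).elim (· ▸ l') (· ▸ s'))
  have hs := isSolvable_of_two_primes hq' hr hK
  by_contra ns
  exact h.caseJ mk ea c (fun A _ h0 hA => ns (h.caseH mk ea c hs eb hq' hr rq.symm oa ob h0 hA))
    fun A _ h0 hA => ns (h.caseB' mk ea c hs h0 hA)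

theorem exists_tr (hZ : center G = ⊥) (h : {m : ℕ | ∃ x : G, x ∉ center G ∧ m = C₁(x).index}.ncard ≤ 3)
    {w x : G} (hw : w ∉ center G) (hx : x ∉ center G) (l : C₁(w) ≤ C₁(x)) (ne : C₁(w) ≠ C₁(x)) :
    ∃ n k m, Tr G n k m := by
  obtain ⟨k, hk⟩ := index_dvd_of_le l
  have k1 : k ≠ 1 := by rintro rfl; exact ne (eq_of_index l (by rw [hk, mul_one]))
  have n0 := H8.index_centralizer_pos x
  have n1 := mt H8.index_centralizer_eq_one_iff.1 hx
  generalize ex : C₁(x).index = n at hk n0 n1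
  have nk : n ≠ n * k := fun e => k1 (Nat.eq_of_mul_eq_mul_left n0 (e.symm.trans (mul_one n).symm))
  obtain ⟨y, y1, -, hy⟩ := exists_central (Nat.minFac_prime n1) (n.minFac_dvd.trans (ex ▸ idx_dvd x))
  have nc : ∀ {z : G}, z ≠ 1 → z ∉ center G := fun z1 => hZ ▸ mt mem_bot.1 z1
  have m1 := mt H8.index_centralizer_eq_one_iff.1 (nc y1)
  generalize ey : C₁(y).index = m at hy m1
  have fin : {m : ℕ | ∃ x : G, x ∉ center G ∧ m = C₁(x).index}.Finite :=
    (Set.finite_range fun x : G => C₁(x).index).subset fun _ ⟨x, _, e⟩ => ⟨x, e.symm⟩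
  have h1 : ({n, n * k, m} : Set ℕ) = {m : ℕ | ∃ x : G, x ∉ center G ∧ m = C₁(x).index} := by
    refine Set.eq_of_subset_of_ncard_le ?_ (h.trans (Set.ncard_eq_three.2 ⟨_, _, _, nk,
      fun e => hy (n.minFac_dvd.trans (dvd_of_eq e)),
      fun e => hy ((n.minFac_dvd.mul_right k).trans (dvd_of_eq e)), rfl⟩).ge) fin
    rintro _ (rfl | rfl | rfl)
    exacts [⟨x, hx, ex.symm⟩, ⟨w, hw, hk.symm⟩, ⟨y, nc y1, ey.symm⟩]
  have all : ∀ z : G, z ≠ 1 → C₁(z).index = n ∨ C₁(z).index = n * k ∨ C₁(z).index = m :=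
    fun z z1 => h1.ge ⟨z, nc z1, rfl⟩
  refine ⟨n, k, m, Nat.coprime_of_dvd fun r hr h2 h3 => ?_, all, n1, k1, m1, ⟨x, ex⟩, ⟨w, hk⟩, y, ey⟩
  obtain ⟨z, z1, -, hz⟩ := exists_central hr (h2.trans (ex ▸ idx_dvd x))
  rcases all z z1 with e | e | e <;> rw [e] at hz
  exacts [hz h2, hz (h2.mul_right k), hz h3]

theorem pgl_notF {F : Type*} [Field F] [Fintype F] (e : G ≃* PGL(2, F)) (o : Odd (Fintype.card F))
    (hZ : center G = ⊥) (h : ∀ x ∉ center G, ∀ y ∉ center G, C₁(x) ≤ C₁(y) → C₁(x) = C₁(y)) :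
    False := by
  have h8 : 2 ^ 3 ∣ Nat.card G := by
    rw [Nat.card_congr e.toEquiv, H4.card_pgl]
    obtain ⟨c, hc⟩ := o
    obtain ⟨d, hd⟩ := Nat.even_mul_succ_self c
    exact Dvd.dvd.mul_left ⟨d, Nat.sub_eq_of_eq_add (by rw [hc]; linarith)⟩ _
  have h2 := H4.two_ne_zero_of_odd o
  obtain ⟨z, z1, ⟨j, oz⟩, hz⟩ := exists_central (G := G) Nat.prime_two ((by norm_num : 2 ∣ 2 ^ 3).trans h8)
  obtain ⟨a, b, h4, hc⟩ := four e.toMonoidHom e.injective (fun u _ => e.surjective u) h2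
  obtain ⟨g, hg⟩ := exists_conj_comm (P := H4.V4 a b) (IsPGroup.of_card (p := 2) (n := 2) h4.card) hz
  obtain ⟨t, ⟨i, hi⟩, t1, ot⟩ := exists_ord (K := zpowers (g * z * g⁻¹)) Nat.prime_two (by
    rw [Nat.card_zpowers, ← MulAut.conj_apply, MulEquiv.orderOf_eq, oz]
    exact dvd_pow_self 2 fun e => z1 (orderOf_eq_one_iff.1 (by rw [oz, e, pow_zero])))
  have l : C₁(g * z * g⁻¹) ≤ C₁(t) := fun u hu => hi ▸ mem_C₁.2 ((mem_C₁.1 hu).zpow_left i)
  have l' := index_dvd_of_le l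
  rw [H8.index_centralizer_conj] at l'
  obtain ⟨T, hT⟩ := dih e.toMonoidHom e.injective h2 ot
  obtain ⟨u, rfl⟩ := hT.exists_gen
  have hu := hT.le (mem_zpowers u)
  have u2 : u * u ≠ 1 := fun k => by
    have h1 := ((Nat.prime_two.coprime_iff_not_dvd.2 fun k => hz (k.trans l')).pow_left
      3).dvd_of_dvd_mul_right (C₁(t).card_mul_index ▸ h8)
    have h3 := (h1.trans hT.card_dvd).trans (mul_dvd_mul_left 2
      (Nat.card_zpowers u ▸ orderOf_dvd_of_pow_eq_one ((sq u).trans k)))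
    omega
  have e1 := h u (hZ ▸ fun k => u2 (by rw [mem_bot.1 k, mul_one])) t (hZ ▸ mt mem_bot.1 t1)
    fun v hv => mem_C₁.2 (ct e.toMonoidHom e.injective (fun k => u2 (by rw [k, mul_one])) (Or.inr u2)
      (mem_C₁.1 hu) (mem_C₁.1 hv).symm)
  exact u2 (hc u (mem_C₁.1 (e1.ge (l (mem_C₁.2 (hg a (H4.left_mem_V4 a b)).symm))))
    (mem_C₁.1 (e1.ge (l (mem_C₁.2 (hg b (H4.right_mem_V4 a b)).symm)))))

theorem three' (hZ : center G = ⊥) (ns : ¬ Group.IsSolvable G)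
    (h : {m : ℕ | ∃ x : G, x ∉ center G ∧ m = C₁(x).index}.ncard ≤ 3) :
    ∃ (m : ℕ) (F : Type) (_ : Field F) (_ : Fintype F), 2 ≤ m ∧ Fintype.card F = 2 ^ m ∧
      Nonempty (G ≃* PSL(2, F)) := by
  have hF : ∀ x ∉ center G, ∀ y ∉ center G, C₁(x) ≤ C₁(y) → C₁(x) = C₁(y) := fun x hx y hy l =>
    by_contra fun ne => let ⟨_, _, _, t⟩ := exists_tr hZ h hx hy l ne; ns t.solv
  have e0 : G ≃* G ⧸ center G := QuotientGroup.quotientBot.symm.trans
    (QuotientGroup.quotientMulEquivOfEq hZ.symm)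
  rcases fgroup hF with k | ⟨F, i, j, h3, ⟨⟨e⟩⟩ | ⟨o, ⟨e⟩⟩⟩
  · exact absurd k ns
  · haveI := H22.PSL_fin_isSimpleGroup (F := F) 2 le_rfl fun _ => h3
    haveI := (e0.trans e).isSimpleGroup
    exact three (fun hc => ns (IsSimpleGroup.comm_iff_isSolvable.1 hc.is_comm.comm)) h
  · exact (pgl_notF (e0.trans e) o hZ hF).elim

end H26.CS
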