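import Cfsg.Agent.H3.Cs

/-! Groups with the class sizes of `PSL₂(q)`: general lemmas on class sizes. -/

set_option autoImplicit false
set_option linter.unusedSectionVars false

namespace H26.CS

open Subgroup _root_.Cfsg H3.Pt

local notation "C₁(" x ")" => Subgroup.centralizer (Singleton.singleton x : Set _)

variable {G : Type*} [Group G] [Finite G]

/-- no other class size divides `s` or is divisible by `s` -/
def Fr (G : Type*) [Group G] (s : ℕ) : Prop :=
  ∀ y ∉ center G, (C₁(y).index ∣ s ∨ s ∣ C₁(y).index) → C₁(y).index = s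

theorem Fr.up {s : ℕ} (hs : Fr G s) {a b : G} (e : C₁(a).index = s) (hb : b ∉ center G)
    (l : C₁(a) ≤ C₁(b)) : C₁(a) = C₁(b) :=
  eq_of_index l (e.trans (hs b hb (Or.inl (e ▸ index_dvd_of_le l))).symm)

theorem Fr.down {s : ℕ} (hs : Fr G s) {a b : G} (e : C₁(a).index = s) (hb : b ∉ center G)
    (l : C₁(b) ≤ C₁(a)) : C₁(b) = C₁(a) :=
  eq_of_index l ((hs b hb (Or.inr (e ▸ index_dvd_of_le l))).trans e.symm)

theorem Fr.cop {s : ℕ} (hs : Fr G s) {a v : G} (ha : a ∉ center G) (e : C₁(a).index = s)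
    (hv : v ∉ center G) (c : Commute a v) (hc : (orderOf a).Coprime (orderOf v)) :
    C₁(v) = C₁(a) := by
  have h1 := hs.down e (mul_not_mem c hc ha)
    (by rw [H8.centralizer_mul_of_coprime c hc]; exact inf_le_left)
  exact (hs.up e hv (C₁_le_of_index c hc (by rw [h1]))).symm

theorem Fr.all {s : ℕ} (hs : Fr G s) {g : G} (hg : g ∉ center G) (e : C₁(g).index = s) {r t : ℕ}
    (hr : r.Prime) (ht : t.Prime) (rt : r ≠ t) (h1 : r ∣ (center G).relIndex C₁(g))
    (h2 : t ∣ (center G).relIndex C₁(g)) {w : G} (hw : w ∈ C₁(g)) (nw : w ∉ center G) :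
    C₁(w) = C₁(g) := by
  obtain ⟨n, u, j, hu, o, nc⟩ := exists_prim hg
  have e1 : C₁(g) = C₁(g ^ n) := hs.up e nc (C₁_pow g n)
  have cp : ∀ {a b i l : ℕ}, a.Prime → b.Prime → a ≠ b → (a ^ i).Coprime (b ^ l) :=
    fun ha hb ab => Nat.Coprime.pow _ _ ((Nat.coprime_primes ha hb).2 ab)
  obtain ⟨r', hr', ru, hd⟩ : ∃ r' : ℕ, r'.Prime ∧ r' ≠ u ∧ r' ∣ (center G).relIndex C₁(g) := by
    by_cases h : r = u
    · exact ⟨t, ht, fun k => rt (h.trans k.symm), h2⟩
    · exact ⟨r, hr, h, h1⟩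
  obtain ⟨v, hv, nv, i, ov⟩ := exists_noncentral hr' hd
  have e2 : C₁(v) = C₁(g ^ n) :=
    hs.cop nc (e1 ▸ e) nv (mem_C₁.1 (e1 ▸ hv)) (by rw [o, ov]; exact cp hu hr' ru.symm)
  obtain ⟨m, u', j', hu', o', nc'⟩ := exists_prim nw
  have hw' : w ^ m ∈ C₁(g) := pow_mem hw m
  have e3 : C₁(w ^ m) = C₁(g) := by
    by_cases h : u' = u
    · rw [hs.cop nv (by rw [e2, ← e1, e]) nc' (mem_C₁.1 (by rw [e2, ← e1]; exact hw'))
        (by rw [o', ov]; exact cp hr' hu' (h ▸ ru)), e2, e1]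
    · rw [hs.cop nc (e1 ▸ e) nc' (mem_C₁.1 (e1 ▸ hw')) (by rw [o', o]; exact cp hu hu' (Ne.symm h)),
        e1]
  rw [hs.down (by rw [e3, e]) nw (C₁_pow w m), e3]

theorem exists_conj_comm {r : ℕ} [Fact r.Prime] {P : Subgroup G} (hP : IsPGroup r P) {g : G}
    (h : ¬ r ∣ C₁(g).index) : ∃ t : G, ∀ w ∈ P, Commute w (t * g * t⁻¹) := by
  obtain ⟨c, hc⟩ := hP.nonempty_fixed_point_of_prime_not_dvd_card (G ⧸ C₁(g)) h
  obtain ⟨t, rfl⟩ := QuotientGroup.mk_surjective c
  refine ⟨t, fun w hw => ?_⟩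
  have h1 : ((w * t : G) : G ⧸ C₁(g)) = (t : G ⧸ C₁(g)) := hc ⟨w, hw⟩
  rw [eq_comm, QuotientGroup.eq, mem_C₁] at h1
  have h2 : w = t * (t⁻¹ * (w * t)) * t⁻¹ := by group
  rw [h2]
  exact (h1.symm.conj t)

/-- an element of order a power of `r` commutes with a conjugate of `g` -/
theorem exists_conj_comm' {r j : ℕ} (hr : r.Prime) {w g : G} (o : orderOf w = r ^ j)
    (h : ¬ r ∣ C₁(g).index) : ∃ t : G, t * g * t⁻¹ ∈ C₁(w) := by
  haveI := Fact.mk hr
  obtain ⟨t, ht⟩ := exists_conj_comm (P := zpowers w)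
    (IsPGroup.of_card (n := j) (by rw [Nat.card_zpowers, o])) h
  exact ⟨t, mem_C₁.2 (ht w (mem_zpowers w))⟩

theorem conj_not_mem {g : G} (hg : g ∉ center G) (t : G) : t * g * t⁻¹ ∉ center G := by
  rw [← H8.index_centralizer_eq_one_iff] at hg ⊢
  rwa [H8.index_centralizer_conj]

theorem Fr.no {s : ℕ} (hs : Fr G s) {g : G} (hg : g ∉ center G) (e : C₁(g).index = s) {r t : ℕ}
    (hr : r.Prime) (ht : t.Prime) (rt : r ≠ t) (h1 : r ∣ (center G).relIndex C₁(g))
    (h2 : t ∣ (center G).relIndex C₁(g)) {y : G} (hy : y ∉ center G) (c : ¬ r ∣ C₁(y).index) :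
    C₁(y).index = s := by
  obtain ⟨w, hw, nw, i, o⟩ := exists_noncentral hr h1
  obtain ⟨u, hu⟩ := exists_conj_comm' hr o c
  rw [hs.all hg e hr ht rt h1 h2 hw nw] at hu
  rw [← H8.index_centralizer_conj y u, hs.all hg e hr ht rt h1 h2 hu (conj_not_mem hy u), e]

/-- the preimage of the centralizer modulo the centre -/
def D (x : G) : Subgroup G := C₁((x : G ⧸ center G)).comap (QuotientGroup.mk' (center G))

theorem mem_D {x y : G} : y ∈ D x ↔ x * y * x⁻¹ * y⁻¹ ∈ center G := by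
  rw [D, mem_comap, mem_C₁, ← QuotientGroup.eq_one_iff, commute_iff_eq]
  simp only [QuotientGroup.mk'_apply, QuotientGroup.mk_mul, QuotientGroup.mk_inv]
  rw [mul_inv_eq_one, mul_inv_eq_iff_eq_mul]

theorem le_D (x : G) : C₁(x) ≤ D x := fun y hy => mem_D.2 (by
  rw [(mem_C₁.1 hy).eq]; simp)

theorem index_D (x : G) : (D x).index = C₁((x : G ⧸ center G)).index :=
  index_comap_of_surjective _ (QuotientGroup.mk'_surjective _)

theorem comm_of_cop {x y : G} (h : y ∈ D x) {m n : ℕ} (hm : x ^ m ∈ center G)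
    (hn : y ^ n ∈ center G) (c : m.Coprime n) : y ∈ C₁(x) := by
  rw [mem_D] at h
  set z := x * y * x⁻¹ * y⁻¹ with hz
  have hc : ∀ a, Commute z a := fun a => (mem_center_iff.1 h a).symm
  have h1 : z ^ n = 1 := by
    have e : x * y * x⁻¹ = z * y := by rw [hz]; group
    have e2 : (x * y * x⁻¹) ^ n = y ^ n := by
      rw [conj_pow, mem_center_iff.1 hn x]; group
    rw [e, (hc y).mul_pow] at e2
    exact mul_eq_right.1 e2
  have h2 : z ^ m = 1 := by
    have e : y * x⁻¹ * y⁻¹ = z * x⁻¹ := by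
      rw [(hc x⁻¹).eq, hz]; group
    have e2 : (y * x⁻¹ * y⁻¹) ^ m = x⁻¹ ^ m := by
      rw [conj_pow, inv_pow, mem_center_iff.1 (inv_mem hm) y]; group
    rw [e, (hc x⁻¹).mul_pow] at e2
    exact mul_eq_right.1 e2
  have h3 : z = 1 := by
    have := Nat.eq_one_of_dvd_coprimes c (orderOf_dvd_of_pow_eq_one h2) (orderOf_dvd_of_pow_eq_one h1)
    exact orderOf_eq_one_iff.1 this
  rw [mem_C₁, commute_iff_eq]
  rw [hz, mul_inv_eq_one, mul_inv_eq_iff_eq_mul] at h3
  exact h3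

theorem cop_D (x : G) {s : ℕ} (c : ((center G).relIndex C₁(x)).Coprime s) :
    (C₁(x).relIndex (D x)).Coprime s := by
  refine Nat.coprime_of_dvd fun r hr h1 h2 => ?_
  obtain ⟨y, hy, ny, j, o⟩ := exists_noncentral hr h1
  refine ny (comm_of_cop hy (m := (center G).relIndex C₁(x)) (n := r ^ j)
    ((center G).pow_relIndex_mem (mem_C₁.2 (Commute.refl x))) ?_ ?_)
  · rw [← o, pow_orderOf_eq_one]; exact one_mem _
  · exact (Nat.Coprime.coprime_dvd_right h2 c).pow_right j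

theorem odd_mem {H K : Subgroup G} (h : H.relIndex K ∣ 2) {y : G} (hy : y ∈ K)
    (o : (orderOf y).Coprime 2) : y ∈ H := by
  have h0 : H.relIndex K ≠ 0 := fun k => by simp [k] at h
  have h1 := (pow_mem_of_relIndex_ne_zero_of_dvd h0 hy (n := 2) fun m m0 m1 => by
    have := Nat.le_of_dvd two_pos h
    have : m = 1 ∨ m = 2 := by omega
    rcases this with rfl | rfl <;> simp).1
  obtain ⟨k, hk⟩ := exists_pow_eq_self_of_coprime o.symm
  rw [← hk]
  exact pow_mem h1 k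

/-- the transfer of a central element -/
theorem transfer_central {H : Subgroup G} {z : G} (hz : z ∈ center G) (h : z ∈ commutator G) :
    z ^ H.index ∈ ⁅H, H⁆ := by
  have key : ∀ (k : ℕ) (g₀ : G), g₀⁻¹ * z ^ k * g₀ ∈ H → g₀⁻¹ * z ^ k * g₀ = z ^ k := fun k g _ => by
    rw [mul_assoc, ← mem_center_iff.1 (pow_mem hz k) g]; group
  have h1 := MonoidHom.transfer_eq_pow (Abelianization.of (G := H)) z key
  have h2 : MonoidHom.transfer (Abelianization.of (G := H)) z = 1 :=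
    Abelianization.commutator_subset_ker _ h
  rw [h2, eq_comm, ← MonoidHom.mem_ker, Abelianization.ker_of] at h1
  have h3 := mem_map_of_mem H.subtype h1
  rwa [commutator_def, map_commutator, ← MonoidHom.range_eq_map, range_subtype] at h3

end H26.CS
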