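import Cfsg.Agent.H26.CS1
import Cfsg.Agent.H18.TI

/-! Groups with the class sizes of `PSL₂(q)`: the central quotient is simple. -/

set_option autoImplicit false
set_option linter.unusedSectionVars false

namespace H26.CS

open Subgroup _root_.Cfsg H3.Pt

local notation "C₁(" x ")" => Subgroup.centralizer (Singleton.singleton x : Set _)

/-- the numerical data of `PSL₂(q)` -/
structure Nm (k q d h : ℕ) : Prop where
  par : (k = 1 ∧ Odd h) ∨ (k = 2 ∧ Odd q)
  eq : k * d * h + 1 = q ^ 2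
  q4 : 4 ≤ q
  dq : d ≤ q + 1
  hq : h ≤ q + 1
  d1 : 1 < d
  h2 : 2 < h
  dodd : Odd d
  md : q * h ≡ 2 [MOD d]
  cdh : d.Coprime h

namespace Nm
variable {k q d h : ℕ} (n : Nm k q d h)
include n

theorem k12 : k = 1 ∨ k = 2 := n.par.imp And.left And.left

theorem c0 : q.Coprime (k * d * h) := by
  refine Nat.coprime_of_dvd fun r hr h1 h2 => hr.not_dvd_one ?_
  have h3 : r ∣ k * d * h + 1 := n.eq ▸ dvd_pow h1 two_ne_zero
  exact (Nat.dvd_add_right h2).1 h3

theorem cqd : q.Coprime d := (n.c0.coprime_mul_right_right).coprime_mul_left_right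
theorem cqh : q.Coprime h := n.c0.coprime_mul_left_right

theorem pos : 0 < q * d * h := by
  have := n.q4; have := n.d1; have := n.h2; positivity

theorem ne1 : d * h ≠ q * h := fun e => by
  have h1 : d = q := Nat.eq_of_mul_eq_mul_right (by have := n.h2; omega) e
  have h2 := n.cqd
  rw [← h1, Nat.coprime_self] at h2
  have := n.d1; omega

theorem nd1 : ¬ d * h ∣ q * h := fun e => by
  have h1 := n.cqd.symm.eq_one_of_dvd (Nat.dvd_of_mul_dvd_mul_right (by have := n.h2; omega) e)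
  have := n.d1; omega

theorem nd2 : ¬ q * h ∣ d * h := fun e => by
  have h1 := n.cqd.eq_one_of_dvd (Nat.dvd_of_mul_dvd_mul_right (by have := n.h2; omega) e)
  have := n.q4; omega

theorem nd3 : ¬ h ∣ k * (q * d) := fun e => by
  have h1 := Nat.le_of_dvd (by rcases n.k12 with h | h <;> omega)
    ((n.cqh.symm.mul_right n.cdh.symm).dvd_of_dvd_mul_right e)
  have := n.h2
  rcases n.k12 with h | h <;> omega

theorem nd4 : ¬ q * d ∣ d * h := fun e => by
  rw [mul_comm d h] at e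
  have h1 := n.cqh.eq_one_of_dvd (Nat.dvd_of_mul_dvd_mul_right (by have := n.d1; omega) e)
  have := n.q4; omega

theorem nd5 : ¬ q * d ∣ q * h := fun e => by
  have h1 := n.cdh.eq_one_of_dvd (Nat.dvd_of_mul_dvd_mul_left (by have := n.q4; omega) e)
  have := n.d1; omega

theorem a1 {a b c : ℕ} (e : q * d * h = 1 + a * (d * h) + b * (q * h) + c * (q * d)) :
    a = k ∧ 2 * (b * (q * h)) < q * d * h ∧ 2 * (c * (q * d)) < q * d * h := by
  have q4 := n.q4
  have d1 := n.d1
  have h2 := n.h2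
  have hq := n.hq
  have ne := n.eq
  have k12 := n.k12
  have ha : a < q := lt_of_mul_lt_mul_right (a := d * h)
    (by rw [← mul_assoc q]; omega) (Nat.zero_le _)
  have hb : b < d := lt_of_mul_lt_mul_right (a := q * h)
    (by rw [show d * (q * h) = q * d * h by ring]; omega) (Nat.zero_le _)
  have e1 : a = k := by
    have h1 : (q : ℤ) ∣ (a : ℤ) - k := by
      zify at e ne
      exact ⟨a * q - k * (d * h - b * h - c * d), by linear_combination k * e + a * ne⟩
    have := Int.eq_zero_of_abs_lt_dvd h1 (by rw [abs_lt]; omega)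
    omega
  have e2 : 1 + 2 * b = d := by
    have h1 : d ∣ 1 + b * (q * h) := by
      have h3 : d ∣ 1 + b * (q * h) + d * (a * h + c * q) := ⟨q * h, by linarith⟩
      exact (Nat.dvd_add_left (dvd_mul_right _ _)).1 h3
    have h3 : 1 + b * (q * h) ≡ 1 + b * 2 [MOD d] := (n.md.mul_left b).add_left 1
    obtain ⟨t, ht⟩ := (h3.dvd_iff (dvd_refl d)).1 h1
    have : t < 2 := lt_of_mul_lt_mul_left (a := d) (by omega) (Nat.zero_le _)
    interval_cases t <;> omega
  subst e1
  refine ⟨rfl, by rw [← e2]; nlinarith, ?_⟩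
  have h3 : q * h < q * (2 * q) := Nat.mul_lt_mul_of_pos_left (by omega) (by omega)
  have h4 : q * d * h = q * h + 2 * (b * (q * h)) := by rw [← e2]; ring
  nlinarith

theorem a2 {m a b c : ℕ} (e : m = 1 + a * (d * h) + b * (q * h) + c * (q * d)) (hm : m ∣ q * d * h)
    (m1 : m ≠ 1) (ha : a ≤ k) (h0 : a = 0 → m.Coprime q)
    (h1 : a ≠ 0 → ∃ r : ℕ, r.Prime ∧ r ∣ q ∧ r ∣ m) : a = k := by
  have q4 := n.q4
  have d1 := n.d1
  have h2 := n.h2
  have hq := n.hq
  have dq := n.dq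
  have ne := n.eq
  have k12 := n.k12
  by_contra hk
  by_cases a0 : a = 0
  · subst a0
    rw [mul_assoc] at hm
    obtain ⟨t, ht⟩ := (h0 rfl).dvd_of_dvd_mul_left hm
    have t1 : t = 1 := by
      have t0 : t ≠ 0 := by
        rintro rfl
        have : 0 < d * h := by positivity
        omega
      by_contra t1
      have t2 : m * 2 ≤ m * t := Nat.mul_le_mul_left _ (by omega)
      by_cases b0 : b = 0
      · have c0 : c ≠ 0 := by rintro rfl; subst b0; simp at e; exact m1 e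
        have : 1 * (q * d) ≤ c * (q * d) := Nat.mul_le_mul_right _ (by omega)
        have h3 : d * h ≤ d * (2 * q) := Nat.mul_le_mul_left _ (by omega)
        rw [show d * (2 * q) = 2 * (q * d) by ring] at h3
        omega
      · have : 1 * (q * h) ≤ b * (q * h) := Nat.mul_le_mul_right _ (by omega)
        have h3 : d * h ≤ 2 * q * h := Nat.mul_le_mul_right _ (by omega)
        rw [mul_assoc] at h3
        omega
    subst t1
    have h3 : (q : ℤ) ∣ (k : ℤ) + 1 := by
      zify at e ne ht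
      exact ⟨q - k * (b * h + c * d), by linear_combination ne - k * ht - k * e⟩
    have := Int.le_of_dvd (by omega) h3
    omega
  · obtain ⟨r, hr, r1, r2⟩ := h1 a0
    have a1 : a = 1 := by omega
    have k2 : k = 2 := by omega
    subst a1 k2
    have h3 : (r : ℤ) ∣ 1 := by
      have e3 : (1 : ℤ) = 2 * m - q * (q + 2 * (b * h + c * d)) := by
        zify at e ne
        linear_combination -2 * e - ne
      rw [e3]
      exact dvd_sub (Dvd.dvd.mul_left (Int.natCast_dvd_natCast.2 r2) _)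
        (Dvd.dvd.mul_right (Int.natCast_dvd_natCast.2 r1) _)
    exact hr.not_dvd_one (Int.natCast_dvd_natCast.1 h3)

theorem a3 {m u v : ℕ} (e : u + v + m = q * d * h) (h1 : m ∣ u) (h2 : m ∣ v)
    (h3 : 2 * u < q * d * h) (h4 : 2 * v < q * d * h) (h5 : q * h ∣ u) (h6 : q * d ∣ v) :
    m = q * d * h := by
  have e1 : u = v := by
    have h7 : (m : ℤ) ∣ (u : ℤ) - v := dvd_sub (by exact_mod_cast h1) (by exact_mod_cast h2)
    have := Int.eq_zero_of_abs_lt_dvd h7 (by rw [abs_lt]; omega)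
    omega
  subst e1
  have h7 : q * h * d ∣ u := (n.cqd.mul_left n.cdh.symm).mul_dvd_of_dvd_of_dvd h5
    ((dvd_mul_left _ _).trans h6)
  have h8 : u = 0 := Nat.eq_zero_of_dvd_of_lt h7 (by nlinarith)
  omega

end Nm

variable {G : Type*} [Group G] [Finite G]

/-- `G` has the class sizes of `PSL₂(q)` -/
structure Sz (G : Type*) [Group G] (k q d h : ℕ) : Prop where
  nm : Nm k q d h
  all : ∀ x ∉ center G, C₁(x).index = d * h ∨ C₁(x).index = q * h ∨ C₁(x).index = q * d ∨
    C₁(x).index = k * (q * d)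
  exP : ∃ x ∉ center G, C₁(x).index = d * h
  exD : ∃ x ∉ center G, C₁(x).index = q * h
  exH : ∃ x ∉ center G, C₁(x).index = q * d

theorem rel_mul (x : G) : (center G).relIndex C₁(x) * C₁(x).index = (center G).index :=
  relIndex_mul_index (center_le_C₁ x)

namespace Sz
variable {k q d h : ℕ} (s : Sz G k q d h)
include s

theorem frP : Fr G (d * h) := fun y hy hd => by
  have n := s.nm
  rcases s.all y hy with e | e | e | e <;> rw [e] at hd ⊢
  · exact absurd hd (not_or.2 ⟨n.nd2, n.nd1⟩)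
  · exact absurd hd (not_or.2 ⟨n.nd4, fun k => n.nd3 (((dvd_mul_left _ _).trans k).mul_left _)⟩)
  · exact absurd hd (not_or.2 ⟨fun k => n.nd4 ((dvd_mul_left _ _).trans k),
      fun k => n.nd3 ((dvd_mul_left _ _).trans k)⟩)

theorem frD : Fr G (q * h) := fun y hy hd => by
  have n := s.nm
  rcases s.all y hy with e | e | e | e <;> rw [e] at hd ⊢
  · exact absurd hd (not_or.2 ⟨n.nd1, n.nd2⟩)
  · exact absurd hd (not_or.2 ⟨n.nd5, fun k => n.nd3 (((dvd_mul_left _ _).trans k).mul_left _)⟩)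
  · exact absurd hd (not_or.2 ⟨fun k => n.nd5 ((dvd_mul_left _ _).trans k),
      fun k => n.nd3 ((dvd_mul_left _ _).trans k)⟩)

theorem index_center : (center G).index = q * d * h := by
  have n := s.nm
  obtain ⟨x, hx, ex⟩ := s.exP
  obtain ⟨y, hy, ey⟩ := s.exD
  obtain ⟨z, hz, ez⟩ := s.exH
  have q4 := n.q4
  have d1 := n.d1
  have h2 := n.h2
  have h1 := rel_mul x
  have h3 := rel_mul y
  rw [ex] at h1
  rw [ey] at h3
  obtain ⟨m, hm⟩ : q * (d * h) ∣ (center G).index :=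
    (n.cqd.mul_right n.cqh).mul_dvd_of_dvd_of_dvd
      ((dvd_mul_right q h).trans (Dvd.intro_left _ h3)) (Dvd.intro_left _ h1)
  have e1 : (center G).relIndex C₁(x) = q * m :=
    Nat.eq_of_mul_eq_mul_right (m := d * h) (by positivity) (by rw [h1, hm]; ring)
  have e2 : (center G).relIndex C₁(y) = d * m :=
    Nat.eq_of_mul_eq_mul_right (m := q * h) (by positivity) (by rw [h3, hm]; ring)
  by_cases m1 : m = 1
  · rw [hm, m1]; ring
  exfalso
  have hr := Nat.minFac_prime m1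
  have rm := m.minFac_dvd
  generalize m.minFac = r at hr rm
  by_cases rq : r ∣ q
  · have ht := Nat.minFac_prime n.d1.ne'
    refine n.ne1 (ex ▸ s.frD.no hy ey hr ht (fun e => hr.not_dvd_one ?_) (e2 ▸ rm.mul_left _)
      (e2 ▸ d.minFac_dvd.mul_right _) hx fun k => hr.not_dvd_one ?_)
    · exact n.cqd ▸ Nat.dvd_gcd rq (e ▸ d.minFac_dvd)
    · exact (n.cqd.mul_right n.cqh) ▸ Nat.dvd_gcd rq (ex ▸ k)
  have ht := Nat.minFac_prime (n := q) (by omega)
  have key := fun {u : G} => s.frP.no hx ex hr ht (fun e => rq (e ▸ q.minFac_dvd)) (e1 ▸ rm.mul_left _)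
      (e1 ▸ q.minFac_dvd.mul_right _) (y := u)
  by_cases rd : r ∣ d
  · refine n.ne1 (ey ▸ key hy fun k => hr.not_dvd_one ?_).symm
    exact (n.cqd.symm.mul_right n.cdh) ▸ Nat.dvd_gcd rd (ey ▸ k)
  · refine n.nd4 (dvd_of_eq (ez ▸ key hz fun k => ?_))
    rw [ez] at k
    exact ((Nat.Prime.dvd_mul hr).1 k).elim rq rd

theorem rel {x : G} (hx : x ∉ center G) : C₁(x).relIndex (D x) = 1 ∨
    (k = 2 ∧ C₁(x).relIndex (D x) = 2 ∧ C₁(x).index = k * (q * d)) := by
  have n := s.nm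
  have q4 := n.q4
  have d1 := n.d1
  have h2 := n.h2
  have h1 := rel_mul x
  have h3 : C₁(x).relIndex (D x) ∣ C₁(x).index := relIndex_dvd_index_of_le (le_D x)
  rw [s.index_center] at h1
  rcases s.all x hx with e | e | e | e <;> rw [e] at h1 h3
  · have e1 : (center G).relIndex C₁(x) = q :=
      Nat.eq_of_mul_eq_mul_right (m := d * h) (by positivity) (by rw [h1]; ring)
    exact Or.inl ((cop_D x (e1 ▸ n.cqd.mul_right n.cqh)).eq_one_of_dvd h3)
  · have e1 : (center G).relIndex C₁(x) = d :=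
      Nat.eq_of_mul_eq_mul_right (m := q * h) (by positivity) (by rw [h1]; ring)
    exact Or.inl ((cop_D x (e1 ▸ n.cqd.symm.mul_right n.cdh)).eq_one_of_dvd h3)
  · have e1 : (center G).relIndex C₁(x) = h :=
      Nat.eq_of_mul_eq_mul_right (m := q * d) (by positivity) (by rw [h1]; ring)
    exact Or.inl ((cop_D x (e1 ▸ n.cqh.symm.mul_right n.cdh.symm)).eq_one_of_dvd h3)
  · have e1 : (center G).relIndex C₁(x) * k = h :=
      Nat.eq_of_mul_eq_mul_right (m := q * d) (by positivity) (by rw [mul_assoc, h1]; ring)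
    have h4 := (cop_D x ((n.cqh.symm.mul_right n.cdh.symm).coprime_dvd_left
      (Dvd.intro _ e1))).dvd_of_dvd_mul_right h3
    rcases n.k12 with rfl | rfl
    · exact Or.inl (Nat.dvd_one.1 h4)
    · exact ((Nat.dvd_prime Nat.prime_two).1 h4).imp id fun k => ⟨rfl, k, e⟩

end Sz

/-- the central quotient -/
structure Xs (X : Type*) [Group X] (k q d h : ℕ) : Prop where
  nm : Nm k q d h
  card : Nat.card X = q * d * h
  all : ∀ x : X, x ≠ 1 → C₁(x).index = d * h ∨ C₁(x).index = q * h ∨ C₁(x).index = q * d ∨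
    C₁(x).index = k * (q * d)

theorem rel_D (x : G) : C₁(x).relIndex (D x) * C₁((x : G ⧸ center G)).index = C₁(x).index := by
  rw [← index_D, relIndex_mul_index (le_D x)]

theorem Sz.quot {k q d h : ℕ} (s : Sz G k q d h) : Xs (G ⧸ center G) k q d h where
  nm := s.nm
  card := s.index_center
  all x hx := by
    obtain ⟨x, rfl⟩ := QuotientGroup.mk_surjective x
    have hx' : x ∉ center G := fun k => hx ((QuotientGroup.eq_one_iff x).2 k)
    have h1 := rel_D x
    rcases s.rel hx' with e | ⟨rfl, e, e'⟩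
    · rw [e, one_mul] at h1
      rw [h1]; exact s.all x hx'
    · rw [e, e'] at h1
      exact Or.inr (Or.inr (Or.inl (by omega)))

theorem dvd_ncard (S : Set G) (hS : ∀ g, ∀ x ∈ S, g * x * g⁻¹ ∈ S) (d : ℕ)
    (hd : ∀ x ∈ S, d ∣ C₁(x).index) : d ∣ S.ncard := by
  refine H18.dvd_card_of_stabilizer (G := ConjAct G) S (fun g x hx => hS _ x hx) d fun x hx => ?_
  rw [ConjAct.stabilizer_eq_centralizer]
  exact hd x hx

theorem card_dvd_ncard (M : Subgroup G) (T : Set G) (h : ∀ x ∈ T, ∀ u ∈ M, x * u ∈ T) :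
    Nat.card M ∣ T.ncard := by
  have e : T = QuotientGroup.mk ⁻¹' ((QuotientGroup.mk : G → G ⧸ M) '' T) := by
    refine Set.Subset.antisymm (Set.subset_preimage_image _ _) ?_
    rintro y ⟨x, hx, e⟩
    have := h x hx _ (QuotientGroup.eq.1 e)
    rwa [mul_inv_cancel_left] at this
  rw [e, ← Nat.card_coe_set_eq, QuotientGroup.card_preimage_mk]
  exact dvd_mul_right _ _

namespace Xs
variable {k q d h : ℕ} (s : Xs G k q d h)
include s

theorem mul (x : G) : Nat.card C₁(x) * C₁(x).index = q * d * h := by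
  rw [card_mul_index, s.card]

theorem cP {x : G} (e : C₁(x).index = d * h) : Nat.card C₁(x) = q := by
  have := s.nm.d1; have := s.nm.h2
  exact Nat.eq_of_mul_eq_mul_right (m := d * h) (by positivity) (by rw [← e, s.mul, e]; ring)

theorem cD {x : G} (e : C₁(x).index = q * h) : Nat.card C₁(x) = d := by
  have := s.nm.q4; have := s.nm.h2
  exact Nat.eq_of_mul_eq_mul_right (m := q * h) (by positivity) (by rw [← e, s.mul, e]; ring)

theorem cH {x : G} (e : q * d ∣ C₁(x).index) : Nat.card C₁(x) ∣ h := by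
  have := s.nm.q4; have := s.nm.d1
  obtain ⟨c, hc⟩ := e
  exact ⟨c, Nat.eq_of_mul_eq_mul_right (m := q * d) (by positivity)
    (by rw [mul_comm h, ← s.mul x, hc]; ring)⟩

omit s in
theorem ord (x : G) : orderOf x ∣ Nat.card C₁(x) :=
  orderOf_dvd_natCard _ (mem_C₁.2 (Commute.refl x))

theorem hH {x : G} (h1 : x ≠ 1) (h2 : C₁(x).index ≠ d * h) (h3 : C₁(x).index ≠ q * h) :
    q * d ∣ C₁(x).index := by
  rcases s.all x h1 with e | e | e | e
  exacts [absurd e h2, absurd e h3, dvd_of_eq e.symm, e ▸ dvd_mul_left _ _]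

theorem ne1 {x : G} {a b : ℕ} (ha : 1 < a) (e : C₁(x).index = a * b) : x ≠ 1 := by
  rintro rfl
  rw [H8.index_centralizer_eq_one_iff.2 (one_mem _)] at e
  have := Nat.eq_one_of_mul_eq_one_right e.symm
  omega

theorem split (M : Subgroup G) [hM : M.Normal] : ∃ a b c : ℕ,
    Nat.card M = 1 + a * (d * h) + b * (q * h) + c * (q * d) ∧
    ({x : G | C₁(x).index = d * h} ∩ M).ncard = a * (d * h) ∧
    ({x : G | C₁(x).index = q * h} ∩ M).ncard = b * (q * h) ∧
    ({x : G | x ≠ 1 ∧ C₁(x).index ≠ d * h ∧ C₁(x).index ≠ q * h} ∩ M).ncard = c * (q * d) := by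
  have n := s.nm
  obtain ⟨a, ha⟩ := dvd_ncard ({x : G | C₁(x).index = d * h} ∩ M)
    (fun g x hx => ⟨(H8.index_centralizer_conj x g).trans hx.1, hM.conj_mem x hx.2 g⟩) (d * h)
    fun x hx => dvd_of_eq hx.1.symm
  obtain ⟨b, hb⟩ := dvd_ncard ({x : G | C₁(x).index = q * h} ∩ M)
    (fun g x hx => ⟨(H8.index_centralizer_conj x g).trans hx.1, hM.conj_mem x hx.2 g⟩) (q * h)
    fun x hx => dvd_of_eq hx.1.symm
  obtain ⟨c, hc⟩ := dvd_ncard ({x : G | x ≠ 1 ∧ C₁(x).index ≠ d * h ∧ C₁(x).index ≠ q * h} ∩ M)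
    (fun g x hx => ⟨⟨fun k => hx.1.1 (conj_eq_one_iff.1 k),
      by rw [H8.index_centralizer_conj]; exact hx.1.2⟩, hM.conj_mem x hx.2 g⟩) (q * d)
    fun x hx => s.hH hx.1.1 hx.1.2.1 hx.1.2.2
  refine ⟨a, b, c, ?_, by rw [ha, mul_comm], by rw [hb, mul_comm], by rw [hc, mul_comm]⟩
  rw [mul_comm a, mul_comm b, mul_comm c, ← ha, ← hb, ← hc, ← Set.ncard_singleton (1 : G),
    ← Set.ncard_union_eq, ← Set.ncard_union_eq, ← Set.ncard_union_eq, ← Nat.card_coe_set_eq]
  · refine congrArg (fun S : Set G => Nat.card S) (Set.ext fun x => ?_)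
    simp only [Set.mem_union, Set.mem_singleton_iff, Set.mem_inter_iff, Set.mem_ofPred_eq,
      SetLike.mem_coe]
    refine ⟨fun hx => by tauto, ?_⟩
    rintro (((rfl | h) | h) | h)
    exacts [one_mem _, h.2, h.2, h.2]
  · rw [Set.disjoint_left]
    rintro x ((rfl | h) | h) h'
    exacts [h'.1.1 rfl, h'.1.2.1 h.1, h'.1.2.2 h.1]
  · rw [Set.disjoint_left]
    rintro x (rfl | h) h'
    exacts [s.ne1 (by have := n.q4; omega) h'.1 rfl, n.ne1 (h.1.symm.trans h'.1)]
  · rw [Set.disjoint_left]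
    rintro x rfl h'
    exact s.ne1 n.d1 h'.1 rfl

theorem isP {x : G} {r : ℕ} (hr : r.Prime) (h1 : r ∣ q) (h2 : r ∣ Nat.card C₁(x)) (x1 : x ≠ 1) :
    C₁(x).index = d * h := by
  by_contra e
  by_cases e' : C₁(x).index = q * h
  · exact hr.not_dvd_one (s.nm.cqd ▸ Nat.dvd_gcd h1 (s.cD e' ▸ h2))
  · exact hr.not_dvd_one (s.nm.cqh ▸ Nat.dvd_gcd h1 (h2.trans (s.cH (s.hH x1 e e'))))

theorem eq_top (M : Subgroup G) [hM : M.Normal] (h0 : M ≠ ⊥) : M = ⊤ := by
  have n := s.nm
  obtain ⟨a, b, c, e, ha, hb, hc⟩ := s.split ⊤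
  obtain ⟨a', b', c', e', ha', hb', hc'⟩ := s.split M
  simp only [coe_top, Set.inter_univ] at ha hb hc
  rw [card_top, s.card] at e
  obtain ⟨rfl, l1, l2⟩ := n.a1 e
  have d1 := n.d1
  have h2 := n.h2
  have e1 : a' = a := by
    refine n.a2 e' (s.card ▸ card_subgroup_dvd_card M) (fun k => h0 (card_eq_one.1 k)) ?_ ?_ ?_
    · refine Nat.le_of_mul_le_mul_right ?_ (show 0 < d * h by positivity)
      rw [← ha, ← ha']
      exact Set.ncard_le_ncard Set.inter_subset_left
    · rintro rfl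
      refine Nat.coprime_of_dvd fun r hr h1 h3 => ?_
      haveI := Fact.mk hr
      obtain ⟨x, hx⟩ := exists_prime_orderOf_dvd_card' r h1
      rw [← orderOf_coe] at hx
      have x1 : (x : G) ≠ 1 := fun k => hr.ne_one (by rw [← hx, k, orderOf_one])
      rw [zero_mul, Set.ncard_eq_zero] at ha'
      exact (ha' ▸ (⟨s.isP hr h3 (hx ▸ ord _) x1, x.2⟩ :
        (x : G) ∈ {x : G | C₁(x).index = d * h} ∩ M) : (x : G) ∈ (∅ : Set G))
    · intro a0
      obtain ⟨x, hx, hx'⟩ : ({x : G | C₁(x).index = d * h} ∩ M).Nonempty := by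
        rw [← Set.ncard_pos, ha']; positivity
      have o1 : orderOf x ≠ 1 := fun k => s.ne1 d1 hx (orderOf_eq_one_iff.1 k)
      exact ⟨_, Nat.minFac_prime o1, (Nat.minFac_dvd _).trans (s.cP hx ▸ ord x),
        (Nat.minFac_dvd _).trans (orderOf_dvd_natCard M hx')⟩
  subst e1
  have hP : ∀ x, C₁(x).index = d * h → x ∈ M := fun x hx =>
    ((Set.eq_of_subset_of_ncard_le Set.inter_subset_left (ha.trans ha'.symm).le).ge hx).2
  have k1 := Set.ncard_inter_add_ncard_sdiff_eq_ncard {x : G | C₁(x).index = q * h} M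
  have k2 := Set.ncard_inter_add_ncard_sdiff_eq_ncard
    {x : G | x ≠ 1 ∧ C₁(x).index ≠ d * h ∧ C₁(x).index ≠ q * h} M
  have key : ∀ x y : G, x⁻¹ * y ∈ M → C₁(x).index = q * h → q * d ∣ C₁(y).index → x ∈ M := by
    intro x y hxy h1 h3
    rw [← QuotientGroup.eq_one_iff, ← orderOf_eq_one_iff]
    refine Nat.eq_one_of_dvd_coprimes n.cdh ?_ ?_
    · exact (orderOf_map_dvd (QuotientGroup.mk' M) x).trans (s.cD h1 ▸ ord x)
    · rw [QuotientGroup.eq.2 hxy]
      exact (orderOf_map_dvd (QuotientGroup.mk' M) y).trans ((ord y).trans (s.cH h3))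
  have nm : ∀ x ∉ M, ∀ u ∈ M, x * u ∉ M := fun x hx u hu k => hx ((M.mul_mem_cancel_right hu).1 k)
  rw [← card_eq_iff_eq_top, s.card]
  refine n.a3 (u := ({x : G | C₁(x).index = q * h} \ M).ncard)
    (v := ({x : G | x ≠ 1 ∧ C₁(x).index ≠ d * h ∧ C₁(x).index ≠ q * h} \ M).ncard) (by omega)
    (card_dvd_ncard M _ fun x hx u hu => ⟨?_, nm x hx.2 u hu⟩)
    (card_dvd_ncard M _ fun x hx u hu => ⟨?_, nm x hx.2 u hu⟩) (by omega) (by omega)
    ((Nat.dvd_add_right (hb' ▸ dvd_mul_left _ _)).1 (k1 ▸ hb ▸ dvd_mul_left _ _))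
    ((Nat.dvd_add_right (hc' ▸ dvd_mul_left _ _)).1 (k2 ▸ hc ▸ dvd_mul_left _ _))
  · by_contra k
    have m1 := nm x hx.2 u hu
    exact hx.2 (key x (x * u) (by simpa using hu) hx.1
      (s.hH (fun k => m1 (k ▸ one_mem _)) (fun k => m1 (hP _ k)) k))
  · have m1 := nm x hx.2 u hu
    exact ⟨fun k => m1 (k ▸ one_mem _), fun k => m1 (hP _ k), fun k =>
      m1 (key (x * u) x (by simpa using hu) k (s.hH hx.1.1 hx.1.2.1 hx.1.2.2))⟩

theorem nontriv : Nontrivial G := by
  rw [← Finite.one_lt_card_iff_nontrivial, s.card]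
  have := s.nm.q4; have := s.nm.d1; have := s.nm.h2
  calc 1 < 4 * 1 * 1 := by norm_num
    _ ≤ q * d * h := by gcongr; omega

theorem simple : IsSimpleGroup G :=
  haveI := s.nontriv
  ⟨fun M _ => or_iff_not_imp_left.2 (s.eq_top M)⟩

theorem not_comm : ¬ IsMulCommutative G := fun hc => by
  haveI := s.nontriv
  obtain ⟨x, hx⟩ := exists_ne (1 : G)
  have e : C₁(x).index = 1 :=
    H8.index_centralizer_eq_one_iff.2 (mem_center_iff.2 fun g => hc.is_comm.comm g x)
  have := s.nm.q4; have := s.nm.d1; have := s.nm.h2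
  have h1 := s.hH hx (e ▸ by nlinarith) (e ▸ by nlinarith)
  rw [e, Nat.dvd_one] at h1
  nlinarith

theorem even {t : G} (t1 : t ≠ 1) (h2 : 2 ∣ Nat.card C₁(t)) :
    (k = 1 ∧ C₁(t).index = d * h) ∨ (k = 2 ∧ (C₁(t).index = q * d ∨ C₁(t).index = 2 * (q * d))) := by
  have n := s.nm
  have hd : C₁(t).index ≠ q * h := fun e => n.dodd.not_two_dvd_nat (s.cD e ▸ h2)
  rcases n.par with ⟨rfl, o⟩ | ⟨rfl, o⟩
  · refine Or.inl ⟨rfl, by_contra fun e => o.not_two_dvd_nat (h2.trans (s.cH (s.hH t1 e hd)))⟩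
  · refine Or.inr ⟨rfl, ((s.all t t1).resolve_left fun e => ?_).resolve_left hd⟩
    exact o.not_two_dvd_nat (s.cP e ▸ h2)

theorem npc (t : G) (ht : orderOf t = 2) : HasNormalPComplement 2 C₁(t) := by
  have t1 : t ≠ 1 := fun k => by simp [k] at ht
  obtain ⟨A, hA, c, hr⟩ := exists_part 2 (C := C₁(t)) fun x hx ox y hy oy => by
    have cm := mem_C₁.1 hx
    have cp : (orderOf t).Coprime (orderOf x) := ht ▸ ox.symm
    have e := H8.centralizer_mul_of_coprime cm cp
    have l : C₁(t * x) ≤ C₁(t) := e ▸ inf_le_left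
    have h1 := relIndex_mul_index l
    have h2 := s.even t1 (ht ▸ ord t)
    have h3 := s.even (t := t * x) (fun k => t1 (by
      have := H8.mem_zpowers_mul_of_coprime cm cp
      rwa [k, zpowers_one_eq_bot, mem_bot] at this))
      (ht ▸ orderOf_dvd_natCard _ (mem_C₁.2 ((Commute.refl t).mul_left cm.symm)))
    have h4 : C₁(t * x).relIndex C₁(t) ∣ 2 := by
      refine Nat.dvd_of_mul_dvd_mul_right (H8.index_centralizer_pos t) ?_
      rw [h1]
      rcases h2 with ⟨rfl, h2⟩ | ⟨rfl, h2 | h2⟩ <;> rcases h3 with ⟨h0, h3⟩ | ⟨h0, h3 | h3⟩ <;>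
        first | omega | (rw [h2, h3]; done) | (rw [h2, h3]; first | exact dvd_mul_left _ _ |
          exact (dvd_mul_left _ _).mul_left _)
    exact mem_C₁.1 ((e ▸ odd_mem h4 hy oy : y ∈ C₁(t) ⊓ C₁(x)).2)
  have l : A ≤ C₁(t) := fun y hy => ((hA y).1 hy).1
  haveI : (A.subgroupOf C₁(t)).Normal := ⟨fun a ha g => by
    rw [mem_subgroupOf, hA] at ha ⊢
    refine ⟨(g * a * g⁻¹).2, ?_⟩
    rw [coe_mul, coe_mul, coe_inv, ← MulAut.conj_apply, MulEquiv.orderOf_eq]
    exact ha.2⟩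
  refine H3.hasNormalPComplement_of_normal (N := A.subgroupOf C₁(t)) ?_ ?_
  · rwa [Nat.card_congr (subgroupOfEquivOfLe l).toEquiv]
  · exact IsPGroup.of_card (Nat.eq_prime_pow_of_unique_prime_dvd (n := A.relIndex C₁(t))
      index_ne_zero_of_finite fun hd h => (Nat.prime_dvd_prime_iff_eq hd Nat.prime_two).1 (hr _ hd h))

end Xs

end H26.CS
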