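import Mathlib
import Cfsg.Prelude.Def_Characters
import Cfsg.Prelude.Def_Transfer

/-! Dade's extension theorem, 0: the twisted group algebra `ℂ[G]/(z+1)` abstractly. -/

set_option autoImplicit false
set_option linter.unusedSectionVars false

namespace H26.Dd

open Subgroup

variable {G : Type*} [Group G]

/-- abstract model of `ℂ[G]/(z+1)` with antipode and normalized trace -/
structure Md (z : G) (R : Type*) [Ring R] [Algebra ℂ R] where
  ι : G →* R
  τ : R →ₗ[ℂ] R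
  tr : R →ₗ[ℂ] ℂ
  τ_mul : ∀ a b, τ (a * b) = τ b * τ a
  τ_ι : ∀ g, τ (ι g) = ι g⁻¹
  tr_comm : ∀ a b, tr (a * b) = tr (b * a)
  tr_one : tr 1 = 1
  tr_ι : ∀ g, g ≠ 1 → g ≠ z → tr (ι g) = 0
  ι_z : ι z = -1
  zz : z * z = 1
  zc : ∀ g, z * g = g * z

/-- `E` is extraspecial with centre `⟨z⟩`, or `E = ⟨z⟩` -/
structure ES (z : G) (E : Subgroup G) : Prop where
  mem : z ∈ E
  cm : ∀ e ∈ E, ∀ f ∈ E, e * f = f * e ∨ e * f = z * (f * e)
  cen : ∀ e ∈ E, (∀ f ∈ E, e * f = f * e) → e = 1 ∨ e = z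

/-- the odd-order operator group -/
structure OK (z : G) (E K S : Subgroup G) : Prop where
  odd : Odd (Nat.card K)
  SK : S ≤ normalizer (K : Set G)
  KE : K ≤ normalizer (E : Set G)
  fpf : ∀ e ∈ E, (∀ k ∈ K, k * e = e * k) → e = 1 ∨ e = z

/-- the cyclic case -/
def Cy (z : G) (E S : Subgroup G) : Prop :=
  ∃ (k : G) (q : ℕ), q.Prime ∧ q ≠ 2 ∧ k ∈ normalizer (E : Set G) ∧ (∀ e ∈ E, k ^ q * e = e * k ^ q) ∧
    (∀ e ∈ E, k * e = e * k → e = 1 ∨ e = z) ∧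
    ∀ s ∈ S, ∃ j : ℕ, ∀ e ∈ E, (s * k * s⁻¹) * e * (s * k * s⁻¹)⁻¹ = k ^ j * e * (k ^ j)⁻¹

/-- central product decomposition permuted by `S` -/
structure Dc (z : G) (E E₁ E₂ S : Subgroup G) : Prop where
  es₁ : ES z E₁
  es₂ : ES z E₂
  sup : E₁ ⊔ E₂ = E
  cm : ∀ a ∈ E₁, ∀ b ∈ E₂, a * b = b * a
  pm : ∀ s ∈ S, (s ∈ normalizer (E₁ : Set G) ∧ s ∈ normalizer (E₂ : Set G)) ∨
    ((∀ a, a ∈ E₁ ↔ s * a * s⁻¹ ∈ E₂) ∧ ∀ a, a ∈ E₂ ↔ s * a * s⁻¹ ∈ E₁)

namespace Md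
variable {z : G} {R : Type*} [Ring R] [Algebra ℂ R] (M : Md z R)

/-- the span of `ι E` -/
def AA (E : Subgroup G) : Submodule ℂ R := Submodule.span ℂ (M.ι '' E)

/-- `A` implements conjugation by `g` on `E` -/
def Imp (E : Subgroup G) (g : G) (A : R) : Prop :=
  A ∈ M.AA E ∧ ∀ e ∈ E, A * M.ι e = M.ι (g * e * g⁻¹) * A

/-- the projective action of `S` lifts -/
def Ext (E S : Subgroup G) : Prop :=
  ∃ ρ : G → R, ρ 1 = 1 ∧ (∀ a ∈ S, ∀ b ∈ S, ρ (a * b) = ρ a * ρ b) ∧ ∀ s ∈ S, M.Imp E s (ρ s)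

variable {M} {E : Subgroup G}

theorem ι_mem {e : G} (h : e ∈ E) : M.ι e ∈ M.AA E := Submodule.subset_span ⟨e, h, rfl⟩

theorem one_mem' : (1 : R) ∈ M.AA E := map_one M.ι ▸ ι_mem (one_mem E)

theorem AA_ind {p : R → Prop} (h1 : ∀ e ∈ E, p (M.ι e)) (h0 : p 0) (ha : ∀ x y, p x → p y → p (x + y))
    (hs : ∀ (c : ℂ) x, p x → p (c • x)) {x : R} (hx : x ∈ M.AA E) : p x := by
  induction hx using Submodule.span_induction with
  | mem x hx => obtain ⟨e, he, rfl⟩ := hx; exact h1 e he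
  | zero => exact h0
  | add x y _ _ a b => exact ha x y a b
  | smul c x _ a => exact hs c x a

theorem AA_mul {x y : R} (hx : x ∈ M.AA E) (hy : y ∈ M.AA E) : x * y ∈ M.AA E := by
  refine AA_ind (p := fun x => x * y ∈ M.AA E) (fun e he => ?_) (by simp)
    (fun a b ha hb => add_mul a b y ▸ add_mem ha hb)
    (fun c a ha => smul_mul_assoc c a y ▸ Submodule.smul_mem _ c ha) hx
  exact AA_ind (p := fun y => M.ι e * y ∈ M.AA E) (fun f hf => map_mul M.ι e f ▸ ι_mem (mul_mem he hf))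
    (by simp) (fun a b ha hb => mul_add (M.ι e) a b ▸ add_mem ha hb)
    (fun c a ha => mul_smul_comm c (M.ι e) a ▸ Submodule.smul_mem _ c ha) hy

theorem AA_τ {x : R} (hx : x ∈ M.AA E) : M.τ x ∈ M.AA E :=
  AA_ind (p := fun x => M.τ x ∈ M.AA E) (fun e he => M.τ_ι e ▸ ι_mem (inv_mem he)) (by simp)
    (fun a b ha hb => map_add M.τ a b ▸ add_mem ha hb)
    (fun c a ha => map_smul M.τ c a ▸ Submodule.smul_mem _ c ha) hx

theorem ττ {x : R} (hx : x ∈ M.AA E) : M.τ (M.τ x) = x :=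
  AA_ind (p := fun x => M.τ (M.τ x) = x) (fun e _ => by rw [M.τ_ι, M.τ_ι, inv_inv]) (by simp)
    (fun a b ha hb => by rw [map_add, map_add, ha, hb])
    (fun c a ha => by rw [map_smul, map_smul, ha]) hx

theorem AA_mono {E' : Subgroup G} (h : E ≤ E') : M.AA E ≤ M.AA E' :=
  Submodule.span_mono (Set.image_mono h)

theorem τ_one : M.τ 1 = 1 := by rw [← map_one M.ι, M.τ_ι, inv_one]

theorem z_ne (M : Md z R) : z ≠ 1 := fun e => by
  have := congrArg M.tr M.ι_z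
  rw [(congrArg M.ι e).trans (map_one _), map_neg, M.tr_one] at this
  norm_num at this

theorem ι_z_mul (g : G) : M.ι (z * g) = -M.ι g := by rw [map_mul, M.ι_z, neg_one_mul]

theorem tr_z : M.tr (M.ι z) = -1 := by rw [M.ι_z, map_neg, M.tr_one]

theorem tr_conj (g x : G) : M.tr (M.ι (g * x * g⁻¹)) = M.tr (M.ι x) := by
  rw [map_mul, M.tr_comm, ← map_mul, inv_mul_cancel_left]

theorem z_inv (M : Md z R) : z⁻¹ = z := inv_eq_of_mul_eq_one_right M.zz

theorem tr_inv (x : G) : M.tr (M.ι x⁻¹) = M.tr (M.ι x) := by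
  by_cases h1 : x = 1
  · rw [h1, inv_one]
  by_cases h2 : x = z
  · rw [h2, M.z_inv]
  rw [M.tr_ι x h1 h2, M.tr_ι _ (inv_ne_one.2 h1) fun e => h2 (by rw [← inv_inv x, e, M.z_inv])]

theorem tr_τ {x : R} (hx : x ∈ M.AA E) : M.tr (M.τ x) = M.tr x :=
  AA_ind (p := fun x => M.tr (M.τ x) = M.tr x) (fun e _ => by rw [M.τ_ι, tr_inv]) (by simp)
    (fun a b ha hb => by rw [map_add, map_add, map_add, ha, hb])
    (fun c a ha => by rw [map_smul, map_smul, map_smul, ha]) hx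

variable [Fintype E]

/-- averaging over `E` -/
theorem avg (hE : ES z E) {x : R} (hx : x ∈ M.AA E) :
    ∑ e : E, M.ι e * x * M.ι (e : G)⁻¹ = ((Fintype.card E : ℂ) * M.tr x) • (1 : R) := by
  refine AA_ind (p := fun x => ∑ e : E, M.ι e * x * M.ι (e : G)⁻¹ =
    ((Fintype.card E : ℂ) * M.tr x) • (1 : R)) (fun f hf => ?_) (by simp)
    (fun a b ha hb => by
      simp only [mul_add, add_mul, Finset.sum_add_distrib, map_add, add_smul, ha, hb])
    (fun c a ha => by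
      simp only [mul_smul_comm, smul_mul_assoc, ← Finset.smul_sum, map_smul, ha, smul_smul, smul_eq_mul]
      congr 1; ring) hx
  by_cases hc : ∀ e ∈ E, f * e = e * f
  · have : ∀ e : E, M.ι e * M.ι f * M.ι (e : G)⁻¹ = M.ι f := fun e => by
      rw [← map_mul, ← map_mul, ← hc e e.2, mul_inv_cancel_right]
    rw [Finset.sum_congr rfl fun e _ => this e, Finset.sum_const, Finset.card_univ,
      ← Nat.cast_smul_eq_nsmul ℂ, mul_smul]
    congr 1
    rcases hE.cen f hf hc with rfl | rfl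
    · rw [map_one, M.tr_one, one_smul]
    · rw [tr_z, M.ι_z, neg_one_smul]
  · have h0 : M.tr (M.ι f) = 0 := M.tr_ι f (fun e => hc (by simp [e])) fun e => hc fun a _ => e ▸ M.zc a
    push Not at hc
    obtain ⟨a, ha, hc⟩ := hc
    have h1 := (hE.cm a ha f hf).resolve_left (Ne.symm hc)
    have h2 : ∑ e : E, M.ι e * M.ι f * M.ι (e : G)⁻¹ = -∑ e : E, M.ι e * M.ι f * M.ι (e : G)⁻¹ := by
      rw [← Finset.sum_neg_distrib]
      refine (Fintype.sum_equiv (Equiv.mulRight (⟨a, ha⟩ : E)) _ _ fun e => ?_).symm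
      simp only [← map_mul, ← ι_z_mul, Equiv.coe_mulRight, coe_mul]
      congr 1
      rw [mul_assoc (e : G) a, h1, ← mul_assoc (e : G) z, ← M.zc]; group
    rw [h0, mul_zero, zero_smul]
    have h3 : (2 : ℂ) • ∑ e : E, M.ι e * M.ι f * M.ι (e : G)⁻¹ = 0 := by
      rw [two_smul]; nth_rewrite 1 [h2]; exact neg_add_cancel _
    exact (smul_eq_zero.1 h3).resolve_left two_ne_zero

/-- Schur's lemma -/
theorem schur (hE : ES z E) {x : R} (hx : x ∈ M.AA E) (hc : ∀ e ∈ E, x * M.ι e = M.ι e * x) :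
    x = M.tr x • (1 : R) := by
  have h1 := avg hE hx
  have : ∀ e : E, M.ι e * x * M.ι (e : G)⁻¹ = x := fun e => by
    rw [← hc e e.2, mul_assoc, ← map_mul, mul_inv_cancel, map_one, mul_one]
  rw [Finset.sum_congr rfl fun e _ => this e, Finset.sum_const, Finset.card_univ,
    ← Nat.cast_smul_eq_nsmul ℂ, mul_smul] at h1
  exact smul_right_injective R (Nat.cast_ne_zero.2 Fintype.card_ne_zero) h1

theorem sum_tr (hE : ES z E) : ∑ e : E, M.tr (M.ι e) * M.tr (M.ι e) = 2 := by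
  classical
  rw [Finset.sum_eq_add_of_mem (1 : E) ⟨z, hE.mem⟩ (Finset.mem_univ _) (Finset.mem_univ _)
    (fun e => M.z_ne (congrArg Subtype.val e).symm) fun c _ h => by
      rw [M.tr_ι c (fun e => h.1 (Subtype.ext e)) fun e => h.2 (Subtype.ext e), zero_mul]]
  simp only [OneMemClass.coe_one, map_one, M.tr_one, tr_z]
  norm_num

end Md

end H26.Dd
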