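import Cfsg.Agent.H10.GG2
import Cfsg.Agent.H5.Fstar
import Cfsg.Agent.H6.ZS
import Cfsg.Agent.H7.SchA
import Cfsg.Agent.H7.Simple
import Cfsg.Agent.H9.Basic
import Cfsg.Agent.H22.GL2
import Cfsg.Agent.H22.IsoF
import Cfsg.Agent.H4.Dk5
import Cfsg.Agent.H2.Z2
import Cfsg.Agent.H1.FTLib

/-!
Groups without real elements of order three.
-/

set_option autoImplicit false
set_option linter.unusedSectionVars false

namespace H26.R3

open Cfsg Subgroup Matrix
open scoped MatrixGroups

universe u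

local notation "S3" => Equiv.Perm (Fin 3)

/-- no nonidentity `3`-element is inverted -/
def NR (G : Type*) [Group G] : Prop :=
  ∀ (y g : G) (k : ℕ), y ^ 3 ^ k = 1 → g * y * g⁻¹ = y⁻¹ → y = 1

variable {G : Type*} [Group G] [Finite G]

theorem exists_odd_pow (g : G) : ∃ m j : ℕ, Odd m ∧ (g ^ m) ^ 2 ^ j = 1 := by
  obtain ⟨j, m, hm, h⟩ := Nat.exists_eq_two_pow_mul_odd (orderOf_pos g).ne'
  exact ⟨m, j, hm, by rw [← pow_mul, mul_comm, ← h, pow_orderOf_eq_one]⟩

theorem inv_odd {g y : G} (h : g * y * g⁻¹ = y⁻¹) {m : ℕ} (hm : Odd m) : g ^ m * y * (g ^ m)⁻¹ = y⁻¹ := by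
  have h2 : Commute (g ^ 2) y := by
    have : g * (g * y * g⁻¹) * g⁻¹ = y := by rw [h, ← conj_inv, h, inv_inv]
    show g ^ 2 * y = y * g ^ 2
    conv_rhs => rw [← this]
    simp only [pow_two]; group
  obtain ⟨a, rfl⟩ := hm
  have h3 := (h2.pow_left a).inv_right
  rw [← pow_mul] at h3
  calc g ^ (2 * a + 1) * y * (g ^ (2 * a + 1))⁻¹ = g ^ (2 * a) * (g * y * g⁻¹) * (g ^ (2 * a))⁻¹ := by group
    _ = y⁻¹ := by rw [h, h3.eq]; group

theorem nr_iff : NR G ↔ ¬ H4.IsSec S3 (⊤ : Subgroup G) := by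
  haveI := Fact.mk Nat.prime_three
  constructor
  · intro h k
    obtain ⟨e⟩ := H10.d3_equiv
    obtain ⟨n, -, y, -, j, k, -, a2, a3, a4⟩ := H10.exists_inv_of_isSec_dih (p := 3) (by norm_num)
      (H10.IsSec.equiv k e.symm)
    exact a3 (h y n k a2 a4)
  · intro h y g k h1 h2
    by_contra h0
    obtain ⟨m, j, hm, hj⟩ := exists_odd_pow g
    exact h (H10.isSec_s3 (mem_top _) (mem_top _) hj h1 h0 (inv_odd h2 hm))

theorem nr_iff' : NR G ↔ ∀ x : G, orderOf x = 3 → ¬ IsConj x x⁻¹ := by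
  haveI := Fact.mk Nat.prime_three
  constructor
  · intro h x hx hc
    obtain ⟨g, hg⟩ := isConj_iff.1 hc
    have := h x g 1 (by rw [pow_one, ← hx, pow_orderOf_eq_one]) hg
    rw [this, orderOf_one] at hx
    omega
  · intro h y g k h1 h2
    by_contra h0
    obtain ⟨j, a1, a2⟩ := H10.exists_last_pow 3 (C := ⊥) (by simpa using h0) h1
    rw [mem_bot] at a1 a2
    exact h _ (orderOf_eq_prime a2 a1) (isConj_iff.2 ⟨g, H10.conj_pow_eq_inv h2 _⟩)

omit [Finite G] in
theorem NR.inj {X : Type*} [Group X] (h : NR G) (f : X →* G) (hf : Function.Injective f) : NR X :=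
  fun y g k h1 h2 => hf (by
    rw [map_one]
    exact h _ (f g) k (by rw [← map_pow, h1, map_one]) (by rw [← map_inv, ← map_inv, ← map_mul, ← map_mul, h2]))

theorem NR.surj {X : Type*} [Group X] (h : NR G) (f : G →* X) (hf : Function.Surjective f) : NR X := by
  haveI := Finite.of_surjective f hf
  exact nr_iff.2 fun k => nr_iff.1 h (k.of_surjective hf)

omit [Finite G] in
/-- a `2`-element normalizing a `3`-subgroup centralizes it -/
theorem NR.cent (h : NR G) {P : Subgroup G} (hP : IsPGroup 3 P) (j : ℕ) :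
    ∀ t : G, t ^ 2 ^ j = 1 → t ∈ normalizer (P : Set G) → ∀ y ∈ P, t * y = y * t := by
  induction j with
  | zero => intro t ht _ y _; rw [pow_zero, pow_one] at ht; simp [ht]
  | succ j ih =>
    intro t ht hn y hy
    have h2 := ih (t ^ 2) (by rw [← pow_mul, ← pow_succ', ht]) (pow_mem hn 2) y hy
    have hz : y⁻¹ * (t * y * t⁻¹) ∈ P := P.mul_mem (P.inv_mem hy) ((mem_normalizer_iff.1 hn y).1 hy)
    obtain ⟨k, hk⟩ := hP ⟨_, hz⟩
    have := h (y⁻¹ * (t * y * t⁻¹)) t k (congrArg Subtype.val hk) (by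
      calc t * (y⁻¹ * (t * y * t⁻¹)) * t⁻¹ = t * y⁻¹ * t⁻¹ * (t ^ 2 * y) * (t ^ 2)⁻¹ := by
            simp only [pow_two]; group
        _ = _ := by rw [h2]; group)
    calc t * y = y * (y⁻¹ * (t * y * t⁻¹)) * t := by group
      _ = _ := by rw [this, mul_one]

/-- the two properties of `L₂(3ⁿ)` which are used -/
structure PP (K : Type*) [Group K] : Prop where
  gen : ∀ U U' : Sylow 3 K, U ≠ U' → (U : Subgroup K) ⊔ U' = ⊤
  inv : ∀ (U : Sylow 3 K) (s : K), s * s = 1 → (∀ u ∈ (U : Subgroup K), s * u = u * s) → s = 1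

theorem pp_of_sl {F : Type*} [Field F] [Fintype F] [CharP F 3] (f : SL(2, F) →* G)
    (hf : Function.Surjective f) (hk : f.ker = center _) : PP G := by
  haveI := Fact.mk Nat.prime_three
  have h3 : (3 : F) = 0 := CharP.cast_eq_zero F 3
  constructor
  · intro U U' h
    obtain ⟨P, rfl⟩ := Sylow.mapSurjective_surjective hf 3 U
    obtain ⟨P', rfl⟩ := Sylow.mapSurjective_surjective hf 3 U'
    rw [Sylow.coe_mapSurjective, Sylow.coe_mapSurjective, ← Subgroup.map_sup,
      H22.sylow_SL_two_sup_eq_top 3 P P' fun e => h (by rw [e]), map_top_of_surjective _ hf]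
  · intro U s h1 h2
    obtain ⟨g, hg⟩ := MulAction.exists_smul_eq G U ((H22.slSylow F 3).mapSurjective hf)
    obtain ⟨x, hx⟩ := hf (g * s * g⁻¹)
    let u : SL(2, F) := SpecialLinearGroup.transvection (zero_ne_one' (Fin 2)) 1
    have hu : f u ∈ ((g • U : Sylow 3 G) : Subgroup G) := by
      rw [hg, Sylow.coe_mapSurjective]
      exact mem_map_of_mem _ (H22.transvection_mem_slU 1)
    rw [Sylow.coe_subgroup_smul, mem_pointwise_smul_iff_inv_smul_mem] at hu
    have a1 : x * u * x⁻¹ * u⁻¹ ∈ center SL(2, F) := by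
      have := h2 _ hu
      simp only [MulAut.smul_def, MulAut.conj_inv_apply] at this
      rw [← hk, MonoidHom.mem_ker, map_mul, map_mul, map_mul, map_inv, map_inv, hx]
      calc _ = g * (s * (g⁻¹ * f u * g)) * s⁻¹ * g⁻¹ * (f u)⁻¹ := by group
        _ = 1 := by rw [this]; group
    have a2 : x * x ∈ center SL(2, F) := by
      rw [← hk, MonoidHom.mem_ker, map_mul, hx]
      calc _ = g * (s * s) * g⁻¹ := by group
        _ = 1 := by rw [h1]; group
    suffices x ∈ f.ker by
      rw [MonoidHom.mem_ker, hx] at this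
      calc s = g⁻¹ * (g * s * g⁻¹) * g := by group
        _ = 1 := by rw [this]; group
    rw [hk]
    obtain ⟨r, hr, b1⟩ := Matrix.SpecialLinearGroup.mem_center_iff.1 a1
    obtain ⟨r', -, b2⟩ := Matrix.SpecialLinearGroup.mem_center_iff.1 a2
    have b3 : x.1 * u.1 = scalar (Fin 2) r * (u.1 * x.1) := by
      rw [b1]
      exact congrArg Subtype.val (show x * u = x * u * x⁻¹ * u⁻¹ * (u * x) by group)
    have hd := x.det_coe
    rw [Matrix.det_fin_two] at hd
    have hu1 : u.1 = !![1, 1; 0, 1] := H22.transvection_fin2_01 1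
    have c := fun i j => congrFun (congrFun b3 i) j
    have d := fun i j => congrFun (congrFun b2 i) j
    have c00 := c 0 0
    have c01 := c 0 1
    have c10 := c 1 0
    have c11 := c 1 1
    have d01 := d 0 1
    simp [hu1, Matrix.mul_apply, Fin.sum_univ_two, Matrix.vecMul, dotProduct] at c00 c01 c10 c11 d01 hr
    rcases hr with rfl | rfl
    · have e1 : x.1 1 0 = 0 := by linear_combination c11
      have e2 : x.1 1 1 = x.1 0 0 := by linear_combination -c01
      rw [e1, e2] at hd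
      have e3 : x.1 0 1 = 0 := by
        rw [e2] at d01
        linear_combination (x.1 0 0) * d01 - (x.1 0 1) * hd + (x.1 0 0 * x.1 0 0 * x.1 0 1) * h3
      refine Matrix.SpecialLinearGroup.mem_center_iff.2 ⟨x.1 0 0, by simpa [pow_two] using hd, ?_⟩
      ext i j
      fin_cases i <;> fin_cases j <;> simp [e1, e2, e3]
    · have e1 : x.1 1 0 = 0 := by linear_combination -c10 + (x.1 1 0) * h3
      have e2 : x.1 0 0 = 0 := by linear_combination -c00 + (x.1 0 0) * h3 + e1
      rw [e1, e2] at hd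
      simp at hd

theorem PP.aut (h : PP G) (hn : NR G) (he : 2 ∣ Nat.card G) {α : MulAut G} {j : ℕ} (hα : α ^ 2 ^ j = 1)
    (U : Sylow 3 G) (hU : ∀ u ∈ (U : Subgroup G), α u = u) : α = 1 := by
  classical
  haveI := Fact.mk Nat.prime_three
  haveI := Fact.mk Nat.prime_two
  haveI := Fintype.ofFinite G
  let C : Subgroup G := α.toMonoidHom.eqLocus (MonoidHom.id G)
  have h1 := Equiv.Perm.card_fixedPoints_modEq (α := G) (f := (α : G → G)) (p := 2) (n := j) (by
    funext x
    have : ∀ n, ((show Function.End G from (α : G → G)) ^ n) x = (α ^ n) x := fun n => by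
      induction n with
      | zero => rfl
      | succ n ih => rw [pow_succ', pow_succ', MulAut.mul_apply, ← ih]; rfl
    rw [this, hα]; rfl)
  have h2 : 2 ∣ Nat.card C := by
    rw [← Nat.card_eq_fintype_card, ← Nat.card_eq_fintype_card] at h1
    exact (h1.dvd_iff dvd_rfl).1 he
  obtain ⟨s, hs⟩ := exists_prime_orderOf_dvd_card' 2 h2
  have s2 : s.1 * s.1 = 1 := by
    rw [← pow_two, ← hs]; exact congrArg Subtype.val (pow_orderOf_eq_one s)
  have hC : C = ⊤ := by
    by_cases e : s.1 • U = U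
    · have := h.inv U s s2 (hn.cent U.isPGroup' 1 s (by rw [pow_one, pow_two, s2]) (Sylow.smul_eq_iff_mem_normalizer.1 e))
      rw [show s = 1 from Subtype.ext this, orderOf_one] at hs
      omega
    · rw [eq_top_iff, ← h.gen _ _ e]
      refine sup_le ?_ hU
      rw [Sylow.coe_subgroup_smul]
      rintro _ ⟨u, hu, rfl⟩
      exact C.mul_mem (C.mul_mem s.2 (hU u hu)) (C.inv_mem s.2)
  ext x
  exact (hC ▸ mem_top x : x ∈ C)

/-- quasisimple groups without real `3`-elements -/
theorem qs_psl {K : Type u} [Group K] [Finite K] (hq : IsQuasisimple K) (hn : NR K) (hO : pPrimeCore 3 K = ⊥) :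
    center K = ⊥ ∧ PP K ∧ 3 ∣ Nat.card K ∧ ∃ f : ℕ, 1 ≤ f ∧ Nonempty (K ≃* PSL(2, GaloisField 3 (2 * f + 1))) := by
  haveI := Fact.mk Nat.prime_three
  have hs : ¬ Group.IsSolvable K := fun k =>
    H5.qs_not_solvable (H5.qs_top_iff.2 hq) inferInstance
  have hZ : IsPGroup 3 (center K) :=
    (H1.isPGroup_pCore 3).to_le (H1.center_le_fitting.trans (H1.fitting_eq_pCore hO).le)
  have hc : ¬ IsMulCommutative (K ⧸ center K) := fun k => hs (by
    haveI := H1.isSolvable_of_comm' k
    haveI := hZ.isNilpotent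
    exact Group.isSolvable_of_ker_le_range (center K).subtype (QuotientGroup.mk' (center K)) (by simp))
  rcases H10.sz_of_not_isSec_s3 hq.2 hc (nr_iff.1 (hn.surj _ (QuotientGroup.mk'_surjective _))) with h | h
  · have h1 := H6.comap_pPrimeCore_le_of_central hO (Z := center K) le_rfl
    rw [show pPrimeCore 3 (K ⧸ center K) = ⊤ from eq_top_iff.2 (H1.le_pPrimeCore (by
      rw [card_top]; exact ((Nat.Prime.coprime_iff_not_dvd Nat.prime_three).2 (H10.not_three_dvd_sz h)).symm)),
      comap_top] at h1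
    haveI := ((H1.isPGroup_pCore 3).to_le h1).isNilpotent
    exact absurd (Group.isSolvable_of_surjective (f := (⊤ : Subgroup K).subtype) fun x => ⟨⟨x, trivial⟩, rfl⟩) hs
  · obtain ⟨F, _, _, n, hF, ⟨e⟩⟩ := h
    have hn1 : 1 ≤ n := by
      by_contra k
      obtain rfl : n = 0 := by omega
      obtain ⟨e0⟩ := H22.psl_two_three (F := F) hF
      haveI := H4.isSolvable_a4
      haveI := hq.2
      exact hc ⟨⟨IsSimpleGroup.comm_iff_isSolvable.2
        (Group.isSolvable_of_surjective (f := (e.trans e0).symm.toMonoidHom) (e.trans e0).symm.surjective)⟩⟩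
    have h27 : 27 ≤ Fintype.card F := by
      rw [hF]; exact Nat.pow_le_pow_right (n := 3) (by norm_num) (show 3 ≤ 2 * n + 1 by omega)
    have hU : Fintype.card (ULift.{u} F) = Fintype.card F := Fintype.card_ulift F
    obtain ⟨e'⟩ := H2.z_psl_congr hU.symm 2
    have hz : center K = ⊥ := by
      have h1 := (H7.spl_sl2 (F := ULift.{u} F) (by omega) (by omega)).cyc
        (H22.commutator_SL_fin_eq_top 2 fun _ => by omega) (H7.isCyclic_center_SL (by omega))
        (H22.card_center_SL 2 (by omega))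
      let σ : K →* PSL(2, ULift.{u} F) := (e.trans e').toMonoidHom.comp (QuotientGroup.mk' _)
      have hσ : σ.ker = center K := by ext x; simp [σ]
      obtain ⟨π, hπ⟩ := h1.2 K σ ⟨(e.trans e').surjective.comp (QuotientGroup.mk'_surjective _), hσ.le,
        hq.1.commutator_eq_top ▸ le_top⟩
      have h2 := (card_dvd_of_surjective π hπ).trans
        (show _ ∣ 2 by rw [Nat.card_congr Multiplicative.toAdd, Nat.card_zmod]; exact Nat.gcd_dvd_left _ _)
      obtain ⟨k, hk⟩ := IsPGroup.iff_card.1 hZ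
      rw [hσ] at h2
      exact card_eq_one.1 (Nat.eq_one_of_dvd_coprimes (show Nat.Coprime 2 (3 ^ k) from Nat.Coprime.pow_right _ (by norm_num)) h2 hk.dvd)
    haveI : CharP F 3 := charP_of_card_eq_prime_pow hF
    let e1 : K ≃* PSL(2, F) := ((QuotientGroup.quotientMulEquivOfEq hz).trans QuotientGroup.quotientBot).symm.trans e
    haveI := Fintype.ofFinite (GaloisField 3 (2 * n + 1))
    obtain ⟨e2⟩ := H2.z_psl_congr (F := F) (K := GaloisField 3 (2 * n + 1)) (by
      rw [hF, ← Nat.card_eq_fintype_card, GaloisField.card _ _ (by omega)]) 2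
    refine ⟨hz, pp_of_sl (e1.symm.toMonoidHom.comp (QuotientGroup.mk' _))
      (e1.symm.surjective.comp (QuotientGroup.mk'_surjective _)) ?_, ?_, n, hn1, ⟨e1.trans e2⟩⟩
    · ext x; simp
    · by_contra k
      have : pPrimeCore 3 K = ⊤ := eq_top_iff.2 (H1.le_pPrimeCore (by
        rw [card_top]; exact ((Nat.Prime.coprime_iff_not_dvd Nat.prime_three).2 k).symm))
      exact H5.qs_ne_bot (H5.qs_top_iff.2 hq) (this.symm.trans hO)

/-- generated by `2`-elements -/
def G2 (G : Type*) [Group G] : Prop := ∀ D : Subgroup G, (∀ (t : G) (j : ℕ), t ^ 2 ^ j = 1 → t ∈ D) → D = ⊤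

omit [Finite G] in
theorem G2.surj [Finite G] {X : Type*} [Group X] (h : G2 G) (f : G →* X) (hf : Function.Surjective f) : G2 X :=
  fun D hD => by
    have := h (D.comap f) fun t j ht => hD _ j (by rw [← map_pow, ht, map_one])
    rw [← map_comap_eq_self_of_surjective hf D, this, map_top_of_surjective _ hf]

theorem split {G : Type u} [Group G] [Finite G] [Nontrivial G] (hn : NR G) (h2 : G2 G) (hO : pPrimeCore 3 G = ⊥) :
    ∃ L : Subgroup G, L ≠ ⊥ ∧ L ⊓ centralizer (L : Set G) = ⊥ ∧ L ⊔ centralizer (L : Set G) = ⊤ ∧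
      ∃ f : ℕ, 1 ≤ f ∧ Nonempty (L ≃* PSL(2, GaloisField 3 (2 * f + 1))) := by
  haveI := Fact.mk Nat.prime_three
  obtain ⟨L, hL⟩ : ∃ L, H5.CompOf L (⊤ : Subgroup G) := by
    by_contra k
    have h1 : layer G = ⊥ := H5.layerOf_top.symm.trans (H5.layerOf_eq_bot_iff.2 (not_exists.1 k))
    have h3 := H5.fstar_eq_pCore_iff_centralizer.1 ((H5.fstar_eq_pCore_iff (p := 3)).2 ⟨h1, hO⟩)
    rw [h2 (centralizer (pCore 3 G : Set G)) fun t j ht => mem_centralizer_iff.2 fun y hy =>
      (hn.cent (H1.isPGroup_pCore 3) j t ht (by rw [normalizer_eq_top]; trivial) y hy).symm] at h3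
    refine bot_ne_top (h2 ⊥ fun t j ht => ?_)
    obtain ⟨i, hi⟩ := H1.isPGroup_pCore 3 ⟨t, h3 trivial⟩
    exact H10.eq_one_of_pow_pow (p := 3) (by norm_num) ht (congrArg Subtype.val hi)
  have hsn := H5.sn_top_iff.1 hL.sn
  obtain ⟨hz, hp, h3, hf⟩ := qs_psl hL.qs (hn.inj L.subtype L.subtype_injective) (by
    rw [← map_eq_bot_iff_of_injective _ L.subtype_injective, eq_bot_iff, ← hO]
    refine H1.subnormal_le_pPrimeCore ?_ ?_
    · exact H5.sn_top_iff.1 ((H5.sn_map_subtype_iff.2 (Normal.isSubnormal inferInstance)).trans hL.sn)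
    · rw [card_map_of_injective L.subtype_injective]; exact H1.normal_le_pPrimeCore_iff.1 le_rfl)
  have hz' : L ⊓ centralizer (L : Set G) = ⊥ := eq_bot_iff.2 fun x hx => by
    have : (⟨x, hx.1⟩ : L) ∈ center L := mem_center_iff.2 fun y => Subtype.ext (mem_centralizer_iff.1 hx.2 y y.2)
    rw [hz] at this
    exact congrArg Subtype.val (mem_bot.1 this)
  refine ⟨L, hL.ne_bot, hz', ?_, hf⟩
  obtain ⟨U⟩ : Nonempty (Sylow 3 L) := inferInstance
  obtain ⟨R, hU⟩ := (U.isPGroup'.map L.subtype).exists_le_sylow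
  have hE : layer G ≤ L ⊔ centralizer (L : Set G) := by
    rw [← H5.layerOf_top (G := G), ← hL.sup_layerCompl]
    exact sup_le_sup_left hL.layerCompl_le_centralizer _
  have hLE : L ≤ layer G := H5.layerOf_top (G := G) ▸ hL.le_layerOf
  have key : ∀ (t : G) (j : ℕ), t ^ 2 ^ j = 1 → t ∈ normalizer (((R : Subgroup G) ⊓ layer G : Subgroup G) : Set G) →
      t ∈ centralizer (L : Set G) := fun t j ht hN => by
    have c1 : ∀ u ∈ (U : Subgroup L), t * u = u * t := fun u hu =>
      hn.cent (R.isPGroup'.to_inf_left) j t ht hN u ⟨hU (mem_map_of_mem _ hu), hLE u.2⟩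
    have c2 : t ∈ normalizer (L : Set G) := by
      rw [← H5.cj_eq_self_iff]
      by_contra k
      have := commutator_eq_bot_iff_le_centralizer.1
        ((hL.cj_of_mem (g := t) (by rw [normalizer_eq_top]; trivial)).commutator_eq_bot hL k)
      refine U.ne_bot_of_dvd_card h3 (eq_bot_iff.2 fun u hu => mem_bot.2 (Subtype.ext ?_))
      refine mem_bot.1 (hz' ▸ (⟨u.2, this (H5.mem_cj.2 ?_)⟩ : u.1 ∈ L ⊓ centralizer (L : Set G)))
      rw [mul_assoc, ← c1 u hu, inv_mul_cancel_left]; exact u.2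
    have c3 := hp.aut (hn.inj L.subtype L.subtype_injective) (H1.ft_two_dvd (H5.qs_not_solvable hL.qs))
      (α := L.normalizerMonoidHom ⟨t, c2⟩) (j := j) (by
        rw [← map_pow, show (⟨t, c2⟩ : normalizer (L : Set G)) ^ 2 ^ j = 1 from Subtype.ext ht, map_one]) U
      fun u hu => Subtype.ext (by
        show t * u * t⁻¹ = u
        rw [c1 u hu, mul_inv_cancel_right])
    refine mem_centralizer_iff.2 fun y hy => ?_
    have : t * y * t⁻¹ = y := congrArg Subtype.val (DFunLike.congr_fun c3 (⟨y, hy⟩ : L))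
    exact (mul_inv_eq_iff_eq_mul.1 this).symm
  refine h2 _ fun t j ht => ?_
  have : t ∈ ((layer G ⊔ normalizer (((R : Subgroup G) ⊓ layer G : Subgroup G) : Set G) : Subgroup G) : Set G) := by
    rw [H7.sup_normalizer_sylow_inf]; trivial
  rw [normal_mul] at this
  obtain ⟨e, he, n, hN, rfl⟩ := this
  obtain ⟨m, i, hm, hi⟩ := exists_odd_pow n
  refine mul_mem (hE he) (H9.mem_of_pow_mem_of_coprime (m := m) (n := 2 ^ j)
    (mem_sup_right (key _ i hi (pow_mem hN m))) (hE ?_) (Nat.Coprime.pow_right _ (Nat.coprime_two_right.2 hm)))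
  rw [← QuotientGroup.eq_one_iff, QuotientGroup.mk_pow]
  have := congrArg (QuotientGroup.mk : G → G ⧸ layer G) ht
  rwa [QuotientGroup.mk_pow, QuotientGroup.mk_mul, (QuotientGroup.eq_one_iff e).2 he, one_mul] at this

/-- splitting off the first factor -/
def piSucc {k : ℕ} (X : Fin (k + 1) → Type*) [∀ i, Group (X i)] : (∀ i, X i) ≃* X 0 × ∀ i : Fin k, X i.succ :=
  { (Fin.consEquiv X).symm with map_mul' := fun _ _ => rfl }

theorem main (n : ℕ) : ∀ (G : Type u) [Group G] [Finite G], Nat.card G ≤ n → NR G → G2 G → pPrimeCore 3 G = ⊥ →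
    ∃ (k : ℕ) (f : Fin k → ℕ), (∀ i, 1 ≤ f i) ∧
      Nonempty (G ≃* ((i : Fin k) → PSL(2, GaloisField 3 (2 * f i + 1)))) := by
  induction n with
  | zero => intro G _ _ h; exact absurd (Nat.card_pos (α := G)) (by omega)
  | succ n ih =>
    intro G _ _ hc hn h2 hO
    rcases subsingleton_or_nontrivial G with k | k
    · haveI := uniqueOfSubsingleton (1 : G)
      exact ⟨0, Fin.elim0, fun i => i.elim0, ⟨MulEquiv.ofUnique⟩⟩
    obtain ⟨L, h0, h1, h3, f, hf, ⟨e⟩⟩ := split hn h2 hO
    let C := centralizer (L : Set G)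
    have hcm : ∀ (x : L) (y : C), Commute (L.subtype x) (C.subtype y) := fun x y =>
      mem_centralizer_iff.1 y.2 x x.2
    let φ : L × C →* G := L.subtype.noncommCoprod C.subtype hcm
    have hφ : Function.Bijective φ := ⟨(MonoidHom.noncommCoprod_injective _ _ _).2
      ⟨L.subtype_injective, C.subtype_injective, by simpa [disjoint_iff] using h1⟩, by
        rw [← MonoidHom.range_eq_top, MonoidHom.noncommCoprod_range]; simpa using h3⟩
    let ε := (MulEquiv.ofBijective φ hφ).symm
    haveI : C.Normal := normalizer_eq_top_iff.1 (eq_top_iff.2 (h3 ▸ sup_le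
      (H5.le_normalizer_centralizer le_normalizer) le_normalizer))
    obtain ⟨k, g, hg, ⟨e'⟩⟩ := ih C (by
        have := Nat.card_congr ε.toEquiv
        rw [Nat.card_prod] at this
        have h4 := (one_lt_card_iff_ne_bot _).2 h0
        have h5 : 0 < Nat.card C := Nat.card_pos
        nlinarith) (hn.inj C.subtype C.subtype_injective)
      (h2.surj ((MonoidHom.snd L C).comp ε.toMonoidHom) (Prod.snd_surjective.comp ε.surjective)) (by
        rw [← map_eq_bot_iff_of_injective _ C.subtype_injective, eq_bot_iff, ← hO]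
        exact H1.map_pPrimeCore_subtype_le 3 C)
    refine ⟨k + 1, Fin.cons f g, fun i => Fin.cases hf hg i, ⟨ε.trans ((e.prodCongr e').trans
      (piSucc fun i => PSL(2, GaloisField 3 (2 * (Fin.cons f g : Fin (k + 1) → ℕ) i + 1))).symm)⟩⟩

end H26.R3
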