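import Cfsg.Agent.H7.Jh

/-! The normalizer of the line in the `PSp4(3)` configuration. -/

set_option autoImplicit false
set_option linter.unusedSectionVars false
set_option linter.unusedVariables false

namespace H26Nv

open Subgroup Equiv H7J

variable {G : Type*} [Group G] [Finite G] {ψ : P →* G}

/-- equality modulo `k0` -/
def E (p q : P) : Prop := p = q ∨ p = q * k0
instance (p q : P) : Decidable (E p q) := by unfold E; infer_instance

theorem eqE (h : Hy ψ) {p q : P} : ψ p = ψ q ↔ E p q := by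
  rw [← inv_mul_eq_one, ← map_inv, ← map_mul, eq_comm, eq_comm, h.ker, inv_mul_eq_one,
    inv_mul_eq_iff_eq_mul, E]
  constructor
  · rintro (e | e)
    · exact Or.inl e
    · right; rw [e, mul_assoc, show k0 * k0 = 1 by decide +kernel, mul_one]
  · rintro (e | e)
    · exact Or.inl e
    · right; rw [e, mul_assoc, show k0 * k0 = 1 by decide +kernel, mul_one]

def mm (r : P) : P := ⟨r.a⁻¹, 1, false⟩
def L : List S := [1, qw, qw * qw, qj, qj * qw, qj * (qw * qw), qi, qi * qw, qi * (qw * qw)]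

theorem f1 : ∀ r : P, E (r * r) 1 → E r 1 ∨ E r z0 ∨
    (r.s = false ∧ ∃ x ∈ L, ∃ y ∈ L, E (⟨x, y, false⟩ * r * (⟨x, y, false⟩ : P)⁻¹) a0) ∨
    (r.s = true ∧ (E (mm r * r * (mm r)⁻¹) (pt 1) ∨ E (mm r * r * (mm r)⁻¹) (pt 1 * z0))) := by
  decide +kernel

theorem f2 : ∀ r : P, r.s = true → E (r * r) 1 → E (r * pt 1) (pt 1 * r) →
    ∃ j, E r (pt j) ∨ (j ≠ 0 ∧ E r (pt j * z0)) := by decide +kernel

theorem f3 : ∀ j, j ≠ 0 → ∃ x ∈ [1, qi, qj, qk], E (⟨x, 1, false⟩ * pt 1 * (⟨x, 1, false⟩ : P)⁻¹) (pt j) ∧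
    E (⟨x, 1, false⟩ * (pt 1 * z0) * (⟨x, 1, false⟩ : P)⁻¹) (pt j * z0) := by decide +kernel

theorem f4 : ∀ i j, E (pt i * pt j) (pt j * pt i) ∧ E (pt i * pt i) 1 ∧ ¬ E (pt i) 1 ∧
    (E (pt i) (pt j) → i = j) := by decide +kernel

def al : Perm (Fin 5) := swap 2 3 * swap 3 4
def be : Perm (Fin 5) := swap 1 2 * swap 3 4

theorem f5 : (∀ i, E (⟨qi, 1, false⟩ * pt i * (⟨qi, 1, false⟩ : P)⁻¹) (pt (be i))) ∧
    ∃ x ∈ [qw, qw * qw], ∀ i, E (⟨x, x, false⟩ * pt i * (⟨x, x, false⟩ : P)⁻¹) (pt (al i)) := by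
  decide +kernel

theorem f6 : ∀ σ : Perm (Fin 5), σ 0 = 0 → Perm.sign σ = 1 →
    ∃ i j k : Fin 3, σ = al ^ i.1 * be ^ j.1 * al ^ k.1 := by decide +kernel

theorem f7 : ∀ x y : Fin 5, x ≠ 0 → y ≠ 0 → ∃ i j k : Fin 3,
    (al ^ i.1 * be ^ j.1 * al ^ k.1) x = y := by decide +kernel

theorem cj (h : Hy ψ) {m p q : P} (e : E (m * p * m⁻¹) q) : IsConj (ψ p) (ψ q) :=
  isConj_iff.2 ⟨ψ m, by rw [← map_inv, ← map_mul, ← map_mul, eqE h]; exact e⟩

theorem nv (h : Hy ψ) (na : ¬ IsConj (ψ z0) (ψ a0)) (c : IsConj (ψ z0) (ψ (pt 1))) : H2 ψ := by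
  obtain ⟨g, hg⟩ := isConj_iff.1 c
  have cm : ∀ i j, ψ (pt i) * ψ (pt j) = ψ (pt j) * ψ (pt i) := fun i j => by
    rw [← map_mul, ← map_mul, eqE h]; exact (f4 i j).1
  have cD : ∀ i, IsConj (ψ z0) (ψ (pt i)) := fun i => by
    by_cases hi : i = 0
    · subst hi; exact IsConj.refl _
    · obtain ⟨x, -, e, -⟩ := f3 i hi
      exact c.trans (cj h e)
  have hz : g⁻¹ * ψ (pt 1) * g = ψ z0 := by rw [← hg]; group
  have hr : ∀ i, ∃ r, ψ r = g⁻¹ * ψ (pt i) * g := fun i => (h.cz _).1 (by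
    rw [← hz]
    calc _ = g⁻¹ * (ψ (pt i) * ψ (pt 1)) * g := by group
      _ = _ := by rw [cm]; group)
  choose r hr using hr
  have rc : ∀ i j, E (r i * r j) (r j * r i) := fun i j => by
    rw [← eqE h, map_mul, map_mul, hr, hr]
    calc _ = g⁻¹ * (ψ (pt i) * ψ (pt j)) * g := by group
      _ = _ := by rw [cm]; group
  have r2 : ∀ i, E (r i * r i) 1 := fun i => by
    rw [← eqE h, map_mul, hr, map_one]
    calc _ = g⁻¹ * ψ (pt i * pt i) * g := by rw [map_mul]; group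
      _ = _ := by rw [(eqE h).2 (f4 i i).2.1]; simp
  have rD : ∀ i, IsConj (ψ z0) (ψ (r i)) := fun i =>
    (cD i).trans (isConj_iff.2 ⟨g⁻¹, by rw [hr, inv_inv]⟩)
  have rt : ∀ i, i ≠ 1 → (r i).s = true ∧ (E (mm (r i) * r i * (mm (r i))⁻¹) (pt 1) ∨
      E (mm (r i) * r i * (mm (r i))⁻¹) (pt 1 * z0)) := by
    intro i hi
    rcases f1 _ (r2 i) with e | e | ⟨-, x, -, y, -, e⟩ | e
    · rw [← eqE h, hr, map_one, mul_assoc, inv_mul_eq_iff_eq_mul, mul_one, mul_eq_right,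
        ← map_one ψ, eqE h] at e
      exact absurd e (f4 i i).2.2.1
    · rw [← eqE h, hr, ← hz, mul_left_inj, mul_right_inj, eqE h] at e
      exact absurd ((f4 i 1).2.2.2 e) hi
    · exact absurd ((rD i).trans (cj h e)) na
    · exact e
  have nb : ¬ IsConj (ψ z0) (ψ (pt 1 * z0)) := by
    intro hb
    have e1 : ψ (z0 * r 2) = g⁻¹ * ψ a0 * g := by
      rw [map_mul, hr, ← hz, a0, map_mul]; group
    have e2 : E (z0 * r 2 * (z0 * r 2)) 1 := by
      rw [← eqE h, map_mul, e1, map_one]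
      calc _ = g⁻¹ * ψ (a0 * a0) * g := by rw [map_mul]; group
        _ = _ := by rw [(eqE h).2 (show E (a0 * a0) 1 by decide +kernel)]; simp
    have e3 : (z0 * r 2).s = true := (rt 2 (by decide)).1
    have e4 : IsConj (ψ (z0 * r 2)) (ψ a0) := isConj_iff.2 ⟨g, by rw [e1]; group⟩
    rcases f1 _ e2 with e | e | ⟨e, -⟩ | ⟨-, e | e⟩
    · rcases e with e | e <;> rw [e] at e3 <;> exact absurd e3 (by decide)
    · rcases e with e | e <;> rw [e] at e3 <;> exact absurd e3 (by decide)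
    · rw [e] at e3; exact absurd e3 (by decide)
    · exact na ((c.trans (cj h e).symm).trans e4)
    · exact na ((hb.trans (cj h e).symm).trans e4)
  set m := mm (r 0) with hm
  have m1 : E (m * r 0 * m⁻¹) (pt 1) := (rt 0 (by decide)).2.resolve_right fun e =>
    nb ((rD 0).trans (cj h e))
  have hp : ∀ i, ∃ j, ψ m * g⁻¹ * ψ (pt i) * (ψ m * g⁻¹)⁻¹ = ψ (pt j) ∧ (i = 1 → j = 0) := by
    intro i
    have e0 : ψ m * g⁻¹ * ψ (pt i) * (ψ m * g⁻¹)⁻¹ = ψ (m * r i * m⁻¹) := by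
      rw [map_mul, map_mul, map_inv, hr]; group
    by_cases hi : i = 1
    · subst hi
      refine ⟨0, ?_, fun _ => rfl⟩
      have := (h.cz (ψ m)).2 ⟨m, rfl⟩
      rw [e0, map_mul, map_mul, map_inv, hr, hz, this, mul_inv_cancel_right]; rfl
    have a1 : (m * r i * m⁻¹).s = true := by
      have := (rt i hi).1
      revert this
      rcases r i with ⟨a, b, _ | _⟩
      · exact fun e => absurd e (by simp)
      · exact fun _ => rfl
    obtain ⟨j, e | ⟨hj, e⟩⟩ := f2 _ a1 (by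
        rw [← eqE h, map_one, show m * r i * m⁻¹ * (m * r i * m⁻¹) = m * (r i * r i) * m⁻¹ by group,
          map_mul, map_mul, (eqE h).2 (r2 i)]
        simp) (by
        rw [← eqE h, map_mul ψ _ (pt 1), map_mul ψ (pt 1), ← (eqE h).2 m1, ← map_mul, ← map_mul,
          show m * r i * m⁻¹ * (m * r 0 * m⁻¹) = m * (r i * r 0) * m⁻¹ by group,
          show m * r 0 * m⁻¹ * (m * r i * m⁻¹) = m * (r 0 * r i) * m⁻¹ by group,
          map_mul, map_mul ψ m, (eqE h).2 (rc i 0), ← map_mul, ← map_mul])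
    · exact ⟨j, e0.trans ((eqE h).2 e), fun e => absurd e hi⟩
    · obtain ⟨x, -, -, e'⟩ := f3 j hj
      exact absurd (((rD i).trans (cj h e)).trans (cj h e').symm) nb
  choose π hπ h1 using hp
  have pinj : Function.Injective π := fun i j e => (f4 i j).2.2.2 ((eqE h).1 (by
    have := (hπ i).trans (e ▸ (hπ j).symm)
    simpa using this))
  let π' : Perm (Fin 5) := Equiv.ofBijective π (Finite.injective_iff_bijective.1 pinj)
  let R : Subgroup (Perm (Fin 5)) :=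
    { carrier := {σ | ∃ n : G, ∀ i, n * ψ (pt i) * n⁻¹ = ψ (pt (σ i))}
      one_mem' := ⟨1, fun i => by simp⟩
      mul_mem' := by
        rintro σ τ ⟨n, hn⟩ ⟨k, hk⟩
        exact ⟨n * k, fun i => by rw [Perm.mul_apply, ← hn, ← hk]; group⟩
      inv_mem' := by
        rintro σ ⟨n, hn⟩
        exact ⟨n⁻¹, fun i => by
          have := hn (σ⁻¹ i)
          rw [show σ (σ⁻¹ i) = i by simp] at this
          rw [← this]; group⟩ }
  have hbe : be ∈ R := ⟨ψ _, fun i => by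
    rw [← map_inv, ← map_mul, ← map_mul, eqE h]; exact f5.1 i⟩
  have hal : al ∈ R := by
    obtain ⟨x, -, e⟩ := f5.2
    exact ⟨ψ _, fun i => by rw [← map_inv, ← map_mul, ← map_mul, eqE h]; exact e i⟩
  have hw : ∀ i j k : ℕ, al ^ i * be ^ j * al ^ k ∈ R := fun i j k =>
    mul_mem (mul_mem (pow_mem hal _) (pow_mem hbe _)) (pow_mem hal _)
  have sw : ∀ i j k : ℕ, Perm.sign (al ^ i * be ^ j * al ^ k) = 1 := fun i j k => by
    simp [show Perm.sign al = 1 by decide, show Perm.sign be = 1 by decide]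
  have hp' : π' ∈ R := ⟨_, hπ⟩
  have hγ : π' * be * π'⁻¹ ∈ R := mul_mem (mul_mem hp' hbe) (inv_mem hp')
  have γ0 : (π' * be * π'⁻¹) 0 ≠ 0 := by
    have e : π' 1 = 0 := h1 1 rfl
    have e' : π'⁻¹ 0 = 1 := Perm.inv_eq_iff_eq.2 e.symm
    rw [Perm.mul_apply, Perm.mul_apply, e', ← e]
    exact fun e => absurd (π'.injective e) (by decide)
  have sγ : Perm.sign (π' * be * π'⁻¹) = 1 := by
    simp [show Perm.sign be = 1 by decide]
  generalize π' * be * π'⁻¹ = γ at hγ γ0 sγ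
  refine ⟨h, na, nb, fun σ hσ => (?_ : σ ∈ R)⟩
  by_cases h0 : σ 0 = 0
  · obtain ⟨i, j, k, e⟩ := f6 σ h0 hσ
    exact e ▸ hw i j k
  obtain ⟨i, j, k, e⟩ := f7 _ _ γ0 h0
  obtain ⟨i', j', k', e'⟩ := f6 ((al ^ i.1 * be ^ j.1 * al ^ k.1 * γ)⁻¹ * σ)
    (by rw [Perm.mul_apply, Perm.inv_eq_iff_eq, Perm.mul_apply, e])
    (by rw [map_mul, map_inv, map_mul, sw, sγ, hσ]; simp)
  rw [inv_mul_eq_iff_eq_mul] at e'
  exact e' ▸ mul_mem (mul_mem (hw i j k) hγ) (hw i' j' k')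

end H26Nv
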