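import Cfsg.Agent.H26.Top2
import Cfsg.Agent.H8.L2f

/-! The largest `E`-invariant odd order subgroup of `C(u)` for `u ∈ E \ V`. -/

set_option autoImplicit false
set_option linter.unusedSectionVars false

namespace H26.Top

open Subgroup H10 H2.KD
open H5 (oppOf)
open scoped commutatorElement

universe u
variable {G : Type u} [Group G] [Finite G] {E V : Subgroup G} {u x y : G} {p : ℕ}

/-- `O(C(u))` -/
abbrev OO (u : G) : Subgroup G := oppOf 2 (centralizer {u})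

theorem odd_OO (u : G) : Odd (Nat.card (OO u)) :=
  Nat.coprime_two_right.1 (H5.coprime_card_oppOf 2 _)

theorem nO (u : G) : centralizer {u} ≤ NN(OO u) := H5.self_le_normalizer_oppOf 2 _

theorem EC (h : HD E V) {a : G} (ha : a ∈ E) : E ≤ centralizer {a} := fun _ he =>
  mem_centralizer_singleton_iff.2 (comm h he ha)

theorem CEC {a : G} (ha : a ∈ E) : CC(E) ≤ centralizer {a} := fun _ he =>
  mem_centralizer_singleton_iff.2 (he a ha).symm

/-- the elements commuting with `d` modulo `O(C(u))` -/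
def cm (u d : G) : Subgroup G where
  carrier := {a | a ∈ centralizer {u} ∧ ⁅a, d⁆ ∈ OO u}
  one_mem' := ⟨one_mem _, by simp⟩
  mul_mem' := by
    rintro a b ⟨ha, ha'⟩ ⟨hb, hb'⟩
    refine ⟨mul_mem ha hb, ?_⟩
    rw [commutatorElement_mul_left_eq_conj_mul]
    exact mul_mem (conj_mem_of_mem_NN (nO u ha) hb') ha'
  inv_mem' := by
    rintro a ⟨ha, ha'⟩
    refine ⟨inv_mem ha, ?_⟩
    rw [commutatorElement_inv_left]
    refine conj_mem_of_mem_NN' (nO u ha) ?_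
    rw [← commutatorElement_inv]; exact inv_mem ha'

theorem cm_of_comm {a d : G} (ha : a ∈ centralizer {u}) (h : d ∈ centralizer {a}) : a ∈ cm u d :=
  ⟨ha, by
    rw [commutatorElement_eq_one_iff_mul_comm.2 (mem_centralizer_singleton_iff.1 h).symm]
    exact one_mem _⟩

/-- the elements centralizing `V` modulo `O(C(u))` -/
abbrev MM (V : Subgroup G) (u : G) : Subgroup G := stabMod V (OO u)

theorem mem_MM {d : G} (hd : d ∈ centralizer {u}) (h : V ≤ cm u d) : d ∈ MM V u :=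
  ⟨nO u hd, fun v hv => by rw [← commutatorElement_inv]; exact inv_mem (h hv).2⟩

theorem le_cm (h : HD E V) (hu : u ∈ E) {d : G} (hd : d ∈ MM V u) : V ≤ cm u d := fun v hv =>
  ⟨EC h hu (h.le hv), by rw [← commutatorElement_inv]; exact inv_mem (hd.2 v hv)⟩

theorem nM (h : HD E V) : centralizer {u} ⊓ NN(E) ≤ NN(MM V u) :=
  le_NN_iff.2 fun g hg d hd => ⟨mul_mem (mul_mem (nO u hg.1) hd.1) (inv_mem (nO u hg.1)),
    fun v hv => by
      have := conj_mem_of_mem_NN (nO u hg.1) (hd.2 _ (conj_mem_of_mem_NN' (nV' h hg.2) hv))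
      convert this using 1
      simp only [commutatorElement_def]; group⟩

theorem g0 (h : HD E V) {T Y : Subgroup G}
    (hT : ∀ Y : Subgroup G, Y ≤ CC(E) → Odd (Nat.card Y) → Y ≤ T) (hY : Odd (Nat.card Y))
    (hE : E ≤ NN(Y)) (k : ∀ d ∈ Y, E ≤ cm u d) : Y ≤ OO u ⊔ T := by
  rw [← Cfsg.Agent.S0026.result E Y hE (cop h hY) (Or.inl (sol h))]
  refine sup_le_sup (commutator_le.2 fun d hd e he => ?_)
    (hT _ inf_le_right (odd_of_le inf_le_left hY))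
  rw [← commutatorElement_inv]; exact inv_mem (k d hd he).2

/-- the centralizer of three elements -/
abbrev N3 (a b c : G) : Subgroup G := centralizer {a} ⊓ centralizer {b} ⊓ centralizer {c}

theorem cj_N3 (g a b c : G) : cj g (N3 a b c) = N3 (g * a * g⁻¹) (g * b * g⁻¹) (g * c * g⁻¹) := by
  simp only [N3, cj_inf, cj_centralizer_singleton]

theorem CE_N3 {a b c : G} (ha : a ∈ E) (hb : b ∈ E) (hc : c ∈ E) : CC(E) ≤ N3 a b c :=
  le_inf (le_inf (CEC ha) (CEC hb)) (CEC hc)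

theorem mi_le {N J X : Subgroup G} (m : MI p E N X) (h1 : X ≤ J) (h2 : J ≤ N) : MI p E J X :=
  ⟨h1, m.2.1, m.2.2.1, fun Y a => m.2.2.2 Y (a.trans h2)⟩

/-- the data of the second case -/
structure Dat (E V : Subgroup G) (u x y : G) : Prop where
  h : HD E V
  hu : u ∈ E
  huV : u ∉ V
  hx : x ∈ centralizer {u} ⊓ NN(E)
  tr : ∀ v ∈ V, v ≠ 1 → ∀ w ∈ V, w ≠ 1 → ∃ i : ℕ, x ^ i * v * (x ^ i)⁻¹ = w
  nf : ∀ v ∈ V, v ≠ 1 → x * v * x⁻¹ ≠ v
  hy : y ∈ E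
  y1 : y ∉ V
  y2 : y * u ∉ V
  xy : x * y * x⁻¹ = y
  z : ∀ d ∈ centralizer {u}, y ∈ cm u d

theorem Dat.g1 (c : Dat E V u x y) {T Y : Subgroup G}
    (hT : ∀ Y : Subgroup G, Y ≤ CC(E) → Odd (Nat.card Y) → Y ≤ T) (hY : Odd (Nat.card Y))
    (hE : E ≤ NN(Y)) (hC : Y ≤ centralizer {u}) (k : Y ≤ MM V u) : Y ≤ OO u ⊔ T := by
  refine g0 c.h hT hY hE fun d hd e he => ?_
  have a := le_cm c.h c.hu (k hd)
  have a1 : u ∈ cm u d := cm_of_comm (EC c.h c.hu c.hu) (hC hd)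
  have a2 := c.z d (hC hd)
  rcases cos c.h c.hu c.hy c.huV c.y1 c.y2 he with b | b | b | b
  · exact a b
  · exact (mul_mem_cancel_right a1).1 (a b)
  · exact (mul_mem_cancel_right a2).1 (a b)
  · exact (mul_mem_cancel_right (mul_mem a1 a2)).1 (a b)

theorem Dat.bad (c : Dat E V u x y) [Fact p.Prime] (hp : p ≠ 2) {w0 w : G} {P0 P : Subgroup G}
    (h0 : w0 ∈ V) (n0 : w0 ≠ 1) (m0 : MI p E (N3 u y w0) P0) (b0 : ¬ P0 ≤ MM V u)
    (hw : w ∈ V) (n1 : w ≠ 1) (m : MI p E (N3 u y w) P) : ¬ P ≤ MM V u := fun b => by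
  obtain ⟨i, hi⟩ := c.tr w0 h0 n0 w hw n1
  have hxi := pow_mem c.hx i
  have m1 := mi_cj m0 hxi.2
  have cx : Commute x y := mul_inv_eq_iff_eq_mul.1 c.xy
  rw [cj_N3, hi, mem_centralizer_singleton_iff.1 hxi.1, (cx.pow_left i).eq, mul_inv_cancel_right,
    mul_inv_cancel_right] at m1
  obtain ⟨K, hK⟩ := c.h.h1 w hw n1
  have k : ∀ {P : Subgroup G}, MI p E (N3 u y w) P → MI p E (K ⊓ N3 u y w) P := fun m =>
    mi_le m (le_inf (hK.2.2.2 _ (m.1.trans inf_le_right) (odd_of_p hp m.2.1) m.2.2.1) m.1)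
      inf_le_right
  obtain ⟨g, hg, e⟩ := mi_odd c.h (odd_of_le inf_le_left hK.2.1) (le_NN_inf hK.2.2.1
    ((c.h.ec.trans (CE_N3 c.hu c.hy (c.h.le hw))).trans (le_NN_self _))) (k m1) (k m)
  rw [← e, ← cj_mul, cj_le_iff, cj_eq_of_mem_NN
    (nM c.h (inv_mem (mul_mem ⟨hg.1.2.1.1, CC_le_NN E hg.2⟩ hxi)))] at b
  exact b0 b

theorem Dat.nfull (c : Dat E V u x y) [Fact p.Prime] (hp : p ≠ 2) {X : Subgroup G}
    (hX : IsPGroup p X) (hEX : E ≤ NN(X)) {w1 w2 : G} (a1 : w1 ∈ V) (a2 : w2 ∈ V) (n1 : w1 ≠ 1)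
    (n2 : w2 ≠ 1) (n12 : w1 ≠ w2) (b1 : ¬ X ⊓ N3 u y w1 ≤ MM V u)
    (b2 : ¬ X ⊓ N3 u y w2 ≤ MM V u) : False := by
  have h := c.h
  set C := centralizer ({u} : Set G)
  have EC' : E ≤ C := EC h c.hu
  let f := QuotientGroup.mk' (Cfsg.pPrimeCore 2 C)
  have fs : Function.Surjective f := QuotientGroup.mk'_surjective _
  have fk : ∀ a : C, f a = 1 ↔ (a : G) ∈ OO u := fun a => (QuotientGroup.eq_one_iff a).trans
    ⟨fun h => ⟨a, h, rfl⟩, fun ⟨b, hb, e⟩ => Subtype.ext e ▸ hb⟩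
  have fE : ∀ a : C, (a : G) ∈ E → f a = 1 → a = 1 := fun a ha e => by
    have := (disjoint_iff.1 (disjoint_of_coprime_natCard (cop h (odd_OO u)))).le ⟨ha, (fk a).1 e⟩
    exact Subtype.ext (mem_bot.1 this)
  have fE2 : ∀ a b : C, (a : G) ∈ E → (b : G) ∈ E → f a = f b → a = b := fun a b ha hb e =>
    mul_inv_eq_one.1 (fE _ (E.mul_mem ha (E.inv_mem hb)) (by rw [map_mul, map_inv, e, mul_inv_cancel]))
  have sy := h.h2 u c.hu c.huV
  obtain ⟨S, hS⟩ := ((isSylowIn_subgroupOf_top sy).map_top fs).exists_sylow_top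
  have key : ∀ {w w' d : G} (hw : w ∈ V) (hw' : w' ∈ V), w ≠ 1 → w' ≠ 1 → w ≠ w' →
      ∀ hd : d ∈ X ⊓ N3 u y w, f ⟨d, hd.2.1.1⟩ * f ⟨w', EC' (h.le hw')⟩ =
        f ⟨w', EC' (h.le hw')⟩ * f ⟨d, hd.2.1.1⟩ → d ∈ MM V u := by
    intro w w' d hw hw' k1 k2 k3 hd e
    have c1 : w ∈ cm u d := cm_of_comm (EC' (h.le hw)) hd.2.2
    have c2 : w' ∈ cm u d := ⟨EC' (h.le hw'), (fk ⁅(⟨w', EC' (h.le hw')⟩ : C), (⟨d, hd.2.1.1⟩ : C)⁆).1 (by
      rw [map_commutatorElement, commutatorElement_eq_one_iff_mul_comm, e])⟩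
    refine mem_MM hd.2.1.1 fun v hv => ?_
    rcases four h.cV (fun x hx => h.e2 x (h.le hx)) hw hw' k1 k2 k3 hv with e | e | e | e <;> rw [e]
    exacts [one_mem _, c1, c2, mul_mem c1 c2]
  obtain ⟨d1, m1, q1⟩ := SetLike.not_le_iff_exists.1 b1
  obtain ⟨d2, m2, q2⟩ := SetLike.not_le_iff_exists.1 b2
  have cc : ∀ {w d : G} (hw : w ∈ V) (hd : d ∈ X ⊓ N3 u y w), f ⟨d, hd.2.1.1⟩ *
      f ⟨w, EC' (h.le hw)⟩ = f ⟨w, EC' (h.le hw)⟩ * f ⟨d, hd.2.1.1⟩ := fun hw hd => by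
    rw [← map_mul, ← map_mul]
    exact congrArg f (Subtype.ext (mem_centralizer_singleton_iff.1 hd.2.2))
  have nn : ∀ {A B : Subgroup G}, A ≤ C → B ≤ C → A ≤ NN(B) →
      (A.subgroupOf C).map f ≤ NN((B.subgroupOf C).map f) := fun _ h2 h3 =>
    map_le_NN_map f (by rw [NN_subgroupOf h2]; exact comap_mono h3)
  refine (H8.l2four (H1.pPrimeCore_quotient_pPrimeCore 2) S (V := (V.subgroupOf C).map f) ?_ ⟨?_, ?_⟩
    ?_ (x := f ⟨x, c.hx.1⟩) ?_ ?_ hp (Z := ((X ⊓ C).subgroupOf C).map f)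
    ((isPGroup_subgroupOf (hX.to_le inf_le_left) C).map f)
    (nn (h.le.trans EC') inf_le_right (h.le.trans (le_NN_inf hEX (EC'.trans (le_NN_self C)))))
    (mem_map_of_mem f (x := ⟨d1, m1.2.1.1⟩) ⟨m1.1, m1.2.1.1⟩)
    (mem_map_of_mem f (x := ⟨d2, m2.2.1.1⟩) ⟨m2.1, m2.2.1.1⟩)
    (mem_map_of_mem f (x := ⟨w1, EC' (h.le a1)⟩) a1) (mem_map_of_mem f (x := ⟨w2, EC' (h.le a2)⟩) a2)
    (fun e => n1 (congrArg Subtype.val (fE _ (h.le a1) e)))
    (fun e => n2 (congrArg Subtype.val (fE _ (h.le a2) e)))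
    (fun e => n12 (congrArg Subtype.val (fE2 _ _ (h.le a1) (h.le a2) e))) (cc a1 m1) (cc a2 m2)).elim
    (fun e => q1 (key a1 a2 n1 n2 n12 m1 e)) (fun e => q2 (key a2 a1 n2 n1 n12.symm m2 e))
  · rw [hS]
    rintro _ ⟨a, ha, rfl⟩
    rw [← map_mul, show a * a = 1 from Subtype.ext (h.e2 a ha), map_one]
  · rw [hS]; exact map_mono (comap_mono h.le)
  · rw [hS]
    rintro _ ⟨v, hv, rfl⟩ g ⟨e, he, k⟩
    obtain ⟨g, rfl⟩ := fs g
    have k1 : ((g * v * g⁻¹ : C) : G) ∈ E ⊔ OO u := by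
      have : ((e⁻¹ * (g * v * g⁻¹) : C) : G) ∈ OO u := (fk _).1 (by
        rw [map_mul, map_inv, map_mul, map_mul, map_inv, ← k, inv_mul_cancel])
      have := mul_mem (mem_sup_left (S := E) (T := OO u) he) (mem_sup_right this)
      simpa using this
    have hle : E ⊔ OO u ≤ C := sup_le EC' (H5.oppOf_le 2 _)
    obtain ⟨o, ho, k2⟩ := (sy.of_le le_sup_left hle).exists_cj_le
      (isPGroup_zpowers (x := ((g * v * g⁻¹ : C) : G)) (k := 1) (by
        rw [pow_one, ← Subgroup.coe_pow, conj_pow, sq,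
          show v * v = 1 from Subtype.ext (h.e2 v (h.le hv))]; simp)) (zpowers_le.2 k1)
    have k3 := k2 (conj_mem_cj (mem_zpowers _))
    have k4 := h.h3 (o * g) v hv (by simpa [mul_assoc] using k3)
    obtain ⟨e', he', o', ho', rfl⟩ := (mem_sup_of_NN (EC'.trans (nO u))).1 ho
    refine ⟨⟨e', EC' he'⟩ * ⟨o', hle (mem_sup_right ho')⟩ * g * v *
      (⟨e', EC' he'⟩ * ⟨o', hle (mem_sup_right ho')⟩ * g)⁻¹, k4, ?_⟩
    have k5 : f ⟨e', EC' he'⟩ * f e = f e * f ⟨e', EC' he'⟩ := by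
      rw [← map_mul, ← map_mul]; exact congrArg f (Subtype.ext (comm h he' he))
    simp only [map_mul, map_inv, (fk ⟨o', hle (mem_sup_right ho')⟩).2 ho', mul_one]
    calc _ = f ⟨e', EC' he'⟩ * (f g * f v * (f g)⁻¹) * (f ⟨e', EC' he'⟩)⁻¹ := by group
      _ = _ := by rw [← k, k5]; group
  · rw [← h.cV, ← card_subgroupOf_of_le (h.le.trans EC')]
    exact (Nat.card_congr (Equiv.ofBijective (f.subgroupMap _) ⟨fun a b e => Subtype.ext
      (fE2 _ _ (h.le a.2) (h.le b.2) (congrArg Subtype.val e)), f.subgroupMap_surjective _⟩)).symm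
  · exact map_NN_le f _ (mem_map_of_mem f (by
      rw [NN_subgroupOf (h.le.trans EC')]; exact nV' h c.hx.2))
  · rintro _ ⟨v, hv, rfl⟩ k1 k2
    rw [← map_inv, ← map_mul, ← map_mul] at k2
    exact c.nf v hv (fun e => k1 (by rw [show v = 1 from Subtype.ext e, map_one]))
      (congrArg Subtype.val (fE2 _ _ (h.le (nV h c.hx.2 hv)) (h.le hv) k2))

end H26.Top
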