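import Cfsg.Agent.H26.Top3

/-! Existence of the largest `E`-invariant odd order subgroup of `C(u)` for `u ∈ E \ V`. -/

set_option autoImplicit false
set_option linter.unusedSectionVars false

namespace H26.Top

open Subgroup H10 H2.KD
open H5 (oppOf)
open scoped commutatorElement

universe u
variable {G : Type u} [Group G] [Finite G] {E V : Subgroup G} {u x y : G} {p : ℕ}

theorem topI_cj {z n : G} {K : Subgroup G} (h : TopI E z K) (hn : n ∈ NN(E)) :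
    TopI E (n * z * n⁻¹) (cj n K) := by
  have k : ∀ {g : G} {Y : Subgroup G}, g ∈ NN(E) → E ≤ NN(Y) → E ≤ NN(cj g Y) := fun hg h => by
    rw [← cj_normalizer, ← cj_eq_of_mem_NN hg]; exact cj_mono _ h
  refine ⟨cj_centralizer_singleton n z ▸ cj_mono n h.1, by rw [card_cj]; exact h.2.1,
    k hn h.2.2.1, fun Y h1 h2 h3 => le_cj_iff.2 (h.2.2.2 _ ?_ (by rwa [card_cj]) (k (inv_mem hn) h3))⟩
  rwa [← le_cj_iff, cj_centralizer_singleton]

/-- the transitivity hypothesis -/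
def TR (E : Subgroup G) : Prop := ∀ p : ℕ, p.Prime → p ≠ 2 → ∀ X1 X2 : Subgroup G,
  MI p E ⊤ X1 → MI p E ⊤ X2 → ∃ n ∈ NN(E), cj n X1 = X2

theorem Dat.cl (c : Dat E V u x y) (htr : TR E) {T : Subgroup G}
    (hT : ∀ Y : Subgroup G, Y ≤ CC(E) → Odd (Nat.card Y) → Y ≤ T)
    (oK : Odd (Nat.card (OO u ⊔ T : Subgroup G))) (nK : E ≤ NN(OO u ⊔ T)) {w : G} (hw : w ∈ V)
    (w1 : w ≠ 1) {D : Subgroup G} (hD : D ≤ N3 u y w) (oD : Odd (Nat.card D)) (nD : E ≤ NN(D)) :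
    D ≤ MM V u := by
  have h := c.h
  by_contra hn
  obtain ⟨K, hK⟩ := h.h1 w hw w1
  obtain ⟨p, hp, p2, P, m, b⟩ := ex_mi h oD nD hn
  have := Fact.mk hp
  obtain ⟨P0, m0, hP0⟩ := mi_ext (m.1.trans hD) m.2.1 m.2.2.1
  have b0 : ¬ P0 ≤ MM V u := fun e => b (hP0.trans e)
  obtain ⟨P1, m1, -⟩ := mi_ext (p := p) (E := E) (N := K) bot_le IsPGroup.of_bot
    (le_top.trans NN_bot.ge)
  obtain ⟨X1, x1, l1⟩ := mi_ext le_top m1.2.1 m1.2.2.1
  obtain ⟨P2, m2, -⟩ := mi_ext (p := p) (E := E) (N := OO u ⊔ T) bot_le IsPGroup.of_bot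
    (le_top.trans NN_bot.ge)
  obtain ⟨X2, x2, l2⟩ := mi_ext le_top m2.2.1 m2.2.2.1
  obtain ⟨n, hn, e⟩ := htr p hp p2 X1 X2 x1 x2
  have hK' := topI_cj hK hn
  have hz := nV h hn hw
  have z1 : n * w * n⁻¹ ≠ 1 := fun e => w1 (by simpa using e)
  set z := n * w * n⁻¹
  obtain ⟨v, hv, v1, vz⟩ : ∃ v ∈ V, v ≠ 1 ∧ v ≠ z := by
    obtain ⟨a, ha, b, hb, a1, b1, ab⟩ := ex_v h
    by_cases az : a = z
    · exact ⟨b, hb, b1, az ▸ ab.symm⟩
    · exact ⟨a, ha, a1, az⟩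
  obtain ⟨t, t1, t2, t3, t4⟩ := h.h5 u c.hu c.huV v hv v1
  obtain ⟨t5, t6, t7⟩ := t4 y c.hy c.y1 c.y2
  have tv : ∀ a ∈ V, t * a * t⁻¹ = a := fun a ha => by rw [← t2 a ha, mul_inv_cancel_right]
  have ce : ∀ a ∈ V, CC(E) ≤ cj t (N3 u y a) := fun a ha => by
    rw [cj_N3]
    exact CE_N3 (conj_mem_of_mem_NN t1 c.hu) (conj_mem_of_mem_NN t1 c.hy)
      (conj_mem_of_mem_NN t1 (h.le ha))
  have f1 : MI p E (cj t (N3 u y z)) (X2 ⊓ cj t (N3 u y z)) :=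
    full h hK'.2.1 hK'.2.2.1 (ce z hz) (fun Y a1 a2 a3 => hK'.2.2.2 Y (by
      rw [cj_N3, tv z hz] at a1; exact a1.trans inf_le_right) (odd_of_p p2 a2) a3)
      (mi_cj m1 hn) x2.2.1 x2.2.2.1 (e ▸ cj_mono n l1)
  have f2 : MI p E (cj t (N3 u y v)) (X2 ⊓ cj t (N3 u y v)) := by
    refine full h oK nK (ce v hv) (fun Y a1 a2 a3 => ?_) m2 x2.2.1 x2.2.2.1 l2
    rw [cj_N3, tv v hv, t3] at a1
    have yC : Y ≤ centralizer {u} := fun d hd => mem_centralizer_singleton_iff.2 (by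
      have q1 := mem_centralizer_singleton_iff.1 (a1 hd).1.1
      have q2 := mem_centralizer_singleton_iff.1 (a1 hd).2
      rw [mul_assoc, ← q2, ← mul_assoc, ← mul_assoc] at q1
      exact mul_right_cancel q1)
    refine c.g1 hT (odd_of_p p2 a2) a3 yC fun d hd => mem_MM (yC hd) fun a ha => ?_
    have c1 : v ∈ cm u d := cm_of_comm (EC h c.hu (h.le hv)) (a1 hd).2
    have c2 : t * y * t⁻¹ * y ∈ cm u d := mul_mem
      (cm_of_comm (EC h c.hu (conj_mem_of_mem_NN t1 c.hy)) (a1 hd).1.2) (c.z d (yC hd))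
    rcases four h.cV (fun x hx => h.e2 x (h.le hx)) hv t5 v1 t6 t7.symm ha with e | e | e | e <;>
      rw [e]
    exacts [one_mem _, c1, c2, mul_mem c1 c2]
  have g1 := mi_cj f1 (inv_mem t1)
  have g2 := mi_cj f2 (inv_mem t1)
  rw [cj_inf t⁻¹ X2, cj_inv_cj] at g1 g2
  have x3 := mi_cj x2 (inv_mem t1)
  exact c.nfull p2 x3.2.1 x3.2.2.1 hv hz v1 z1 vz (c.bad p2 hw w1 m0 b0 hv v1 g2)
    (c.bad p2 hw w1 m0 b0 hz z1 g1)

theorem top (h : HD E V) (htr : TR E) (hu : u ∈ E) (huV : u ∉ V) : ∃ K, TopI E u K := by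
  obtain ⟨a, ha, b, hb, a1, b1, ab⟩ := ex_v h
  obtain ⟨K0, hK0⟩ := h.h1 a ha a1
  have hT : ∀ Y : Subgroup G, Y ≤ CC(E) → Odd (Nat.card Y) → Y ≤ K0 ⊓ CC(E) := fun Y h1 h2 =>
    le_inf (hK0.2.2.2 Y (h1.trans (CEC (h.le ha))) h2 ((le_CC_symm h1).trans (CC_le_NN Y))) h1
  set T := K0 ⊓ CC(E)
  have TC : T ≤ centralizer {u} := inf_le_right.trans (CEC hu)
  have oK : Odd (Nat.card (OO u ⊔ T : Subgroup G)) := by
    rw [sup_comm]; exact odd_sup (TC.trans (nO u)) (odd_of_le inf_le_left hK0.2.1) (odd_OO u)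
  have nK : E ≤ NN(OO u ⊔ T) := le_NN_sup ((EC h hu).trans (nO u))
    ((le_CC_symm inf_le_right).trans (CC_le_NN T))
  refine ⟨OO u ⊔ T, sup_le (H5.oppOf_le 2 _) TC, oK, nK, fun Y hC oY nY => ?_⟩
  have zz : ∀ e ∈ E, (∀ n ∈ centralizer {u} ⊓ NN(E), n * e * n⁻¹ = e) →
      ∀ d ∈ centralizer {u}, e ∈ cm u d := fun e he k d hd => ⟨EC h hu he, by
    rw [← commutatorElement_inv]; exact inv_mem (zs (h.h2 u hu huV) h.ec he k hd)⟩
  by_cases h1 : centralizer {u} ⊓ NN(E) ≤ CC(E)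
  · exact g0 h hT oY nY fun d hd e he => zz e he
      (fun n hn => by rw [← h1 hn e he, mul_inv_cancel_right]) d (hC hd)
  obtain ⟨x, hx, hxc⟩ := SetLike.not_le_iff_exists.1 h1
  obtain ⟨t, y, hy, y1, y2, y3⟩ := three h hu huV hx hxc
  have c : Dat E V u x y := ⟨h, hu, huV, hx, t, fun v hv v1 e => hxc (fix h hu huV hx hv v1 e), hy,
    y1, y2, y3 x hx, zz y hy y3⟩
  refine gen h oY nY fun B hB k => ?_
  have oD := odd_of_le (inf_le_left : Y ⊓ CC(B) ≤ Y) oY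
  have nD : E ≤ NN(Y ⊓ CC(B)) := le_NN_inf nY ((h.ec.trans (CC_anti hB)).trans (le_NN_self _))
  have q : ∀ s ∈ E, (∀ d ∈ centralizer {u}, s ∈ cm u d) → s ∉ B → Y ⊓ CC(B) ≤ OO u ⊔ T := by
    refine fun s hs s1 s2 => g0 h hT oD nD fun d hd e he => ?_
    have r : B ≤ cm u d := fun b hb => cm_of_comm (EC h hu (hB hb)) (CEC hb hd.2)
    by_cases eB : e ∈ B
    · exact r eB
    · exact (mul_mem_cancel_right (s1 d (hC hd.1))).1 (r (k s hs e he s2 eB))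
  by_cases uB : u ∈ B
  swap
  · exact q u hu (fun d hd => cm_of_comm (EC h hu hu) hd) uB
  by_cases yB : y ∈ B
  swap
  · exact q y hy c.z yB
  obtain ⟨w, hw, w1, wB⟩ : ∃ w ∈ V, w ≠ 1 ∧ w ∈ B := by
    by_cases aB : a ∈ B
    · exact ⟨a, ha, a1, aB⟩
    by_cases bB : b ∈ B
    · exact ⟨b, hb, b1, bB⟩
    exact ⟨b * a, V.mul_mem hb ha, fun e => ab (mul_left_cancel (e.trans (h.e2 b (h.le hb)).symm)),
      k a (h.le ha) b (h.le hb) aB bB⟩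
  exact c.g1 hT oD nD (inf_le_left.trans hC)
    (c.cl htr hT oK nK hw w1 (inf_le_right.trans (CE_N3 uB yB wB)) oD nD)

end H26.Top
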