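import Cfsg.Agent.H25.BW2

/-! Arithmetic for groups whose involution centralizer is an odd group extended by `GL(2, 3)`. -/

set_option autoImplicit false
set_option linter.unusedSectionVars false

namespace H26.Wg

open Cfsg H25 Subgroup Q48

theorem wg_final {x y k : ℤ} (x0 : x ≠ 0) (x1 : x + 1 ≠ 0) (y0 : y ≠ 0)
    (xy : x + y ≠ 0) (hk : x + 4 = 8 * k)
    (h : (1 + 16 / x - 9 / (x + 1) : ℚ) = 16 / x + 1 / y - 9 / (x + y)) :
    |x| ≤ 15 ∨ |y| ≤ 15 ∨ |x + y| ≤ 15 := by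
  have x0' : (x : ℚ) ≠ 0 := by exact_mod_cast x0
  have x1' : (x : ℚ) + 1 ≠ 0 := by exact_mod_cast x1
  have y0' : (y : ℚ) ≠ 0 := by exact_mod_cast y0
  have xy' : (x : ℚ) + y ≠ 0 := by exact_mod_cast xy
  have e3 : (y - 1) * (x ^ 2 + x + y * (x - 8)) = 0 := by
    have : ((y : ℚ) - 1) * (x ^ 2 + x + y * (x - 8)) = 0 := by
      have h' : (1 - 9 / (x + 1) : ℚ) = 1 / y - 9 / (x + y) := by linarith
      field_simp at h'
      linear_combination h'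
    exact_mod_cast this
  rcases mul_eq_zero.1 e3 with h | h
  · exact .inr (.inl (by rw [show y = 1 by linarith]; norm_num))
  have hd : (x - 8) ∣ 72 := ⟨-y - x - 9, by linear_combination h⟩
  have := Int.le_of_dvd (by norm_num) hd
  have := Int.le_of_dvd (by norm_num) hd.neg_left
  obtain rfl : x = 8 * k - 4 := by linarith
  have : -8 ≤ k := by linarith
  have : k ≤ 11 := by linarith
  simp only [abs_le]
  interval_cases k <;> first | (exfalso; revert hd; decide) | (clear hd; omega)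

theorem wg_core {ι : Type*} [Fintype ι] [DecidableEq ι] {m3 m4 a d : ι → ℤ} {k : ℤ}
    {o p q r s : ι} (d0 : ∀ i, 0 < d i) (od : d o = 1) (oa : a o = 1) (o3 : m3 o = 1)
    (op : o ≠ p) (oq : o ≠ q) (pq : p ≠ q) (pr : p ≠ r) (ps : p ≠ s) (rs : r ≠ s)
    (ro : r ≠ o) (so : s ≠ o)
    (z3 : ∀ i, i ∉ ({o, p, q} : Finset ι) → m3 i = 0)
    (z4 : ∀ i, i ∉ ({p, r, s} : Finset ι) → m4 i = 0) (e : m4 p = m3 p)
    (sp : m3 p ^ 2 = 1) (sq : m3 q ^ 2 = 1) (sr : m4 r ^ 2 = 1) (ss : m4 s ^ 2 = 1)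
    (ap : m3 p * a p = 4) (aq : m3 q * a q = 3) (ar : m4 r * a r = 1) (as : m4 s * a s = 3)
    (hk : d p + a p = 8 * k)
    (sd3 : ∑ i, m3 i * d i = 0) (sd4 : ∑ i, m4 i * d i = 0)
    (t : ∑ i, ((a i : ℚ) ^ 2 * m3 i) / d i = ∑ i, ((a i : ℚ) ^ 2 * m4 i) / d i) :
    ∃ i, i ≠ o ∧ (m3 i ≠ 0 ∨ m4 i ≠ 0) ∧ d i ≤ 15 := by
  have S3 : ∀ {M : Type} [AddCommMonoid M] (F : ι → M), ∑ i ∈ {o, p, q}, F i = F o + (F p + F q) :=
    fun F => by rw [Finset.sum_insert (by simp [op, oq]), Finset.sum_pair pq]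
  have S4 : ∀ {M : Type} [AddCommMonoid M] (F : ι → M), ∑ i ∈ {p, r, s}, F i = F p + (F r + F s) :=
    fun F => by rw [Finset.sum_insert (by simp [pr, ps]), Finset.sum_pair rs]
  rw [sum_supp (A := {o, p, q}) (fun i hi => by simp [z3 i hi]), S3] at sd3
  rw [sum_supp (A := {p, r, s}) (fun i hi => by simp [z4 i hi]), S4] at sd4
  rw [sum_supp (A := {o, p, q}) (fun i hi => by simp [z3 i hi]), S3,
    sum_supp (A := {p, r, s}) (fun i hi => by simp [z4 i hi]), S4] at t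
  rw [e, div_sgn sp, div_sgn sq, div_sgn sr, div_sgn ss, ap, aq, ar, as, oa, od, o3] at t
  rw [o3, od] at sd3
  rw [e] at sd4
  have ne : ∀ {ε : ℤ} (i : ι), ε ^ 2 = 1 → ε * d i ≠ 0 := fun i h =>
    mul_ne_zero (by rintro rfl; simp at h) (d0 i).ne'
  have e5 : m3 q * d q = -(m3 p * d p + 1) := by linarith
  have e7 : m4 s * d s = -(m3 p * d p + m4 r * d r) := by linarith
  have ab : ∀ {ε : ℤ} (i : ι), ε ^ 2 = 1 → |ε * d i| ≤ 15 → d i ≤ 15 := fun i h h' => by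
    rcases int_sq_one' h with rfl | rfl <;> rw [abs_le] at h' <;> omega
  have n0 : ∀ {ε : ℤ}, ε ^ 2 = 1 → ε ≠ 0 := fun h => by rintro rfl; simp at h
  rcases wg_final (x := m3 p * d p) (y := m4 r * d r) (k := m3 p * k) (ne p sp)
    (fun h => ne q sq (by rw [e5, h, neg_zero])) (ne r sr)
    (fun h => ne s ss (by rw [e7, h, neg_zero])) (by linear_combination m3 p * hk - ap)
    (by rw [e5, e7, Int.cast_neg, Int.cast_neg, div_neg, div_neg] at t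
        push_cast at t ⊢
        linear_combination t) with h | h | h
  · exact ⟨p, op.symm, .inl (n0 sp), ab p sp h⟩
  · exact ⟨r, ro, .inr (n0 sr), ab r sr h⟩
  · exact ⟨s, so, .inr (n0 ss), ab s ss (by rwa [e7, abs_neg])⟩

/-- The arithmetic of Brauer's theorem. -/
theorem wg_arith {ι : Type*} [Fintype ι] {m1 m2 m3 m4 m5 a d : ι → ℤ}
    {o : ι} (d0 : ∀ i, 0 < d i) (od : d o = 1)
    (o1 : m1 o = 0) (o2 : m2 o = 0) (o3 : m3 o = 1) (o4 : m4 o = 0) (o5 : m5 o = 1)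
    (ha : ∀ i, a i = 3 * (m3 i + m4 i) - 2 * m5 i + 2 * (m1 i + m2 i))
    (hk : ∀ i, m3 i ≠ 0 → ∃ k, d i + a i - 2 * (2 * m5 i - m3 i - m4 i) = 8 * k)
    (s11 : ∑ i, m1 i ^ 2 = 2) (s22 : ∑ i, m2 i ^ 2 = 2) (s33 : ∑ i, m3 i ^ 2 = 3)
    (s44 : ∑ i, m4 i ^ 2 = 3) (s55 : ∑ i, m5 i ^ 2 = 4) (s12 : ∑ i, m1 i * m2 i = 1)
    (s13 : ∑ i, m1 i * m3 i = 0) (s14 : ∑ i, m1 i * m4 i = 0) (s15 : ∑ i, m1 i * m5 i = 1)
    (s23 : ∑ i, m2 i * m3 i = 0) (s24 : ∑ i, m2 i * m4 i = 0) (s34 : ∑ i, m4 i * m3 i = 1)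
    (s35 : ∑ i, m5 i * m3 i = 2) (s45 : ∑ i, m5 i * m4 i = 2)
    (sd1 : ∑ i, m1 i * d i = 0) (sd2 : ∑ i, m2 i * d i = 0)
    (sd3 : ∑ i, m3 i * d i = 0) (sd4 : ∑ i, m4 i * d i = 0)
    (t : ∑ i, ((a i : ℚ) ^ 2 * m3 i) / d i = ∑ i, ((a i : ℚ) ^ 2 * m4 i) / d i) :
    ∃ i, i ≠ o ∧ (m3 i ≠ 0 ∨ m4 i ≠ 0) ∧ d i ≤ 15 := by
  classical
  obtain ⟨p, q, op, oq, pq, -, sp, sq, z3⟩ := exists_three_supp s33 (p := o) (by simp [o3])
  have b4 : ∀ i, m4 i ^ 2 ≤ 3 := fun i => s44 ▸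
    Finset.single_le_sum (f := fun j => m4 j ^ 2) (fun j _ => sq_nonneg _) (Finset.mem_univ i)
  have S3 : ∀ {p q : ι}, o ≠ p → o ≠ q → p ≠ q → (∀ i, i ∉ ({o, p, q} : Finset ι) → m3 i = 0) →
      ∀ F : ι → ℤ, ∑ i, F i * m3 i = F o + F p * m3 p + F q * m3 q := fun op oq pq z3 F => by
    rw [sum_supp (A := {o, _, _}) (fun i hi => by rw [z3 i hi, mul_zero]),
      Finset.sum_insert (by simp [op, oq]), Finset.sum_pair pq, o3, mul_one, add_assoc]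
  wlog hq : m4 q = 0 generalizing p q
  · refine this q p oq op pq.symm sq sp (fun i hi => z3 i (by rwa [Finset.pair_comm p q])) ?_
    have e := S3 op oq pq z3 m4
    have b : ∀ i, -2 < m4 i ∧ m4 i < 2 := fun i => ⟨by nlinarith [b4 i], by nlinarith [b4 i]⟩
    have := b p
    have := b q
    rw [s34, o4] at e
    rcases int_sq_one' sp with h | h <;> rcases int_sq_one' sq with h' | h' <;>
      rw [h, h'] at e <;> omega
  have S := S3 op oq pq z3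
  have e : m4 p = m3 p := by
    have := S m4
    rw [s34, o4, hq] at this
    linear_combination -m3 p * this - m4 p * sp
  obtain ⟨r, s, pr, ps, rs, -, sr, ss, z4⟩ := exists_three_supp s44 (p := p) (by
    rw [e]; rintro h; simp [h] at sp)
  have T : ∀ {r s : ι}, p ≠ r → p ≠ s → r ≠ s → (∀ i, i ∉ ({p, r, s} : Finset ι) → m4 i = 0) →
      ∀ F : ι → ℤ, ∑ i, F i * m4 i = F p * m3 p + F r * m4 r + F s * m4 s := fun pr ps rs z4 F => by
    rw [sum_supp (A := {p, _, _}) (fun i hi => by rw [z4 i hi, mul_zero]),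
      Finset.sum_insert (by simp [pr, ps]), Finset.sum_pair rs, e, add_assoc]
  have hd : 1 + m3 p * d p + m3 q * d q = 0 := by
    have := S d
    simp only [mul_comm (d _)] at this
    rw [← od, ← this, sd3]
  have u1 : m1 p * m3 p + m1 q * m3 q = 0 := by linarith [S m1]
  have u2 : m2 p * m3 p + m2 q * m3 q = 0 := by linarith [S m2]
  have p1 := bw_p pq s11 sd1 u1 sp sq hd
  have p2 := bw_p pq s22 sd2 u2 sp sq hd
  have v1 := (T pr ps rs z4 m1).symm.trans s14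
  have v2 := (T pr ps rs z4 m2).symm.trans s24
  obtain ⟨q1, r1, s1⟩ := bw_two pq rs o1 o2 s11 s12 sd1 u1 v1 p2 (by simpa [p2] using v2)
    sp sq sr ss hd p1
  obtain ⟨q2, r2, s2⟩ := bw_two pq rs o2 o1 s22 (by simpa only [mul_comm] using s12) sd2 u2 v2 p1
    (by simpa [p1] using v1) sp sq sr ss hd p2
  have nz : ∀ {i}, m4 i ^ 2 = 1 → i ≠ o ∧ i ≠ q := fun h =>
    ⟨by rintro rfl; simp [o4] at h, by rintro rfl; simp [hq] at h⟩
  have z3' : ∀ {i}, m4 i ^ 2 = 1 → p ≠ i → m3 i = 0 := fun h h' =>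
    z3 _ (by simp [(nz h).1, (nz h).2, h'.symm])
  have w5 : m5 p ^ 2 + m5 q ^ 2 + m5 r ^ 2 + m5 s ^ 2 ≤ 2 := by
    by_contra h
    have : ∑ i ∈ {o, p, q, r, s}, m5 i ^ 2 = 1 + (m5 p ^ 2 + (m5 q ^ 2 + (m5 r ^ 2 + m5 s ^ 2))) := by
      rw [Finset.sum_insert (by simp [op, oq, (nz sr).1.symm, (nz ss).1.symm]),
        Finset.sum_insert (by simp [pq, pr, ps]),
        Finset.sum_insert (by simp [(nz sr).2.symm, (nz ss).2.symm]), Finset.sum_pair rs, o5]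
      norm_num
    rw [Finset.sum_eq_zero fun i _ => by
      by_cases hi : i ∈ ({o, p, q, r, s} : Finset ι)
      · simp only [Finset.mem_insert, Finset.mem_singleton] at hi
        rcases hi with rfl | rfl | rfl | rfl | rfl <;> simp [*]
      · rw [sq_supp (m := m5) (by omega) hi, mul_zero]] at s15
    simp at s15
  have x3 := (S m5).symm.trans s35
  have x4 := (T pr ps rs z4 m5).symm.trans s45
  have sg : ∀ {x ε : ℤ}, ε ^ 2 = 1 → (x * ε) ^ 2 = x ^ 2 := fun h => by rw [mul_pow, h, mul_one]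
  have zz : ∀ {x ε : ℤ}, ε ^ 2 = 1 → x * ε = 0 → x = 0 := fun h h' =>
    (mul_eq_zero.1 h').resolve_right (by rintro rfl; simp at h)
  rw [← sg (x := m5 p) sp, ← sg (x := m5 q) sq, ← sg (x := m5 r) sr, ← sg (x := m5 s) ss] at w5
  rw [o5] at x3
  obtain ⟨P1, R⟩ := bw_four w5 x3 x4
  have Q0 : m5 q * m3 q = 0 := by linarith
  obtain ⟨k, kp⟩ : ∃ k, d p + a p = 8 * k := by
    obtain ⟨k, this⟩ := hk p (by rintro h; simp [h] at sp)
    refine ⟨k, ?_⟩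
    rw [e] at this
    have h : m5 p = m3 p := by linear_combination m3 p * P1 - m5 p * sp
    rw [h] at this
    linarith
  have oa : a o = 1 := by rw [ha, o1, o2, o3, o4, o5]; rfl
  have ap : m3 p * a p = 4 := by rw [ha, e, p1, p2]; linear_combination 6 * sp - 2 * P1
  have aq : m3 q * a q = 3 := by rw [ha, hq, q1, q2]; linear_combination 3 * sq - 2 * Q0
  have ar : m4 r * a r = 3 - 2 * (m5 r * m4 r) := by
    rw [ha, z3' sr pr, r1, r2]; linear_combination 3 * sr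
  have as : m4 s * a s = 3 - 2 * (m5 s * m4 s) := by
    rw [ha, z3' ss ps, s1, s2]; linear_combination 3 * ss
  rcases R with R | R
  · exact wg_core d0 od oa o3 op oq pq pr ps rs (nz sr).1 (nz ss).1 z3 z4 e sp sq
      sr ss ap aq (by linarith) (by linarith) kp sd3 sd4 t
  · exact wg_core d0 od oa o3 op oq pq ps pr rs.symm (nz ss).1 (nz sr).1 z3
      (fun i hi => z4 i (by rwa [Finset.pair_comm r s])) e sp sq
      ss sr ap aq (by linarith) (by linarith) kp sd3 sd4 t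

/-- A function on `GL(2, 3)` that behaves like a character taking equal values on all
involutions. -/
structure CF (F : Q48 → ℂ) : Prop where
  val : ∀ q, F q = F (r (cl q))
  int : ∀ (K : Type) [Group K] [Fintype K] (φ : K →* Q48) (l : K →* ℂ),
    ∃ m : ℕ, ∑ k, F (φ k) * l k = Fintype.card K * m

namespace CF

variable {F : Q48 → ℂ} (h : CF F)
include h

theorem cyc8 {g : Q48} (hg : g ^ 8 = 1) {ω : ℂ}
    (hω : ω ^ 8 = 1) : ∃ m : ℕ, ∑ i : Fin 8, F (g ^ i.1) * ω ^ i.1 = 8 * m := by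
  obtain ⟨m, hm⟩ := h.int _ (powHom8 hg) (powHom8 hω)
  rw [Fintype.card_multiplicative, ZMod.card] at hm
  exact ⟨m, hm⟩

theorem sub (p : Q48 → Prop) [DecidablePred p] (n : Fin 7 → ℕ) (N : ℕ)
    (hp : p 1 ∧ (∀ a, p a → p a⁻¹ ∧ ∀ b, p b → p (a * b)) ∧ (Finset.univ.filter p).card = N ∧
      ∀ c, (Finset.univ.filter fun q => p q ∧ cl q = c).card = n c) :
    ∃ m : ℕ, ∑ c, n c * F (r c) = N * m := by
  let K : Subgroup Q48 := ⟨⟨⟨{q | p q}, fun a b => (hp.2.1 _ a).2 _ b⟩, hp.1⟩, fun a => (hp.2.1 _ a).1⟩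
  let _ : Fintype K := Subtype.fintype p
  obtain ⟨m, hm⟩ := h.int K K.subtype 1
  refine ⟨m, ?_⟩
  rw [← hp.2.2.1, ← Fintype.card_subtype]
  refine Eq.trans ?_ hm
  simp only [MonoidHom.one_apply, mul_one, coe_subtype]
  rw [← Finset.sum_subtype (Finset.univ.filter p) (by simp [K]) (fun q => F q),
    ← Finset.sum_fiberwise _ cl]
  refine Finset.sum_congr rfl fun c _ => ?_
  rw [Finset.filter_filter, ← hp.2.2.2 c, ← nsmul_eq_mul, ← Finset.sum_const]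
  exact Finset.sum_congr rfl fun q hq => by rw [h.val q, (Finset.mem_filter.1 hq).2.2]

theorem mult {ζ : ℂ} (hζ : ζ ^ 4 = -1) : ∃ m1 m2 m3 m4 m5 k : ℤ,
    (m1 : ℂ) = ∑ c, ![0, 1/12, 1/4, 0, -1/3, (ζ + ζ ^ 3) / 8, -(ζ + ζ ^ 3) / 8] c *
      F (r c) ∧
    (m2 : ℂ) = ∑ c, ![0, 1/12, 1/4, 0, -1/3, -(ζ + ζ ^ 3) / 8, (ζ + ζ ^ 3) / 8] c *
      F (r c) ∧
    (m3 : ℂ) = ∑ c, ![0, 1/6, 0, 0, 1/3, 1/4, 1/4] c * F (r c) ∧
    (m4 : ℂ) = ∑ c, ![0, 1/6, 0, 0, 1/3, -1/4, -1/4] c * F (r c) ∧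
    (m5 : ℂ) = ∑ c, ![0, 1/6, 1/2, 0, 1/3, 0, 0] c * F (r c) ∧
    (8 * k : ℂ) = ∑ c, ![1, 1, -2, 0, 0, 0, 0] c * F (r c) := by
  obtain ⟨T, hT⟩ := h.sub (fun _ => True) ![1, 13, 6, 8, 8, 6, 6] 48 (by decide +kernel)
  obtain ⟨S, hS⟩ := h.sub (fun q => q.dt = 1) ![1, 1, 6, 8, 8, 0, 0] 24 (by decide +kernel)
  obtain ⟨W, hW⟩ := h.sub (fun q => (q.d = q.a ∧ q.c = -q.b) ∨ (q.d = -q.a ∧ q.c = q.b))
    ![1, 5, 6, 0, 0, 2, 2] 16 (by decide +kernel)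
  obtain ⟨X, hX⟩ := h.sub (fun q => q.c = 0) ![1, 7, 0, 2, 2, 0, 0] 12 (by decide +kernel)
  obtain ⟨Y, hY⟩ := h.sub (fun q => q.c = 0 ∧ q.a = q.d) ![1, 1, 0, 2, 2, 0, 0] 6
    (by decide +kernel)
  obtain ⟨Z, hZ⟩ := h.sub (fun q => q.c = 0 ∧ q.a = 1) ![1, 3, 0, 2, 0, 0, 0] 6
    (by decide +kernel)
  have c8 : ∀ {ω : ℂ}, ω ^ 8 = 1 → ∃ m : ℕ,
      F (r 0) + F (r 5) * (ω + ω ^ 3) +
        F (r 2) * (ω ^ 2 + ω ^ 6) + F (r 1) * ω ^ 4 +
        F (r 6) * (ω ^ 5 + ω ^ 7) = 8 * m :=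
    fun {ω} hω => by
      obtain ⟨m, hm⟩ := h.cyc8 (g := u) (by decide +kernel) hω
      refine ⟨m, ?_⟩
      simp only [h.val (u ^ _),
        (by decide +kernel : ∀ i : Fin 8, cl (u ^ i.1) = ![0, 5, 2, 5, 1, 6, 2, 6] i),
        Fin.sum_univ_eight, Matrix.cons_val] at hm
      norm_num at hm
      linear_combination hm
  obtain ⟨n1, h1⟩ := c8 (ω := ζ) (by linear_combination (ζ ^ 4 - 1) * hζ)
  obtain ⟨n5, h5⟩ := c8 (ω := -ζ) (by linear_combination (ζ ^ 4 - 1) * hζ)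
  obtain ⟨n2, h2⟩ := c8 (ω := ζ ^ 2)
    (by linear_combination (ζ ^ 12 - ζ ^ 8 + ζ ^ 4 - 1) * hζ)
  refine ⟨W - T - n5 + (Z - X), W - T - n1 + (Z - X), T + (Y - X) - (S - T) - (Z - X),
    S - T + X - T - (Z - X), S - T + W - T - (Z - X) + T, n2, ?_⟩
  simp only [Fin.sum_univ_seven, Matrix.cons_val] at hT hS hW hX hY hZ ⊢
  push_cast at hT hS hW hX hY hZ ⊢
  generalize F (r 0) = D, F (r 1) = A, F (r 2) = B,
    F (r 3) = F, F (r 4) = C, F (r 5) = e,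
    F (r 6) = e' at *
  refine ⟨?_, ?_, ?_, ?_, ?_, ?_⟩
  · linear_combination hT / 48 - hW / 16 + h5 / 8 - hZ / 6 + hX / 12 -
      (A - e' * ζ + B * ζ ^ 2 - e' * ζ ^ 3) / 8 * hζ
  · linear_combination hT / 48 - hW / 16 + h1 / 8 - hZ / 6 + hX / 12 -
      (A + e' * ζ + B * ζ ^ 2 + e' * ζ ^ 3) / 8 * hζ
  · linear_combination -hT / 24 - hY / 6 + hS / 24 + hZ / 6
  · linear_combination hT / 24 - hS / 24 - hX / 6 + hZ / 6
  · linear_combination hT / 48 - hS / 24 - hW / 16 + hZ / 6 - hX / 12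
  · linear_combination -h2 + (e * ζ ^ 2 + B + A * (ζ ^ 4 - 1) + e' * ζ ^ 10 +
      B * (ζ ^ 8 - ζ ^ 4 + 1)) * hζ

end CF

end H26.Wg
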