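import Cfsg.Agent.H26.Wg1
import Cfsg.Agent.H19.Cm
import Cfsg.Agent.H19.BrChar
import Cfsg.Agent.H6.Count

/-! An involution centralizer that is an odd group extended by `GL(2, 3)`: the odd core is
trivial in a simple group. -/

set_option autoImplicit false
set_option linter.unusedSectionVars false

namespace H26.Wg

open Cfsg H17 H19 H25 Subgroup Q48

theorem sum_coset_ker {C Q : Type*} [Group C] [Fintype C] [Group Q] [DecidableEq Q] (φ : C →* Q)
    {θ : C → ℂ} (hθ : IsClassFunction C θ) (u : C) :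
    ∑ g with φ g = φ u, θ g =
      Nat.card φ.ker * blockPart {χ : IrrCharacter C | φ.ker ≤ charKer (χ : C → ℂ)} θ u := by
  classical
  have e : ∀ F : C → ℂ, ∑ g with φ g = φ u, F g = ∑ n : φ.ker, F (n * u) := fun F => by
    symm
    refine Finset.sum_bij (fun n _ => n * u) (fun n _ => by simp [MonoidHom.mem_ker.1 n.2])
      (fun a _ b _ h => by simpa using h)
      (fun g hg => ⟨⟨g * u⁻¹, by simp [MonoidHom.mem_ker, (Finset.mem_filter.1 hg).2]⟩, by simp,
        by simp⟩) fun _ _ => rfl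
  rw [e, Finset.sum_congr rfl fun g _ => hθ.apply_eq_sum _, Finset.sum_comm, blockPart_eq_sum,
    Finset.sum_filter, Finset.mul_sum]
  refine Finset.sum_congr rfl fun χ _ => ?_
  rw [← Finset.mul_sum]
  split_ifs with hχ
  · rw [Finset.sum_congr rfl fun n _ => mem_charKer_def.1 (hχ n.2) u, Finset.sum_const,
      nsmul_eq_mul, Finset.card_univ, Nat.card_eq_fintype_card]
    ring
  · rw [sum_mul_eq_zero_of_not_le hχ, mul_zero, mul_zero]

theorem card_fiber {C Q : Type*} [Group C] [Fintype C] [Group Q] [DecidableEq Q] (φ : C →* Q)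
    (hφ : Function.Surjective φ) (q : Q) :
    (Finset.univ.filter fun g => φ g = q).card = Nat.card φ.ker := by
  classical
  obtain ⟨u, rfl⟩ := hφ q
  rw [Nat.card_eq_fintype_card, ← Finset.card_univ]
  symm
  exact Finset.card_bij (fun n _ => n * u) (fun n _ => by simp [MonoidHom.mem_ker.1 n.2])
      (fun a _ b _ h => by simpa using h)
      (fun g hg => ⟨⟨g * u⁻¹, by simp [MonoidHom.mem_ker, (Finset.mem_filter.1 hg).2]⟩, by simp,
        by simp⟩)

/-- The quaternion subgroup of `GL(2, 3)`. -/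
def q8 : Subgroup Q48 where
  carrier := {q | q.dt = 1 ∧ q ^ 4 = 1}
  mul_mem' := by
    have : ∀ a b : Q48, (a.dt = 1 ∧ a ^ 4 = 1) → (b.dt = 1 ∧ b ^ 4 = 1) →
      ((a * b).dt = 1 ∧ (a * b) ^ 4 = 1) := by decide +kernel
    exact fun {a b} => this a b
  one_mem' := by decide +kernel
  inv_mem' := by
    have : ∀ a : Q48, (a.dt = 1 ∧ a ^ 4 = 1) → (a⁻¹.dt = 1 ∧ a⁻¹ ^ 4 = 1) := by decide +kernel
    exact fun {a} => this a

theorem mem_q8 {q : Q48} : q ∈ q8 ↔ q.dt = 1 ∧ q ^ 4 = 1 := Iff.rfl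

theorem irr_B0_q48 (O : ValuationSubring ℂ) [CharP (kk O) 2] : irr (B0 O Q48) = Set.univ := by
  have : q8.Normal := ⟨by
    have : ∀ a g : Q48, (a.dt = 1 ∧ a ^ 4 = 1) →
      ((g * a * g⁻¹).dt = 1 ∧ (g * a * g⁻¹) ^ 4 = 1) := by decide +kernel
    exact fun a ha g => this a g ha⟩
  have := subsingleton_blk_of_cent (p := 2) O (P := q8)
    (fun a => ⟨2, Subtype.ext a.2.2⟩) (fun a => ⟨1, Subtype.ext (by
      have : ∀ a : Q48, (∀ b : Q48, (b.dt = 1 ∧ b ^ 4 = 1) → b * a = a * b) → a ^ 2 = 1 := by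
        decide +kernel
      exact this a fun b hb => a.2 b hb)⟩)
  exact Set.eq_univ_of_forall fun χ => Subsingleton.elim _ _

variable {G : Type*} [Group G] [Finite G]

/-- The centralizer of the involution `t` maps onto `GL(2, 3)` with kernel of odd order and the
preimages of reflections are conjugate to `t`. -/
structure WS (t : G) (π : centralizer ({t} : Set G) →* Q48) : Prop where
  ord : orderOf t = 2
  surj : Function.Surjective π
  odd : ¬ 2 ∣ Nat.card π.ker
  refl : ∀ x, π x * π x = 1 → π x ≠ 1 → π x ≠ z → IsConj t x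

/-- An element inside its centralizer. -/
def tt (t : G) : centralizer ({t} : Set G) := ⟨t, mem_centralizer_singleton_iff.2 rfl⟩

theorem comm_tt {t : G} (x : centralizer ({t} : Set G)) : x * tt t = tt t * x :=
  Subtype.ext (mem_centralizer_singleton_iff.1 x.2)

/-- The average of a function over a fibre. -/
noncomputable def av {t : G} (π : centralizer ({t} : Set G) →* Q48) (θ : G → ℂ) (q : Q48) : ℂ :=
  haveI := Fintype.ofFinite (centralizer ({t} : Set G))
  (Nat.card π.ker : ℂ)⁻¹ * ∑ x with π x = q, θ x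

theorem av_def {t : G} (π : centralizer ({t} : Set G) →* Q48) (θ : G → ℂ) (q : Q48)
    [Fintype (centralizer ({t} : Set G))] :
    av π θ q = (Nat.card π.ker : ℂ)⁻¹ * ∑ x with π x = q, θ x := by
  unfold av
  convert rfl

theorem col_count [Fintype G] [DecidableEq G] (x y : G) :
    ∑ χ : IrrCharacter G, (χ : G → ℂ) x * (χ : G → ℂ) y =
      ((Finset.univ.filter fun g : G => g * y⁻¹ * g⁻¹ = x).card : ℂ) := by
  classical
  have e : ∀ χ : IrrCharacter G, (χ : G → ℂ) y = starRingEnd ℂ ((χ : G → ℂ) y⁻¹) := fun χ => by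
    rw [irr_conj, inv_inv]
  simp only [e, column_orthogonality]
  split_ifs with hc
  · obtain ⟨c, hc⟩ := isConj_iff.1 hc.symm
    rw [Nat.card_eq_fintype_card, ← Finset.card_univ]
    congr 1
    refine Finset.card_bij (fun a _ => a * c) (fun a _ => ?_) (fun a _ b _ e => by simpa using e)
      fun g hg => ⟨⟨g * c⁻¹, mem_centralizer_singleton_iff.2 ?_⟩, by simp, by simp⟩
    · have := mem_centralizer_singleton_iff.1 a.2
      simp only [Finset.mem_filter, Finset.mem_univ, true_and]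
      rw [show (a : G) * c * y⁻¹ * ((a : G) * c)⁻¹ = a * (c * y⁻¹ * c⁻¹) * (a : G)⁻¹ by group, hc,
        this, mul_inv_cancel_right]
    · have := (Finset.mem_filter.1 hg).2
      conv_lhs => rw [← hc]
      conv_rhs => rw [← this]
      group
  · rw [Finset.filter_eq_empty_iff.2 fun g _ e => hc (isConj_iff.2 ⟨g, e⟩).symm]
    simp

namespace WS

variable {t : G} {π : centralizer ({t} : Set G) →* Q48} (h : WS t π)
include h

theorem tt2 : tt t * tt t = 1 := Subtype.ext (by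
  have := pow_orderOf_eq_one t
  rwa [h.ord, sq] at this)

theorem eq_one {x : centralizer ({t} : Set G)} (hx : IsPElt 2 (x : G)) (h1 : π x = 1) : x = 1 := by
  refine Subtype.ext (hx.eq_one fun hd => h.odd (hd.trans ?_))
  rw [orderOf_coe]
  exact orderOf_dvd_natCard π.ker h1

theorem pt : π (tt t) = z := by
  refine eq_z _ (by rw [← map_mul, h.tt2, map_one]) (fun e => ?_) fun g => ?_
  · have := congrArg Subtype.val (h.eq_one (x := tt t) ⟨1, h.ord⟩ e)
    have h2 := h.ord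
    rw [show t = 1 from this, orderOf_one] at h2
    omega
  · obtain ⟨g, rfl⟩ := h.surj g
    rw [← map_mul, comm_tt, map_mul]

theorem mem_zp {x : centralizer ({t} : Set G)} {k : ℕ} (hx : π x ^ k = z) :
    t ∈ zpowers (x : G) := by
  have h1 : x ^ k * tt t ∈ π.ker := by
    rw [MonoidHom.mem_ker, map_mul, map_pow, hx, h.pt]; decide +kernel
  have h2 : (x ^ k * tt t) ^ Nat.card π.ker = 1 :=
    congrArg Subtype.val (pow_card_eq_one' (G := π.ker) (x := ⟨_, h1⟩))
  obtain ⟨m, hm⟩ := Nat.odd_iff.2 (Nat.two_dvd_ne_zero.1 h.odd)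
  have h3 : tt t ^ Nat.card π.ker = tt t := by
    rw [hm, pow_succ, pow_mul, sq, h.tt2, one_pow, one_mul]
  rw [Commute.mul_pow (a := x ^ k) (b := tt t) (comm_tt _), h3] at h2
  have h4 : tt t = (x ^ k) ^ Nat.card π.ker := by
    rw [eq_inv_of_mul_eq_one_left h2, eq_comm, inv_eq_iff_mul_eq_one, h.tt2]
  have : t = ((x : G) ^ k) ^ Nat.card π.ker := congrArg Subtype.val h4
  have h5 := pow_mem (pow_mem (mem_zpowers (x : G)) k) (Nat.card π.ker)
  rwa [← this] at h5

omit h in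
theorem cent_le {w : G} (hw : t ∈ zpowers w) : centralizer {w} ≤ centralizer {t} := fun g hg => by
  obtain ⟨k, rfl⟩ := hw
  exact mem_centralizer_singleton_iff.2
    (Commute.zpow_right (mem_centralizer_singleton_iff.1 hg) k).eq

theorem conj_mem {x x' g : G} (hx : t ∈ zpowers x) (hx' : t ∈ zpowers x')
    (e : g * x' * g⁻¹ = x) : g ∈ centralizer {t} := by
  have : g * t * g⁻¹ = t := H6.ord2_unique_zpowers (a := x) (by
    obtain ⟨k, hk⟩ := hx'
    exact ⟨k, by rw [← hk, ← e]; exact conj_zpow⟩) hx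
    (by rw [← h.ord]; exact (MulAut.conj g).orderOf_eq t) h.ord
  exact mem_centralizer_singleton_iff.2 (mul_inv_eq_iff_eq_mul.1 this)

theorem mem_pp {x : G} (hx : t ∈ zpowers x) : t ∈ zpowers (ppart 2 x) := by
  obtain ⟨k, hk⟩ := hx
  have e : t = ppart 2 x ^ k * rpart 2 x ^ k := by
    rw [← (commute_ppart_rpart x).mul_zpow, ppart_mul_rpart]; exact hk.symm
  have h1 : ppart 2 t = t := ppart_eq (isPPart_self ⟨1, h.ord⟩)
  have h2 : ppart 2 (ppart 2 x ^ k * rpart 2 x ^ k) = ppart 2 x ^ k :=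
    ppart_mul (isPElt_of_mem (ppart_isPElt x).isPGroup_zpowers (zpow_mem (mem_zpowers _) k))
      (preg_of_dvd (rpart_reg x) (orderOf_dvd_of_mem_zpowers (zpow_mem (mem_zpowers _) k)))
      ((commute_ppart_rpart x).zpow_zpow k k)
  rw [← e, h1] at h2
  exact ⟨k, h2.symm⟩

theorem c0 : (Nat.card π.ker : ℂ) ≠ 0 := card_ne_zero_complex

variable {O : ValuationSubring ℂ} [CharP (kk O) 2]

theorem irr_B0 : irr (B0 O (centralizer ({t} : Set G))) =
    {χ : IrrCharacter (centralizer ({t} : Set G)) |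
      π.ker ≤ charKer (χ : centralizer ({t} : Set G) → ℂ)} := by
  ext χ
  refine ⟨le_charKer_of_B0 h.odd, fun e => ?_⟩
  obtain ⟨ψ, rfl⟩ := exists_infl π h.surj e
  rw [irr_B0_of_coprime π h.surj h.odd, irr_B0_q48]
  exact ⟨ψ, trivial, rfl⟩

theorem bp_zero (χ : IrrCharacter G) {b : Blk O (centralizer ({t} : Set G))}
    (hb : ¬ Induces _ b (lam O χ)) {x : centralizer ({t} : Set G)} (hx : t ∈ zpowers (x : G)) :
    blockPart (irr b) (fun c : centralizer ({t} : Set G) => (χ : G → ℂ) c) x = 0 := by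
  obtain ⟨β, hβ⟩ := exists_induces_centralizer (p := 2) ⟨1, h.ord⟩ b
  have := hβ.second_main (p := 2) (χ := χ) (fun e => hb (mem_irr.1 e ▸ hβ)) (h := x)
    (isPPart_ppart _) (cent_le (h.mem_pp hx))
  rw [blockPart_apply_eq_ev, ZZ_comm (fB_mem_ZZ _)]
  · rw [← ev_embH _ (χ : G → ℂ), map_mul (embH _), embH_single]
    exact this
  · intro g c
    exact irr_class χ g c

theorem av_eq_bp {θ : G → ℂ} (hθ : IsClassFunction G θ) (x : centralizer ({t} : Set G)) :
    av π θ (π x) = blockPart (irr (B0 O (centralizer ({t} : Set G))))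
      (fun c : centralizer ({t} : Set G) => θ c) x := by
  classical
  have := Fintype.ofFinite G
  have e := sum_coset_ker π (θ := fun c : centralizer ({t} : Set G) => θ c)
    (fun g c => hθ g c) x
  rw [h.irr_B0, av_def, inv_mul_eq_iff_eq_mul₀ h.c0, ← e]

theorem av_B0 {χ : IrrCharacter G} (hχ : χ ∈ irr (B0 O G)) {x : centralizer ({t} : Set G)}
    (hx : t ∈ zpowers (x : G)) : av π χ (π x) = (χ : G → ℂ) x := by
  classical
  have e := congrFun (sum_blockPart (O := O)
    (fun c : centralizer ({t} : Set G) => (χ : G → ℂ) c) (fun g c => irr_class χ g c)) x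
  rw [h.av_eq_bp (O := O) (irr_class χ), ← e, Finset.sum_apply, Finset.sum_eq_single (B0 O _)
    (fun b _ hb => h.bp_zero χ (fun e => hb ?_) hx) (by simp)]
  rw [mem_irr.1 hχ] at e
  exact (induces_B0_iff (p := 2) ⟨1, h.ord⟩ b).1 e

theorem av_zero {χ : IrrCharacter G} (hχ : χ ∉ irr (B0 O G)) {x : centralizer ({t} : Set G)}
    (hx : t ∈ zpowers (x : G)) : av π χ (π x) = 0 := by
  rw [h.av_eq_bp (O := O) (irr_class χ)]
  exact h.bp_zero χ (fun e => hχ (mem_irr.2
    (e.unique ((induces_B0_iff (p := 2) ⟨1, h.ord⟩ _).2 rfl)))) hx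

theorem av_const {θ : G → ℂ} {q : Q48} {c : ℂ}
    (e : ∀ x : centralizer ({t} : Set G), π x = q → θ x = c) : av π θ q = c := by
  classical
  have := Fintype.ofFinite G
  rw [av_def, inv_mul_eq_iff_eq_mul₀ h.c0, ← card_fiber π h.surj q, ← nsmul_eq_mul,
    ← Finset.sum_const]
  exact Finset.sum_congr rfl fun x hx => e x (Finset.mem_filter.1 hx).2

theorem av_conj {θ : G → ℂ} (hθ : IsClassFunction G θ) (q g : Q48) :
    av π θ (g * q * g⁻¹) = av π θ q := by
  obtain ⟨O, _⟩ := exists_val 2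
  obtain ⟨q, rfl⟩ := h.surj q
  obtain ⟨g, rfl⟩ := h.surj g
  rw [← map_inv, ← map_mul, ← map_mul, h.av_eq_bp (O := O) hθ, h.av_eq_bp (O := O) hθ]
  exact blockPart_isClassFunction _ _ _ _

theorem av_refl {θ : G → ℂ} (hθ : IsClassFunction G θ) {q : Q48} (h2 : q * q = 1) (h1 : q ≠ 1)
    (hz : q ≠ z) : av π θ q = θ t :=
  h.av_const fun x hx => classFun_isConj hθ (h.refl x (hx ▸ h2) (hx ▸ h1) (hx ▸ hz))

theorem av_z {χ : IrrCharacter G} (hχ : χ ∈ irr (B0 O G)) : av π χ z = (χ : G → ℂ) t := by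
  rw [← h.pt]; exact h.av_B0 hχ (mem_zpowers _)

theorem av_int {θ : G → ℂ} (hθ : IsCharacter G θ) (K : Type*) [Group K] [Fintype K]
    (φ : K →* Q48) (l : K →* ℂ) : ∃ m : ℕ, ∑ k, av π θ (φ k) * l k = Fintype.card K * m := by
  classical
  have := Fintype.ofFinite G
  let L : Subgroup (K × centralizer ({t} : Set G)) :=
    (φ.comp (MonoidHom.fst _ _)).eqLocus (π.comp (MonoidHom.snd _ _))
  obtain ⟨m, hm⟩ := sum_hom_nat (K := L)
    ((centralizer ({t} : Set G)).subtype.comp ((MonoidHom.snd _ _).comp L.subtype)) hθ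
    (l.comp ((MonoidHom.fst _ _).comp L.subtype))
  have e : ∀ F : K × centralizer ({t} : Set G) → ℂ,
      ∑ p : L, F p = ∑ k, ∑ x with π x = φ k, F (k, x) := fun F => by
    rw [← Finset.sum_subtype (Finset.univ.filter fun p : K × centralizer ({t} : Set G) =>
      π p.2 = φ p.1) (fun p => by
        rw [Finset.mem_filter]; exact ⟨fun e => e.2.symm, fun e => ⟨Finset.mem_univ _, e.symm⟩⟩) F, Finset.sum_filter,
      Fintype.sum_prod_type]
    simp only [Finset.sum_filter]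
  have c : (Fintype.card L : ℂ) = Fintype.card K * Nat.card π.ker := by
    have := e fun _ => 1
    simpa [card_fiber π h.surj] using this
  refine ⟨m, ?_⟩
  have e2 := e fun p => θ p.2 * l p.1
  simp only [MonoidHom.comp_apply, coe_subtype, MonoidHom.coe_fst, MonoidHom.coe_snd] at hm
  rw [e2, c] at hm
  apply mul_left_cancel₀ h.c0
  rw [Finset.mul_sum, ← mul_assoc, mul_comm (Nat.card π.ker : ℂ) (Fintype.card K), ← hm]
  refine Finset.sum_congr rfl fun k _ => ?_
  rw [av_def, ← mul_assoc, mul_inv_cancel_left₀ h.c0, Finset.sum_mul]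

theorem cf {χ : IrrCharacter G} (hχ : χ ∈ irr (B0 O G)) : CF (av π χ) where
  val q := by
    obtain ⟨g, e | ⟨e, e'⟩⟩ := cl_conj q
    · conv_lhs => rw [← e]
      exact h.av_conj (irr_class χ) _ _
    · rw [e, ← e', h.av_conj (irr_class χ), show r 1 = z from rfl, h.av_z hχ]
      exact h.av_refl (irr_class χ) (by decide +kernel) (by decide +kernel) (by decide +kernel)
  int K _ _ φ l := h.av_int χ.2.isCharacter K φ l

theorem deg {χ : IrrCharacter G} (hχ : χ ∈ irr (B0 O G)) :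
    ∃ j : ℤ, (χ : G → ℂ) 1 = av π χ 1 + 16 * j := by
  classical
  have := Fintype.ofFinite G
  obtain ⟨P⟩ : Nonempty (Sylow 2 (centralizer ({t} : Set G))) := inferInstance
  have cP : Nat.card P = 16 := by
    have e := π.ker.card_mul_index
    rw [index_ker, π.range_eq_top_of_surjective h.surj, card_top, Nat.card_eq_fintype_card (α := Q48),
      card_eq] at e
    rw [P.card_eq_multiplicity, ← e, Nat.factorization_mul Nat.card_pos.ne' (by norm_num),
      Finsupp.add_apply, Nat.factorization_eq_zero_of_not_dvd h.odd,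
      show Nat.factorization 48 2 = 4 by decide +kernel]
    norm_num
  obtain ⟨m, hm⟩ := sum_hom_nat ((centralizer ({t} : Set G)).subtype.comp P.1.subtype)
    χ.2.isCharacter 1
  obtain ⟨m', hm'⟩ := h.av_int χ.2.isCharacter P (π.comp P.1.subtype) 1
  simp only [MonoidHom.one_apply, mul_one, MonoidHom.comp_apply, coe_subtype,
    ← Nat.card_eq_fintype_card, cP] at hm hm'
  rw [← Finset.add_sum_erase _ _ (Finset.mem_univ 1)] at hm hm'
  rw [Finset.sum_congr rfl (g := fun k : P => av π χ (π k)) fun k hk => ?_] at hm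
  · refine ⟨m - m', ?_⟩
    simp only [OneMemClass.coe_one, map_one] at hm hm'
    push_cast at hm hm' ⊢
    linear_combination hm - hm'
  have k16 : π k ^ 16 = 1 := by
    have : k ^ 16 = 1 := cP ▸ pow_card_eq_one' (G := P.1) (x := k)
    rw [← map_pow, ← SubgroupClass.coe_pow, this, OneMemClass.coe_one, map_one]
  rcases (by decide +kernel : ∀ q : Q48, q ^ 16 = 1 → q = 1 ∨ (∃ n < 5, q ^ n = z) ∨
    (q * q = 1 ∧ q ≠ 1 ∧ q ≠ z)) _ k16 with e | ⟨n, -, e⟩ | ⟨e, e1, ez⟩
  · refine absurd (Subtype.ext (h.eq_one ?_ e)) (Finset.ne_of_mem_erase hk)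
    exact isPElt_of_mem (P.2.map (centralizer ({t} : Set G)).subtype) ⟨k, k.2, rfl⟩
  · exact (h.av_B0 hχ (h.mem_zp e)).symm
  · rw [h.av_refl (irr_class χ) e e1 ez]
    exact classFun_isConj (irr_class χ) (h.refl _ e e1 ez)

theorem ker_le {χ : IrrCharacter G} (hχ : χ ∈ irr (B0 O G)) (hd : iv χ 1 ≤ 15)
    {y : centralizer ({t} : Set G)} (hy : π y = 1) : (y : G) ∈ charKer (χ : G → ℂ) := by
  classical
  have := Fintype.ofFinite G
  obtain ⟨j, hj⟩ := h.deg hχ
  obtain ⟨m, hm⟩ := h.av_int χ.2.isCharacter Unit 1 1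
  simp only [MonoidHom.one_apply, mul_one, Finset.univ_unique, Finset.sum_singleton,
    Fintype.card_unique, Nat.cast_one, one_mul] at hm
  rw [hm, ← ratE_one.cast] at hj
  have hj' : iv χ 1 = m + 16 * j := by exact_mod_cast hj
  rw [av_def, inv_mul_eq_iff_eq_mul₀ h.c0] at hm
  have e := congrArg Complex.re hm
  rw [Complex.re_sum, ← card_fiber π h.surj 1] at e
  have d1 : ((χ : G → ℂ) 1).re = iv χ 1 := by rw [← ratE_one.cast]; simp
  have le : ∀ x ∈ (Finset.univ.filter fun x : centralizer ({t} : Set G) => π x = 1),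
      ((χ : G → ℂ) x).re ≤ ((χ : G → ℂ) 1).re := fun x _ => χ.2.isCharacter.re_le _
  have pos : (0 : ℝ) < (Finset.univ.filter fun x : centralizer ({t} : Set G) => π x = 1).card :=
    Nat.cast_pos.2 (Finset.card_pos.2 ⟨1, by simp⟩)
  simp only [Complex.mul_re, Complex.natCast_re, Complex.natCast_im, mul_zero, sub_zero] at e
  have s1 := Finset.sum_le_sum le
  rw [Finset.sum_const, nsmul_eq_mul, d1] at s1
  have m1 : (m : ℤ) ≤ iv χ 1 := by
    have : (m : ℝ) ≤ iv χ 1 := le_of_mul_le_mul_left (e ▸ s1) pos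
    exact_mod_cast this
  have m2 : iv χ 1 = m := by omega
  refine χ.2.mem_charKer.2 (χ.2.isCharacter.eq_of_re_eq ?_)
  refine ((Finset.sum_eq_sum_iff_of_le le).1 ?_ y (by simpa using hy)).ge
  rw [Finset.sum_const, nsmul_eq_mul, d1, m2]
  exact e

theorem col {q q' : Q48} {k k' : ℕ} (e : q ^ k = z) (e' : q' ^ k' = z) :
    ∑ χ : IrrCharacter G, av π χ q * av π χ q' =
      ((Finset.univ.filter fun p : Q48 => p * q'⁻¹ * p⁻¹ = q).card : ℂ) := by
  classical
  have := Fintype.ofFinite G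
  have k1 : ∀ x' : centralizer ({t} : Set G), π x' = q' →
      ∑ x with π x = q, ∑ χ : IrrCharacter G, (χ : G → ℂ) x * (χ : G → ℂ) x' =
      Nat.card π.ker * (Finset.univ.filter fun p : Q48 => p * q'⁻¹ * p⁻¹ = q).card := by
    intro x' hx'
    have a : ∀ x : centralizer ({t} : Set G), π x = q →
        (Finset.univ.filter fun g : G => g * (x' : G)⁻¹ * g⁻¹ = x).card =
        (Finset.univ.filter fun g : centralizer ({t} : Set G) => g * x'⁻¹ * g⁻¹ = x).card := by
      intro x hx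
      symm
      refine Finset.card_bij (fun a _ => a) (fun a ha => ?_) (fun a _ b _ e => Subtype.ext e)
        fun g hg => ⟨⟨g, h.conj_mem (h.mem_zp (hx ▸ e)) (by
          rw [zpowers_inv]; exact h.mem_zp (hx' ▸ e')) (Finset.mem_filter.1 hg).2⟩, ?_, rfl⟩
      · simpa [Subtype.ext_iff] using ha
      · simpa [Subtype.ext_iff] using hg
    rw [Finset.sum_congr rfl fun x hx => by rw [col_count, a x (Finset.mem_filter.1 hx).2],
      ← Nat.cast_sum, ← Nat.cast_mul]
    congr 1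
    have b1 := Finset.card_eq_sum_card_fiberwise (f := fun g : centralizer ({t} : Set G) =>
      g * x'⁻¹ * g⁻¹) (s := Finset.univ.filter fun g => π g * q'⁻¹ * (π g)⁻¹ = q)
      (t := Finset.univ.filter fun x => π x = q) (fun g hg => by simpa [hx'] using hg)
    have b2 := Finset.card_eq_sum_card_fiberwise (f := π)
      (s := Finset.univ.filter fun g => π g * q'⁻¹ * (π g)⁻¹ = q)
      (t := Finset.univ.filter fun p => p * q'⁻¹ * p⁻¹ = q) (fun g hg => by simpa using hg)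
    rw [Finset.sum_congr rfl (g := fun _ => Nat.card π.ker) (fun p hp => by
      rw [← card_fiber π h.surj p, Finset.filter_filter]
      congr 1
      refine Finset.filter_congr fun g _ => ⟨fun e => e.2, fun e => ⟨?_, e⟩⟩
      rw [e]; exact (Finset.mem_filter.1 hp).2), Finset.sum_const, smul_eq_mul, mul_comm] at b2
    rw [← b2, b1]
    refine Finset.sum_congr rfl fun x hx => ?_
    rw [Finset.filter_filter]
    congr 1
    refine Finset.filter_congr fun g _ => ⟨fun e => ⟨?_, e⟩, fun e => e.2⟩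
    rw [← (Finset.mem_filter.1 hx).2, ← e, ← hx']; simp
  simp only [av_def, mul_mul_mul_comm (Nat.card π.ker : ℂ)⁻¹]
  rw [← Finset.mul_sum]
  simp only [Finset.sum_mul_sum]
  rw [Finset.sum_comm, Finset.sum_congr rfl fun x _ => Finset.sum_comm, Finset.sum_comm,
    Finset.sum_congr rfl fun x hx => k1 x (Finset.mem_filter.1 hx).2, Finset.sum_const,
    card_fiber π h.surj, nsmul_eq_mul]
  have := h.c0
  field_simp

theorem col_one {q : Q48} (hq : q ≠ 1) :
    ∑ χ : IrrCharacter G, av π χ q * (χ : G → ℂ) 1 = 0 := by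
  classical
  have := Fintype.ofFinite G
  simp only [av_def, mul_assoc, Finset.sum_mul]
  rw [← Finset.mul_sum, Finset.sum_comm, Finset.sum_eq_zero, mul_zero]
  intro x hx
  rw [col_count, Finset.filter_eq_empty_iff.2 fun g _ e => hq ?_]
  · simp
  · rw [← (Finset.mem_filter.1 hx).2, show x = 1 from Subtype.ext (by simpa using e.symm), map_one]

theorem struct [DecidablePred (· ∈ irr (B0 O G))] {q : Q48} (hq : q ^ 4 = z)
    (hn : ∀ p, p * q * p⁻¹ ≠ q⁻¹) :
    ∑ χ with χ ∈ irr (B0 O G), av π χ q * (av π χ z ^ 2 / (χ : G → ℂ) 1) = 0 := by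
  obtain ⟨x, rfl⟩ := h.surj q
  have q8 : IsPElt 2 (π x) := isPElt_iff.2 ⟨3, by
    rw [show 2 ^ 3 = 4 * 2 from rfl, pow_mul, hq]; decide +kernel⟩
  have e : π (ppart 2 x) = π x :=
    isPPart_unique (isPPart_map (isPPart_ppart x) π) (isPPart_self q8)
  generalize hy : ppart 2 x = y at e
  have y2 : IsPElt 2 (y : G) := by
    rw [← hy, ← ppart_coe]; exact ppart_isPElt _
  rw [← e] at hq hn ⊢
  have ty := h.mem_zp hq
  have ti : t⁻¹ = t := inv_eq_of_mul_eq_one_left (congrArg Subtype.val h.tt2)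
  have := sum_mul_div_eq_zero_sec (p := 2) (B0 O G) (s := t) (t := t) y2 fun a b ha hb hp => ?_
  · rw [← this]
    refine Finset.sum_congr rfl fun χ hχ => ?_
    have hχ := (Finset.mem_filter.1 hχ).2
    rw [h.av_B0 hχ ty, h.av_z hχ, ti, sq]
  · have i2 : ∀ {a : G}, IsConj t a → a⁻¹ = a := fun {a} ha => by
      obtain ⟨c, rfl⟩ := isConj_iff.1 ha
      rw [conj_inv, ti]
    obtain ⟨k, hk⟩ := isPPart_mem_zpowers hp
    have c : a * y * a⁻¹ = (y : G)⁻¹ := by
      rw [← hk, ← conj_zpow, ← inv_zpow, mul_inv_rev, i2 hb, i2 ha, ← mul_assoc]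
      nth_rewrite 1 [← i2 ha]
      rw [inv_mul_cancel, one_mul]
    have ma := h.conj_mem (by rwa [zpowers_inv]) ty c
    exact hn (π ⟨a, ma⟩) (by
      rw [← map_inv, ← map_inv, ← map_mul, ← map_mul]; exact congrArg π (Subtype.ext c))

theorem bil (α β : Fin 7 → ℂ) (a0 : α 0 = 0) (a3 : α 3 = 0) (b0 : β 0 = 0) (b3 : β 3 = 0) :
    ∑ χ : IrrCharacter G, (∑ c, α c * av π χ (r c)) * ∑ c, β c * av π χ (r c) =
      α 1 * β 1 * 48 + α 2 * β 2 * 8 + α 4 * β 4 * 6 + α 5 * β 6 * 8 + α 6 * β 5 * 8 := by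
  have o : ∀ c c' : Fin 7, ∑ χ : IrrCharacter G, α c * av π χ (r c) * (β c' * av π χ (r c')) =
      α c * β c' * ((if c' = BW.iv7 c then ![0, 48, 8, 0, 6, 8, 8] c else 0 : ℕ) : ℂ) := fun c c' => by
    simp only [mul_mul_mul_comm (α c), ← Finset.mul_sum]
    rcases (by decide +kernel : ∀ c c' : Fin 7, c = 0 ∨ c = 3 ∨ c' = 0 ∨ c' = 3 ∨
      ((∃ k < 5, r c ^ k = z) ∧ (∃ k < 5, r c' ^ k = z) ∧
        (Finset.univ.filter fun p : Q48 => p * (r c')⁻¹ * p⁻¹ = r c).card =
          if c' = BW.iv7 c then ![0, 48, 8, 0, 6, 8, 8] c else 0)) c c' with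
      rfl | rfl | rfl | rfl | ⟨⟨k, -, e⟩, ⟨k', -, e'⟩, e2⟩
    · simp [a0]
    · simp [a3]
    · simp [b0]
    · simp [b3]
    · rw [h.col e e', e2]
  simp only [Finset.sum_mul_sum]
  rw [Finset.sum_comm]
  simp only [fun c => Finset.sum_comm (s := Finset.univ) (t := Finset.univ)
    (f := fun (χ : IrrCharacter G) c' => α c * av π χ (r c) * (β c' * av π χ (r c'))), o]
  simp [Fin.sum_univ_seven, BW.iv7]

theorem bil_one (α : Fin 7 → ℂ) (a0 : α 0 = 0) :
    ∑ χ : IrrCharacter G, (∑ c, α c * av π χ (r c)) * (χ : G → ℂ) 1 = 0 := by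
  simp only [Finset.sum_mul, mul_assoc]
  rw [Finset.sum_comm]
  refine Finset.sum_eq_zero fun c _ => ?_
  rw [← Finset.mul_sum]
  rcases (by decide +kernel : ∀ c : Fin 7, c = 0 ∨ r c ≠ 1) c with rfl | e
  · simp [a0]
  · rw [h.col_one e, mul_zero]

theorem av_zero' {χ : IrrCharacter G} (hχ : χ ∉ irr (B0 O G)) (α : Fin 7 → ℂ) (a0 : α 0 = 0)
    (a3 : α 3 = 0) : ((0 : ℤ) : ℂ) = ∑ c, α c * av π χ (r c) := by
  rw [Int.cast_zero, Finset.sum_eq_zero fun c _ => ?_]
  rcases (by decide +kernel : ∀ c : Fin 7, c = 0 ∨ c = 3 ∨ ∃ k < 5, r c ^ k = z) c with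
    rfl | rfl | ⟨k, -, e⟩
  · simp [a0]
  · simp [a3]
  · obtain ⟨x, hx⟩ := h.surj (r c)
    rw [← hx] at e ⊢
    rw [h.av_zero hχ (h.mem_zp e), mul_zero]

/-- The principal block contains a nontrivial character of small degree. -/
theorem exists_small (O : ValuationSubring ℂ) [CharP (kk O) 2] :
    ∃ χ ∈ irr (B0 O G), χ ≠ triv G ∧ iv χ 1 ≤ 15 := by
  classical
  obtain ⟨ζ, hζ⟩ := IsAlgClosed.exists_pow_nat_eq (-1 : ℂ) (n := 4) (by norm_num)
  have M : ∀ χ : IrrCharacter G, ∃ m1 m2 m3 m4 m5 : ℤ,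
      (m1 : ℂ) = ∑ c, ![0, 1/12, 1/4, 0, -1/3, (ζ + ζ ^ 3) / 8, -(ζ + ζ ^ 3) / 8] c *
        av π χ (r c) ∧
      (m2 : ℂ) = ∑ c, ![0, 1/12, 1/4, 0, -1/3, -(ζ + ζ ^ 3) / 8, (ζ + ζ ^ 3) / 8] c *
        av π χ (r c) ∧
      (m3 : ℂ) = ∑ c, ![0, 1/6, 0, 0, 1/3, 1/4, 1/4] c * av π χ (r c) ∧
      (m4 : ℂ) = ∑ c, ![0, 1/6, 0, 0, 1/3, -1/4, -1/4] c * av π χ (r c) ∧
      (m5 : ℂ) = ∑ c, ![0, 1/6, 1/2, 0, 1/3, 0, 0] c * av π χ (r c) ∧
      (χ ∉ irr (B0 O G) → m3 = 0 ∧ m4 = 0) ∧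
      (χ ∈ irr (B0 O G) → ∃ k : ℤ, (8 * k : ℂ) =
        (χ : G → ℂ) 1 + av π χ (r 1) - 2 * av π χ (r 2)) := fun χ => by
    by_cases hχ : χ ∈ irr (B0 O G)
    · obtain ⟨m1, m2, m3, m4, m5, k, e1, e2, e3, e4, e5, e6⟩ := (h.cf hχ).mult hζ
      obtain ⟨j, hj⟩ := h.deg hχ
      refine ⟨m1, m2, m3, m4, m5, e1, e2, e3, e4, e5, fun e => absurd hχ e, fun _ => ⟨k + 2 * j, ?_⟩⟩
      simp only [Fin.sum_univ_seven, Matrix.cons_val, show r 0 = 1 from rfl] at e6
      push_cast
      linear_combination e6 - hj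
    · exact ⟨0, 0, 0, 0, 0, h.av_zero' hχ _ rfl rfl, h.av_zero' hχ _ rfl rfl,
        h.av_zero' hχ _ rfl rfl, h.av_zero' hχ _ rfl rfl, h.av_zero' hχ _ rfl rfl,
        fun _ => ⟨rfl, rfl⟩, fun e => absurd e hχ⟩
  choose m1 m2 m3 m4 m5 e1 e2 e3 e4 e5 e6 e7 using M
  have g : ∀ {m m' : IrrCharacter G → ℤ} {α β : Fin 7 → ℂ} {n : ℤ},
      (∀ χ, (m χ : ℂ) = ∑ c, α c * av π χ (r c)) →
      (∀ χ, (m' χ : ℂ) = ∑ c, β c * av π χ (r c)) → α 0 = 0 → α 3 = 0 → β 0 = 0 → β 3 = 0 →
      α 1 * β 1 * 48 + α 2 * β 2 * 8 + α 4 * β 4 * 6 + α 5 * β 6 * 8 + α 6 * β 5 * 8 = n →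
      ∑ χ, m χ * m' χ = n := fun {m m' α β n} a b a0 a3 b0 b3 e => by
    have := h.bil α β a0 a3 b0 b3
    simp only [← a, ← b] at this
    apply Int.cast_injective (α := ℂ)
    push_cast at this ⊢
    linear_combination this + e
  have g1 : ∀ {m : IrrCharacter G → ℤ} {α : Fin 7 → ℂ},
      (∀ χ, (m χ : ℂ) = ∑ c, α c * av π χ (r c)) → α 0 = 0 →
      ∑ χ, m χ * iv χ 1 = 0 := fun {m α} a a0 => by
    have := h.bil_one α a0
    simp only [← a, ← ratE_one.cast] at this
    exact_mod_cast this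
  have ha : ∀ χ, ((3 * (m3 χ + m4 χ) - 2 * m5 χ + 2 * (m1 χ + m2 χ) : ℤ) : ℂ) =
      av π χ z := fun χ => by
    push_cast
    rw [e1, e2, e3, e4, e5]
    simp only [Fin.sum_univ_seven, Matrix.cons_val, show r 1 = z from rfl]
    ring
  have o : ∀ {m : ℤ} {α : Fin 7 → ℂ} {n : ℤ},
      (m : ℂ) = ∑ c, α c * av π (triv G) (r c) → ∑ c, α c = n → m = n :=
    fun a e => Int.cast_injective (α := ℂ) (by
      rw [a, ← e]
      exact Finset.sum_congr rfl fun c _ => by
        rw [h.av_const (c := 1) fun x _ => triv_apply _, mul_one])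
  obtain ⟨χ, c1, c2, c3⟩ := wg_arith (m1 := m1) (m2 := m2) (m3 := m3) (m4 := m4) (m5 := m5)
    (d := fun χ => iv χ 1) (o := triv G) iv_one_pos (iv_triv _)
    (o (e1 _) (by simp [Fin.sum_univ_seven]; ring)) (o (e2 _) (by simp [Fin.sum_univ_seven]; ring))
    (o (e3 _) (by simp [Fin.sum_univ_seven]; ring)) (o (e4 _) (by simp [Fin.sum_univ_seven]; ring))
    (o (e5 _) (by simp [Fin.sum_univ_seven]; ring)) (fun _ => rfl)
    (fun χ hχ => by
      obtain ⟨k, hk⟩ := e7 χ (by_contra fun e => hχ (e6 χ e).1)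
      refine ⟨k, Int.cast_injective (α := ℂ) ?_⟩
      push_cast
      rw [hk, ratE_one.cast, e1, e2, e3, e4, e5]
      simp only [Fin.sum_univ_seven, Matrix.cons_val]
      ring)
    (by simpa only [sq] using g e1 e1 rfl rfl rfl rfl (by
      simp only [Matrix.cons_val]; linear_combination -(2 + ζ ^ 2) / 4 * hζ))
    (by simpa only [sq] using g e2 e2 rfl rfl rfl rfl (by
      simp only [Matrix.cons_val]; linear_combination -(2 + ζ ^ 2) / 4 * hζ))
    (by simpa only [sq] using g e3 e3 rfl rfl rfl rfl (by simp only [Matrix.cons_val]; ring))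
    (by simpa only [sq] using g e4 e4 rfl rfl rfl rfl (by simp only [Matrix.cons_val]; ring))
    (by simpa only [sq] using g e5 e5 rfl rfl rfl rfl (by simp only [Matrix.cons_val]; ring))
    (g e1 e2 rfl rfl rfl rfl
      (by simp only [Matrix.cons_val]; linear_combination (2 + ζ ^ 2) / 4 * hζ))
    (g e1 e3 rfl rfl rfl rfl (by simp only [Matrix.cons_val]; ring))
    (g e1 e4 rfl rfl rfl rfl (by simp only [Matrix.cons_val]; ring))
    (g e1 e5 rfl rfl rfl rfl (by simp only [Matrix.cons_val]; ring))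
    (g e2 e3 rfl rfl rfl rfl (by simp only [Matrix.cons_val]; ring))
    (g e2 e4 rfl rfl rfl rfl (by simp only [Matrix.cons_val]; ring))
    (g e4 e3 rfl rfl rfl rfl (by simp only [Matrix.cons_val]; ring))
    (g e5 e3 rfl rfl rfl rfl (by simp only [Matrix.cons_val]; ring))
    (g e5 e4 rfl rfl rfl rfl (by simp only [Matrix.cons_val]; ring))
    (g1 e1 rfl) (g1 e2 rfl) (g1 e3 rfl) (g1 e4 rfl)
    (by
      have s5 := h.struct (O := O) (q := r 5) (by decide +kernel) (by decide +kernel)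
      have s6 := h.struct (O := O) (q := r 6) (by decide +kernel) (by decide +kernel)
      rw [← sub_eq_zero, ← Finset.sum_sub_distrib]
      apply Rat.cast_injective (α := ℂ)
      rw [Rat.cast_zero, ← zero_div (2 : ℂ), ← add_zero (0 : ℂ)]
      nth_rewrite 1 [← s5]
      rw [← s6, ← Finset.sum_add_distrib, Finset.sum_div, Finset.sum_filter, Rat.cast_sum]
      refine Finset.sum_congr rfl fun χ _ => ?_
      split_ifs with hχ
      · rw [← ha, ← ratE_one.cast]
        have a3 := e3 χ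
        have a4 := e4 χ
        simp only [Fin.sum_univ_seven, Matrix.cons_val] at a3 a4
        have : (m3 χ : ℂ) - m4 χ = (av π χ (r 5) + av π χ (r 6)) / 2 := by
          linear_combination a3 - a4
        push_cast
        linear_combination (3 * (m3 χ + m4 χ) - 2 * m5 χ + 2 * (m1 χ + m2 χ) : ℂ) ^ 2 /
          (iv χ 1) * this
      · simp [e6 χ hχ])
  exact ⟨χ, by_contra fun e => c2.elim (· (e6 χ e).1) (· (e6 χ e).2), c1, c3⟩

theorem inj [IsSimpleGroup G] : Function.Injective π := by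
  obtain ⟨O, _⟩ := exists_val 2
  obtain ⟨χ, h1, h2, h3⟩ := h.exists_small O
  refine (injective_iff_map_eq_one π).2 fun y hy => Subtype.ext ?_
  have := h.ker_le h1 h3 hy
  rwa [χ.2.charKer_eq_bot_of_simple fun e => h2 (Subtype.ext e), mem_bot] at this

end WS

end H26.Wg
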