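import Cfsg.Agent.H26.Wg5
import Cfsg.Agent.H10.JC6
import Cfsg.Agent.S2060

/-! Primitive groups with a suborbit of length three: point stabilizer `S₄ × 2`. -/

set_option autoImplicit false
set_option linter.unusedSectionVars false

namespace H26.Wg

open Cfsg H10
open scoped MatrixGroups commutatorElement

variable {G : Type*} [Group G] [Finite G]

/-- An amalgam of type `(S₃, S₃)` of primitive subgroups. -/
structure PQ (T L₁ L₂ : Subgroup G) : Prop where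
  am : AM L₁ L₂ T
  n1 : ¬ L₁ ≤ CC(H10.ZO 2 T)
  n2 : ¬ L₂ ≤ CC(H10.ZO 2 T)
  m1 : H25.TW.Prim L₁
  m2 : H25.TW.Prim L₂

namespace PQ

variable {T L₁ L₂ : Subgroup G} (h : PQ T L₁ L₂)
include h

theorem symm : PQ T L₂ L₁ := ⟨h.am.symm, h.n2, h.n1, h.m2, h.m1⟩

theorem s1 : IsSylowIn 2 T L₁ := h.am.s1.syl

theorem NN_eq {X : Subgroup G} (h0 : X ≠ ⊥) (h1 : X ≤ L₁) (h2 : L₁ ≤ NN(X)) : NN(X) = L₁ :=
  le_antisymm (h.m1 X h0 h1 h2) h2

theorem NN_O : NN(pCoreOf 2 L₁) = L₁ :=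
  h.NN_eq (fun e => h.am.W_ne_bot h.n1 h.n2 (le_bot_iff.1 (e ▸ WW_le _))) (pCoreOf_le _)
    (le_NN_pCoreOf _)

theorem cj_Q {S : Subgroup G} (hS : IsPGroup 2 S) (hTS : T ≤ S) {x : G} (hx : x ∈ S ⊓ NN(T))
    (hn : x ∉ T) : cj x (pCoreOf 2 L₁) = pCoreOf 2 L₂ :=
  h.am.cj_Q h.n1 h.n2 hx.2 fun e => hn ((h.s1.inf_eq hS hTS).le ⟨hx.1, h.NN_O.le e⟩)

theorem mul_mem_T {S : Subgroup G} (hS : IsPGroup 2 S) (hTS : T ≤ S) {x y : G}
    (hx : x ∈ S ⊓ NN(T)) (hy : y ∈ S ⊓ NN(T)) (hx' : x ∉ T) (hy' : y ∉ T) : x * y ∈ T :=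
  (h.s1.inf_eq hS hTS).le ⟨mul_mem hx.1 hy.1, h.NN_O.le (mem_NN.2 (by
    rw [cj_mul, h.cj_Q hS hTS hy hy', h.symm.cj_Q hS hTS hx hx']))⟩

variable (h2 : Nat.card (pCoreOf 2 L₁ ⊓ CC(resOf 2 L₁) : Subgroup G) = 2)
include h2

theorem CC_ZO_le : CC(H10.ZO 2 T) ≤ L₁ := by
  have h1 := (h.am.cent h.n1 h.n2).2.1
  exact (CC_anti (h1.trans inf_le_left)).trans ((CC_le_NN _).trans (h.NN_eq
    (fun e => by simp [e] at h2) (inf_le_left.trans (pCoreOf_le _))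
    ((le_CC_symm (h1.trans inf_le_right)).trans (CC_le_NN _))).le)

theorem JT_syl {S : Subgroup G} (hS : IsPGroup 2 S) (hTS : T ≤ S) : JT S = T := by
  have am := h.am
  have n1 := h.n1
  have n2 := h.n2
  have h1 : T ≤ S ⊓ NN(T) := le_inf hTS (le_NN_self T)
  have h3 : JT (S ⊓ NN(T)) ≤ T := H4.thompsonOf_le_iff.2 fun A hA => by
    by_contra hc
    obtain ⟨x, hx, hx'⟩ := SetLike.not_le_iff_exists.1 hc
    have hle := H4.maxAb_le hA
    have he := H4.maxAb_elemAb hA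
    have hL : x ∉ L₁ := fun e => hx' ((h.s1.inf_eq hS hTS).le ⟨(hle hx).1, e⟩)
    have a1 : A ⊓ T ≤ H10.ZO 2 T := am.le_ZO_of n1 n2 (hle hx).2 (by rwa [h.NN_O])
      (elab_of_le he inf_le_left) inf_le_right (mem_NN_inf (le_NN_self A hx) (hle hx).2)
    have a2 : T.relIndex A = 2 := H6.relIndex_eq_two_of hx hx' fun b hb =>
      or_iff_not_imp_right.2 fun e => h.mul_mem_T hS hTS (hle hb) (hle hx) e hx'
    rw [← Subgroup.inf_relIndex_left] at a2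
    have a3 := card_eq_of_relIndex a2 inf_le_left
    have a4 := H4.maxAb_card_le hA (am.s1.QT.trans h1) (am.elabQ n1 n2)
    have a5 := card_eq_of_relIndex am.relIndex_D inf_le_left
    rw [am.D_eq n1 n2] at a5
    have a6 := Subgroup.eq_of_le_of_card_ge a1 (by omega)
    exact hL (h.CC_ZO_le h2 (CC_anti (a6.ge.trans inf_le_left) (elab_le_CC he hx)))
  have h4 : JT (S ⊓ NN(T)) = T := (JT_eq_of_le h3 h1).symm.trans (am.JT_eq n1 n2)
  have h5 := eq_of_inf_NN_le hS (inf_le_left (b := NN(T))) (inf_le_inf_left _ (by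
    have := le_NN_JT (le_refl NN(S ⊓ NN(T)))
    rwa [h4] at this))
  rwa [h5] at h4

theorem comm_le {S : Subgroup G} (hS : IsPGroup 2 S) (hTS : T ≤ S) : ⁅S, S⁆ ≤ WW L₁ ⊔ WW L₂ := by
  have am := h.am
  have n1 := h.n1
  have n2 := h.n2
  have h1 : S ≤ NN(T) := by
    have := le_NN_JT (le_NN_self S)
    rwa [h.JT_syl h2 hS hTS] at this
  have key : ∀ {L₁ L₂ : Subgroup G}, PQ T L₁ L₂ → ∀ s ∈ S, s ∉ T →
      cj s (WW L₁) = WW L₂ := fun {L₁ L₂} h s hs hs' => by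
    rw [cj_WW, ← h.NN_O, cj_normalizer, h.cj_Q hS hTS ⟨hs, h1 hs⟩ hs', h.symm.NN_O]
  have hn : S ≤ NN(WW L₁ ⊔ WW L₂) := fun s hs => by
    by_cases e : s ∈ T
    · exact mem_NN_sup (am.T_NN e) (am.symm.T_NN e)
    · rw [mem_NN, cj_sup, key h s hs e, key h.symm s hs e, sup_comm]
  have c := am.cent n1 n2
  have h3 : (H10.ZO 2 T ⊓ (WW L₁ ⊔ WW L₂)).relIndex (H10.ZO 2 T) = 2 := by
    have a1 := card_mul_relIndex (inf_le_left (a := H10.ZO 2 T) (b := WW L₁ ⊔ WW L₂))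
    have a2 := c.2.2
    rw [h2] at a2
    rw [card_two_of_lt_four a2 (lt_of_le_not_ge inf_le_left fun e => ?_) fun e => am.WW_ne n1 n2
      (le_bot_iff.1 (le_trans (le_inf ((inf_le_inf (WW_le _) (WW_le _)).trans (am.D_eq n1 n2).le)
        (inf_le_left.trans le_sup_left)) e.le))] at a1
    · omega
    · have := (le_inf ((le_inf ((c.2.1.trans inf_le_left).trans (e.trans inf_le_right))
        inf_le_left).trans (am.U_inf n1 n2).le) inf_le_right).trans (am.W_inf n1 n2).le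
      simp [le_bot_iff.1 this] at h2
  have h4 : ⁅T, S⁆ ≤ WW L₁ ⊔ WW L₂ :=
    (Subgroup.commutator_mono (am.T_le n1 n2) le_rfl).trans (comm_sup_le (le_NN_self _)
      ((ZO_le T).trans (hTS.trans hn)) (comm_le_left hn) ((comm_le_of_relIndex_two h3
        (le_NN_inf (le_NN_ZO h1) hn) (le_NN_ZO h1)).trans inf_le_right))
  have h5 : ⁅S, T⁆ ≤ WW L₁ ⊔ WW L₂ := Subgroup.commutator_comm T S ▸ h4
  refine Subgroup.commutator_le.2 fun a ha b hb => ?_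
  by_cases e : a ∈ T
  · exact h4 (Subgroup.commutator_mem_commutator e hb)
  by_cases e' : b ∈ T
  · exact h5 (Subgroup.commutator_mem_commutator ha e')
  have := h.mul_mem_T hS hTS (inv_mem ⟨ha, h1 ha⟩) ⟨hb, h1 hb⟩ (fun k => e (by simpa using k)) e'
  rw [show ⁅a, b⁆ = a * ⁅a, a⁻¹ * b⁆ * a⁻¹ by simp [commutatorElement_def, mul_assoc]]
  exact conj_mem_of_mem_NN (hn ha) (h5 (Subgroup.commutator_mem_commutator ha this))

theorem inf_res : pCoreOf 2 L₁ ⊓ CC(resOf 2 L₁) ⊓ resOf 2 (⊤ : Subgroup G) = ⊥ := by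
  have am := h.am
  have n1 := h.n1
  have n2 := h.n2
  have c := am.cent n1 n2
  obtain ⟨S, hS, hTS⟩ := exists_isSylowIn_ge h.s1.isPGroup (le_top (a := T))
  refine eq_bot_iff.2 fun y hy => by_contra fun hy1 => ?_
  have hyD := (c.2.1 hy.1).1
  have hyS : y ∉ ⁅S, S⁆ := fun e => hy1 ((am.W_inf n1 n2).le ⟨(am.U_inf n1 n2).le
    ⟨h.comm_le h2 hS.isPGroup hTS e, hy.1.1⟩, hy.1.2⟩)
  obtain ⟨U, h3, h4, g, h5, h6⟩ := thompson_transfer_res hS (hTS (ZO_le T hyD))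
    (by simpa [sq] using (mem_ZO.1 hyD).2.2) hyS hy.2 h.s1.isPGroup
    (CC_zpowers y ▸ (le_CC_ZO T).trans (CC_anti (Subgroup.zpowers_le_of_mem hyD)))
  have e1 := h.JT_syl h2 hS.isPGroup hTS
  have e2 : cj g T = T := by
    have := JT_le_JT ((JT_le _).trans h6) ((aT_le e1.le).trans (aT_cj g T).ge)
    rw [e1, ← cj_JT, am.JT_eq n1 n2] at this
    exact Subgroup.eq_of_le_of_card_ge this (card_cj g T).ge
  have hg := mem_NN.2 e2
  have a1 : ⁅T, T⁆ ≠ ⊥ := fun e => am.s1.not_le (am.c1.le am.s1.le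
    ((comm_eq_bot.1 e).trans (CC_anti am.s1.QT)))
  have a2 := inf_ZO_ne_bot h.s1.isPGroup (comm_le_left (le_NN_self T)) (left_le_NN_comm T T) a1
  have a3 : ⁅T, T⁆ ≤ U := (Subgroup.commutator_mono hTS hTS).trans h3
  have a4 := c.2.2
  rw [h2] at a4
  have a5 := card_two_of_lt_four a4 (lt_of_le_not_ge (inf_le_right (a := U)) fun e => h4 (e hyD).1)
    fun e => a2 (le_bot_iff.1 ((inf_le_inf_right _ a3).trans e.le))
  have a6 := Subgroup.eq_of_le_of_card_ge (inf_le_inf_right _ a3) (a5.le.trans (two_le_card a2))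
  have a7 := (a6.ge ⟨h5, conj_mem_of_mem_NN (le_NN_ZO le_rfl hg) hyD⟩).1
  exact h4 (a3 (by simpa [mul_assoc] using conj_mem_of_mem_NN' (mem_NN_commutator hg hg) a7))

end PQ

end H26.Wg
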