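import Cfsg.Agent.H26.ZS13
import Cfsg.Agent.S1947
import Cfsg.Agent.S3742
import Cfsg.Agent.S0016
import Cfsg.Agent.H6.Fus
import Cfsg.Agent.H6.Count
import Cfsg.Agent.H6.Dihedral

/-!
Groups with a unique involution and an involutory automorphism with two fixed points.
-/

set_option autoImplicit false
set_option linter.unusedSectionVars false
set_option linter.style.haveILetI false

namespace H26

open Cfsg Subgroup

/-- the elements of order prime to `p` of a subgroup with a normal `p`-complement -/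
def ppart {E : Type*} [Group E] [Finite E] (p : ℕ) [Fact p.Prime] (L : Subgroup E)
    (h : HasNormalPComplement p L) : Subgroup E where
  carrier := {x | x ∈ L ∧ (orderOf x).Coprime p}
  one_mem' := ⟨L.one_mem, by simp⟩
  inv_mem' := fun hx => ⟨L.inv_mem hx.1, by simpa using hx.2⟩
  mul_mem' := fun {x y} hx hy => ⟨L.mul_mem hx.1 hy.1, by
    have := H3.hasNormalPComplement_iff_mul.1 h ⟨x, hx.1⟩ ⟨y, hy.1⟩
      (by rw [← Subgroup.orderOf_coe]; exact hx.2) (by rw [← Subgroup.orderOf_coe]; exact hy.2)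
    rwa [← Subgroup.orderOf_coe] at this⟩

theorem mem_ppart {E : Type*} [Group E] [Finite E] {p : ℕ} [Fact p.Prime] {L : Subgroup E}
    {h : HasNormalPComplement p L} {x : E} : x ∈ ppart p L h ↔ x ∈ L ∧ (orderOf x).Coprime p :=
  Iff.rfl

theorem ord_conj {E : Type*} [Group E] (g x : E) : orderOf (g * x * g⁻¹) = orderOf x :=
  orderOf_injective (MulAut.conj g).toMonoidHom (MulAut.conj g).injective x

/-- odd order automorphisms of 2-groups with at most one involution -/
theorem q8_of_odd {E : Type*} [Group E] [Finite E] {Q : Subgroup E} (hQ : IsPGroup 2 Q)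
    (hu : ∀ x ∈ Q, ∀ y ∈ Q, x * x = 1 → y * y = 1 → x ≠ 1 → y ≠ 1 → x = y) {g : E}
    (hg : g ∈ normalizer (Q : Set E)) (ho : Odd (orderOf g)) (hc : g ∉ centralizer (Q : Set E)) :
    Nonempty (Q ≃* QuaternionGroup 2) := by
  have hpow : ∀ x ∈ Q, ∃ k, x ^ 2 ^ k = 1 := fun x hx => by
    obtain ⟨k, hk⟩ := hQ ⟨x, hx⟩
    exact ⟨k, congrArg Subtype.val hk⟩
  have hcj : ∀ x ∈ Q, g * x * g⁻¹ ∈ Q := fun x hx => (mem_normalizer_iff.1 hg x).1 hx
  have hcyc : ∀ a ∈ Q, g * a * g⁻¹ ∈ zpowers a → Commute g a := fun a ha h => by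
    obtain ⟨k, hk⟩ := hpow a ha
    exact H6.commute_of_odd_of_normalizes_zpowers hk ho h
  have key : IsCyclic Q ∨ ∃ n : ℕ, Nonempty (Q ≃* QuaternionGroup (2 ^ n)) := by
    refine (Cfsg.Agent.S0016.result 2 hQ fun A B hA hB => ?_).imp id And.right
    have aux : ∀ C : Subgroup Q, Nat.card C = 2 → ∃ c : Q, c ≠ 1 ∧ c * c = 1 ∧ C = zpowers c := by
      intro C hC
      obtain ⟨c, hc⟩ := exists_prime_orderOf_dvd_card' (G := C) 2 (by rw [hC])
      have h1 : orderOf (c : Q) = 2 := by rw [Subgroup.orderOf_coe, hc]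
      refine ⟨c, (orderOf_eq_two_iff'.1 h1).1, (orderOf_eq_two_iff'.1 h1).2, ?_⟩
      refine (Subgroup.eq_of_le_of_card_ge (zpowers_le.2 c.2) ?_).symm
      rw [Nat.card_zpowers, h1, hC]
    obtain ⟨x, h1, h2, rfl⟩ := aux A hA
    obtain ⟨y, h3, h4, rfl⟩ := aux B hB
    have := hu x x.2 y y.2 (congrArg Subtype.val h2) (congrArg Subtype.val h4)
      (fun h => h1 (Subtype.ext h)) (fun h => h3 (Subtype.ext h))
    rw [Subtype.ext this]
  rcases key with h | ⟨n, ⟨e⟩⟩
  · exfalso
    obtain ⟨a, ha⟩ := h.exists_generator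
    have h1 : ∀ x ∈ Q, x ∈ zpowers (a : E) := fun x hx => by
      obtain ⟨k, hk⟩ := ha ⟨x, hx⟩
      exact ⟨k, by simpa using congrArg Subtype.val hk⟩
    have h2 := hcyc a a.2 (h1 _ (hcj a a.2))
    refine hc fun x hx => ?_
    obtain ⟨k, rfl⟩ := h1 x hx
    exact (h2.zpow_right k).symm
  · by_cases h1 : n = 1
    · subst h1; exact ⟨e⟩
    exfalso
    obtain ⟨a, b, ha, hb, h2, h3, h4, h5, h6⟩ := H6.exists_gens_of_quaternion_subgroup e
    have hsq : ∀ k : ℤ, a ^ k * b * (a ^ k * b) = a ^ 2 ^ n := fun k => by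
      rw [← h3, mul_assoc, ← mul_assoc b, H6.mul_zpow_of_inverts h4]
      group
    have h7 : a ^ (2 * 2 ^ n) = 1 := by rw [← h2, pow_orderOf_eq_one]
    have hga : g * a * g⁻¹ ∈ zpowers a := by
      obtain ⟨k, hk | hk⟩ := h6 _ (hcj a ha)
      · exact ⟨k, hk.symm⟩
      · exfalso
        have h8 : orderOf (g * a * g⁻¹) = 2 * 2 ^ n := by rw [ord_conj, h2]
        rcases Nat.lt_or_ge n 1 with h9 | h9
        · have h10 : n = 0 := by omega
          subst h10
          have h11 : (g * a * g⁻¹) ^ 2 = 1 := by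
            rw [← orderOf_dvd_iff_pow_eq_one, h8]; simp
          rw [pow_two, hk, hsq] at h11
          have : a = 1 := by simpa using h11
          rw [this, orderOf_one] at h2
          simp at h2
        · have h11 : (g * a * g⁻¹) ^ 4 = 1 := by
            rw [show 4 = 2 * 2 from rfl, pow_mul, pow_two (g * a * g⁻¹), hk, hsq, ← pow_mul,
              mul_comm, h7]
          rw [← orderOf_dvd_iff_pow_eq_one, h8] at h11
          have h12 := Nat.le_of_dvd (by norm_num) h11
          have h13 : 2 ^ 2 ≤ 2 ^ n := Nat.pow_le_pow_right (by norm_num) (by omega)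
          omega
    have hca := hcyc a ha hga
    have hcb : Commute g b := by
      obtain ⟨k, hk | hk⟩ := h6 _ (hcj b hb)
      · exfalso
        apply h5
        refine ⟨k, ?_⟩
        have h8 := (hca.zpow_right k).eq
        have : b = g⁻¹ * (g * b * g⁻¹) * g := by group
        rw [this, hk]
        change a ^ k = _
        rw [mul_assoc, ← h8]; group
      · have h8 := (hca.zpow_right k).eq
        have h9 : ∀ j : ℕ, g ^ j * b * (g ^ j)⁻¹ = (a ^ k) ^ j * b := fun j => by
          induction j with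
          | zero => simp
          | succ j ih =>
            calc g ^ (j + 1) * b * (g ^ (j + 1))⁻¹ = g * (g ^ j * b * (g ^ j)⁻¹) * g⁻¹ := by group
              _ = (g * (a ^ k) ^ j) * g⁻¹ * (g * b * g⁻¹) := by rw [ih]; group
              _ = _ := by
                rw [((hca.zpow_right k).pow_right j).eq, hk, pow_succ]; group
        have h10 := h9 (orderOf g)
        rw [pow_orderOf_eq_one] at h10
        have h11 : (a ^ k) ^ orderOf g = 1 := by simpa using h10
        obtain ⟨m, hm⟩ := hpow _ (zpow_mem ha k)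
        have h12 : orderOf (a ^ k) = 1 := Nat.eq_one_of_dvd_coprimes
          ((Nat.coprime_two_right.2 ho).pow_right m)
          (orderOf_dvd_of_pow_eq_one h11) (orderOf_dvd_of_pow_eq_one hm)
        rw [orderOf_eq_one_iff] at h12
        rw [h12, one_mul] at hk
        exact mul_inv_eq_iff_eq_mul.1 hk
    refine hc fun x hx => ?_
    obtain ⟨k, rfl | rfl⟩ := h6 x hx
    · exact (hca.zpow_right k).symm
    · exact ((hca.zpow_right k).mul_right hcb).symm

/-- the action on a normalised subgroup -/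
theorem index_cent_dvd {E : Type*} [Group E] [Finite E] {Q : Subgroup E} [Q.Normal] :
    (centralizer (Q : Set E)).index ∣ Nat.card (MulAut Q) := by
  have h : (MulAut.conjNormal : E →* MulAut Q).ker = centralizer (Q : Set E) := by
    ext g
    rw [MonoidHom.mem_ker, mem_centralizer_iff]
    constructor
    · intro h x hx
      have := congrArg Subtype.val (DFunLike.congr_fun h ⟨x, hx⟩)
      simp only [MulAut.conjNormal_apply, MulAut.one_apply] at this
      exact (mul_inv_eq_iff_eq_mul.1 this).symm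
    · intro h
      ext x
      simp only [MulAut.conjNormal_apply, MulAut.one_apply]
      rw [← h x x.2]; simp
  rw [← h, Subgroup.index_ker]
  exact Subgroup.card_subgroup_dvd_card _

theorem card_aut_q8 {Q : Type*} [Group Q] (e : Q ≃* QuaternionGroup 2) :
    Nat.card (MulAut Q) = 24 := by
  obtain ⟨f⟩ := Cfsg.Agent.S3742.result
  rw [Nat.card_congr ((MulAut.congr e).trans f).toEquiv, Nat.card_eq_fintype_card,
    Fintype.card_perm]
  rfl

theorem three_dvd_of_q8 {E : Type*} [Group E] [Finite E] {Q : Subgroup E}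
    (e : Q ≃* QuaternionGroup 2) {g : E} (hg : g ∈ normalizer (Q : Set E)) (ho : Odd (orderOf g))
    (hc : g ∉ centralizer (Q : Set E)) : 3 ∣ orderOf g := by
  by_contra h3
  apply hc
  let φ := Q.normalizerMonoidHom ⟨g, hg⟩
  have h1 : orderOf φ ∣ orderOf g := by
    have := orderOf_map_dvd Q.normalizerMonoidHom ⟨g, hg⟩
    rwa [← Subgroup.orderOf_coe] at this
  have h2 : orderOf φ ∣ 24 := card_aut_q8 e ▸ orderOf_dvd_natCard φ
  have h4 : (orderOf g).Coprime 24 := by
    rw [show 24 = 2 ^ 3 * 3 from rfl]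
    exact Nat.Coprime.mul_right ((Nat.coprime_two_right.2 ho).pow_right 3)
      ((Nat.Prime.coprime_iff_not_dvd Nat.prime_three).2 h3).symm
  have h5 : φ = 1 := orderOf_eq_one_iff.1 (Nat.eq_one_of_dvd_coprimes h4 h1 h2)
  intro x hx
  have := congrArg Subtype.val (DFunLike.congr_fun h5 ⟨x, hx⟩)
  change g * x * g⁻¹ = x at this
  exact (mul_inv_eq_iff_eq_mul.1 this).symm

/-- an involutory automorphism `σ` such that the `x⁻¹ σ x` generate the group -/
structure Tw {E : Type*} [Group E] (σ : E →* E) (z : E) : Prop where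
  inv : ∀ x, σ (σ x) = x
  gen : closure (Set.range fun x => x⁻¹ * σ x) = ⊤
  z1 : z ≠ 1
  z2 : z * z = 1
  uniq : ∀ x : E, x * x = 1 → x ≠ 1 → x = z
  fix : ∀ x, σ x = x → x * x = 1
  three : {x : E | orderOf x = 3}.ncard ≤ 2

namespace Tw

variable {E : Type*} [Group E] [Finite E] {σ : E →* E} {z : E} (T : Tw σ z)
include T

theorem inj : Function.Injective σ := fun x y h => by rw [← T.inv x, h, T.inv]

theorem ord (x : E) : orderOf (σ x) = orderOf x := orderOf_injective σ T.inj x

theorem eq_top {N : Subgroup E} (h : ∀ x, x⁻¹ * σ x ∈ N) : N = ⊤ :=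
  eq_top_iff.2 (T.gen ▸ (closure_le N).2 (by rintro _ ⟨x, rfl⟩; exact h x))

theorem index_ne (N : Subgroup E) : N.index ≠ 2 := by
  intro hN
  have h1 : ∀ x y, x * y ∈ N ↔ (x ∈ N ↔ y ∈ N) := fun x y => mul_mem_iff_of_index_two hN
  let M : Subgroup E :=
    { carrier := {x | x ∈ N ↔ σ x ∈ N}
      one_mem' := by simp
      inv_mem' := fun {x} hx => by simpa using hx
      mul_mem' := fun {x y} hx hy => by
        change _ ↔ _ at hx hy ⊢
        rw [map_mul, h1, h1, hx, hy] }
  have h2 : M = ⊤ := T.eq_top fun x => by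
    change _ ↔ _
    rw [map_mul, map_inv, T.inv, h1, h1, inv_mem_iff, inv_mem_iff]
    exact Iff.comm
  have h3 : N = ⊤ := T.eq_top fun x => by
    rw [h1, inv_mem_iff]
    exact (h2 ▸ mem_top x : x ∈ M)
  rw [h3, index_top] at hN
  omega

theorem even : Even (Nat.card E) := by
  rw [even_iff_two_dvd, ← orderOf_eq_two_iff'.2 ⟨T.z1, T.z2⟩]
  exact orderOf_dvd_natCard z

theorem not_npc : ¬ HasNormalPComplement 2 E := by
  intro h
  obtain ⟨N, hN, h1, h2⟩ := H3.hasNormalPComplement_iff_exists.1 h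
  obtain ⟨k, hk⟩ := h2.exists_card_eq
  rw [← Subgroup.index_eq_card] at hk
  rcases k with _ | k
  · rw [pow_zero, Subgroup.index_eq_one] at hk
    rw [hk, Subgroup.card_top, Nat.coprime_two_right] at h1
    exact (Nat.not_even_iff_odd.2 h1) T.even
  · obtain ⟨M, -, hM⟩ := H6.exists_index_prime_of_normal N hk
    exact T.index_ne M hM

theorem central {X : Subgroup E} (hn : ∀ g, ∀ x ∈ X, g * x * g⁻¹ ∈ X) (hσ : ∀ x ∈ X, σ x ∈ X)
    (ho : ∀ x ∈ X, Odd (orderOf x)) : X ≤ center E := by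
  let φ : X →* X :=
    { toFun := fun k => ⟨σ k, hσ k k.2⟩
      map_one' := by ext; simp
      map_mul' := fun a b => by ext; simp }
  have h1 : MonoidHom.FixedPointFree φ := fun k e => Subtype.ext
    (eq_one_of_sq_of_odd (ho k k.2) (T.fix k (congrArg Subtype.val e)))
  have h2 : ∀ x ∈ X, σ x = x⁻¹ := fun x hx => congrArg Subtype.val
    (congrFun (h1.coe_eq_inv_of_involutive fun k => Subtype.ext (T.inv k)) ⟨x, hx⟩)
  have h3 : centralizer (X : Set E) = ⊤ := T.eq_top fun d x hx => by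
    have h4 := h2 _ (hn d _ (X.inv_mem hx))
    rw [map_mul, map_mul, h2 _ (X.inv_mem hx), inv_inv, map_inv] at h4
    calc x * (d⁻¹ * σ d) = d⁻¹ * (d * x⁻¹ * d⁻¹)⁻¹ * σ d := by group
      _ = _ := by rw [← h4]; group
  intro x hx
  rw [mem_center_iff]
  intro g
  exact ((h3 ▸ mem_top g : g ∈ centralizer (X : Set E)) x hx).symm

theorem three_central {x : E} (hx : x ^ 3 = 1) : x ∈ center E := by
  by_cases h1 : x = 1
  · rw [h1]; exact one_mem _
  have h3 : orderOf x = 3 := orderOf_eq_prime hx h1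
  have h4 : ∀ y, orderOf y = 3 → y ∈ zpowers x := fun y hy => by
    have h5 : x⁻¹ ≠ x := fun h => by
      have := orderOf_dvd_of_pow_eq_one (x := x) (n := 2)
        (by rw [pow_two]; nth_rewrite 1 [← h]; simp)
      rw [h3] at this; omega
    have h6 : ({x, x⁻¹} : Set E) = {x : E | orderOf x = 3} :=
      Set.eq_of_subset_of_ncard_le (by rintro _ (rfl | rfl) <;> simpa using h3)
        (by rw [Set.ncard_pair h5.symm]; exact T.three)
    rcases (h6 ▸ hy : y ∈ ({x, x⁻¹} : Set E)) with rfl | rfl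
    · exact mem_zpowers _
    · exact inv_mem (mem_zpowers _)
  refine T.central (X := zpowers x) ?_ ?_ ?_ (mem_zpowers x)
  · rintro g _ ⟨k, rfl⟩
    have := zpow_mem (h4 _ ((ord_conj g x).trans h3)) k
    rwa [conj_zpow] at this
  · rintro _ ⟨k, rfl⟩
    have := zpow_mem (h4 _ ((T.ord x).trans h3)) k
    rwa [← map_zpow] at this
  · intro y hy
    exact odd_orderOf_of_mem (by rw [Nat.card_zpowers, h3]; decide) hy

theorem z_central : z ∈ center E := by
  rw [mem_center_iff]
  intro g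
  have := T.uniq (g * z * g⁻¹) (by
    calc _ = g * (z * z) * g⁻¹ := by group
      _ = 1 := by rw [T.z2]; simp) (by simpa [mul_inv_eq_one] using T.z1)
  exact mul_inv_eq_iff_eq_mul.1 this

theorem uniq' (x y : E) (h1 : x * x = 1) (h2 : y * y = 1) (h3 : x ≠ 1) (h4 : y ≠ 1) : x = y :=
  (T.uniq x h1 h3).trans (T.uniq y h2 h4).symm

/-- the 2-elements form a subgroup -/
theorem exists_two : ∃ S : Subgroup E, ∀ x, x ∈ S ↔ ∃ k, x ^ 2 ^ k = 1 := by
  haveI : Fact (Nat.Prime 3) := ⟨Nat.prime_three⟩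
  have h3 : HasNormalPComplement 3 (⊤ : Subgroup E) := H3.hasNormalPComplement_top.2
    (Cfsg.Agent.S1947.result 1 fun a ha => by
      rw [Subgroup.upperCentralSeries_one]
      exact T.three_central (ha.resolve_right (by simp)))
  set K := ppart 3 ⊤ h3 with hKd
  have hK : ∀ x, x ∈ K ↔ (orderOf x).Coprime 3 := fun x => by simp [hKd, mem_ppart]
  obtain ⟨P⟩ : Nonempty (Sylow 2 K) := inferInstance
  have h2 : HasNormalPComplement 2 K := H3.frobenius P fun Q hQ g hg hc => by
    by_contra h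
    have ho := Nat.coprime_two_right.1 hc
    obtain ⟨e⟩ := q8_of_odd (P.isPGroup'.to_le hQ) (fun x _ y _ h1 h2 h3 h4 => Subtype.ext
      (T.uniq' x y (congrArg Subtype.val h1) (congrArg Subtype.val h2)
        (fun h => h3 (Subtype.ext h)) (fun h => h4 (Subtype.ext h)))) hg ho h
    have h4 := three_dvd_of_q8 e hg ho h
    have h5 := (hK g).1 g.2
    rw [Subgroup.orderOf_coe] at h5
    exact absurd (Nat.eq_one_of_dvd_coprimes h5 h4 dvd_rfl) (by decide)
  have hM : ppart 2 K h2 ≤ center E := T.central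
    (fun g x hx => ⟨(hK _).2 (by rw [ord_conj]; exact (hK x).1 hx.1), by rw [ord_conj]; exact hx.2⟩)
    (fun x hx => ⟨(hK _).2 (by rw [T.ord]; exact (hK x).1 hx.1), by rw [T.ord]; exact hx.2⟩)
    (fun x hx => Nat.coprime_two_right.1 hx.2)
  obtain ⟨N, hN, hc⟩ := (H3.hasNormalPComplement_iff_sylow P).1 h2
  have hco := H3.coprime_card_of_isComplement' P hc
  have hP : (P : Subgroup K).Normal := ⟨fun x hx k => by
    obtain ⟨⟨n, u⟩, rfl⟩ := (hc.existsUnique k).exists
    have h5 : ((n : K) : E) ∈ center E := hM ⟨(n : K).2, by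
      rw [Subgroup.orderOf_coe]
      exact hco.coprime_dvd_left (N.orderOf_dvd_natCard n.2)⟩
    have h6 : ∀ y : K, (n : K) * y = y * n := fun y =>
      Subtype.ext ((mem_center_iff.1 h5 y).symm)
    have : (n : K) * u * x * ((n : K) * u)⁻¹ = u * x * (u : K)⁻¹ := by
      calc _ = (n : K) * (u * x * (u : K)⁻¹) * (n : K)⁻¹ := by group
        _ = _ := by rw [h6]; group
    change (n : K) * u * x * ((n : K) * u)⁻¹ ∈ _
    rw [this]
    exact mul_mem (mul_mem u.2 hx) (inv_mem u.2)⟩
  refine ⟨(P : Subgroup K).map K.subtype, fun x => ⟨?_, ?_⟩⟩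
  · rintro ⟨y, hy, rfl⟩
    obtain ⟨k, hk⟩ := P.isPGroup' ⟨y, hy⟩
    exact ⟨k, congrArg (fun t : P => ((t : K) : E)) hk⟩
  · rintro ⟨k, hk⟩
    have hx : x ∈ K := (hK x).2 (Nat.Coprime.coprime_dvd_left (orderOf_dvd_of_pow_eq_one hk)
      (Nat.Coprime.pow_left k (by decide)))
    have hz : IsPGroup 2 (zpowers (⟨x, hx⟩ : K)) := by
      obtain ⟨j, -, hj⟩ := (Nat.dvd_prime_pow Nat.prime_two).1 (orderOf_dvd_of_pow_eq_one hk)
      exact IsPGroup.of_card (n := j) (by rw [Nat.card_zpowers, ← Subgroup.orderOf_coe, hj])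
    obtain ⟨Q, hQ⟩ := hz.exists_le_sylow
    haveI := Sylow.unique_of_normal P hP
    rw [Subsingleton.elim Q P] at hQ
    exact ⟨⟨x, hx⟩, hQ (mem_zpowers _), rfl⟩

theorem main : (∃ x y : E, x * y ≠ y * x) ∧ 6 ∣ Nat.card (center E) ∧ (center E).index ∣ 12 := by
  obtain ⟨S, hS⟩ := T.exists_two
  have hSp : IsPGroup 2 S := fun x => by
    obtain ⟨k, hk⟩ := (hS x).1 x.2
    exact ⟨k, Subtype.ext hk⟩
  haveI hSn : S.Normal := ⟨fun x hx g => by
    obtain ⟨k, hk⟩ := (hS x).1 hx
    exact (hS _).2 ⟨k, by rw [conj_pow, hk]; simp⟩⟩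
  obtain ⟨P, hP⟩ := hSp.exists_le_sylow
  have hPS : (P : Subgroup E) = S := le_antisymm (fun x hx => by
    obtain ⟨k, hk⟩ := P.isPGroup' ⟨x, hx⟩
    exact (hS x).2 ⟨k, congrArg Subtype.val hk⟩) hP
  obtain ⟨g, ho, hc⟩ : ∃ g : E, Odd (orderOf g) ∧ g ∉ centralizer (S : Set E) := by
    by_contra h
    push Not at h
    exact T.not_npc (H3.frobenius P fun Q hQ g _ hc => centralizer_le (show (Q : Set E) ⊆ S from
      hPS ▸ hQ) (h g (Nat.coprime_two_right.1 hc)))
  have hg : g ∈ normalizer (S : Set E) := by rw [normalizer_eq_top]; exact mem_top g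
  obtain ⟨e⟩ := q8_of_odd hSp (fun x _ y _ => T.uniq' x y) hg ho hc
  have h3 := three_dvd_of_q8 e hg ho hc
  have hq : ∀ x : QuaternionGroup 2, (∀ y, y * x = x * y) → x * x = 1 := by decide
  have hZS : ∀ x ∈ S, x ∈ centralizer (S : Set E) → x ∈ center E := fun x hx h => by
    have h1 := hq (e ⟨x, hx⟩) fun y => by
      obtain ⟨y, rfl⟩ := e.surjective y
      rw [← map_mul, ← map_mul]
      exact congrArg e (Subtype.ext (h y y.2))
    rw [← map_mul, map_eq_one_iff e e.injective] at h1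
    by_cases h2 : x = 1
    · rw [h2]; exact one_mem _
    · rw [T.uniq x (congrArg Subtype.val h1) h2]; exact T.z_central
  set C := centralizer (S : Set E) with hC
  have hC2 : HasNormalPComplement 2 C := Cfsg.Agent.S1947.result 1 fun a ha => by
    rw [Subgroup.upperCentralSeries_one, mem_center_iff]
    have h1 : (a : E) ∈ S := (hS a).2 (by
      rcases ha with ha | ⟨-, ha⟩
      · exact ⟨1, congrArg Subtype.val ha⟩
      · exact ⟨2, congrArg Subtype.val ha⟩)
    exact fun y => Subtype.ext (mem_center_iff.1 (hZS a h1 a.2) y)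
  have hσS : ∀ x ∈ S, σ x ∈ S := fun x hx => by
    obtain ⟨k, hk⟩ := (hS x).1 hx
    exact (hS _).2 ⟨k, by rw [← map_pow, hk, map_one]⟩
  have hO : ppart 2 C hC2 ≤ center E := T.central
    (fun g x hx => ⟨(inferInstance : C.Normal).conj_mem x hx.1 g, by rw [ord_conj]; exact hx.2⟩)
    (fun x hx => ⟨fun y hy => by
      rw [← T.inv y, ← map_mul, ← map_mul, hx.1 _ (hσS y hy)], by rw [T.ord]; exact hx.2⟩)
    (fun x hx => Nat.coprime_two_right.1 hx.2)
  have hCZ : C = center E := le_antisymm (fun x hx => by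
    obtain ⟨a, b, ⟨k, hk⟩, h2, h4⟩ := H3.exists_pPart_mul_pPrimePart (p := 2) x (orderOf_pos x).ne'
    rw [← h4]
    exact mul_mem (hZS _ ((hS _).2 ⟨k, by rw [← hk, pow_orderOf_eq_one]⟩) (pow_mem hx a))
      (hO ⟨pow_mem hx b, h2⟩)) (center_le_centralizer _)
  have h2Z : 2 ∣ Nat.card (center E) := by
    rw [← orderOf_eq_two_iff'.2 ⟨T.z1, T.z2⟩]
    exact (center E).orderOf_dvd_natCard T.z_central
  refine ⟨?_, ?_, ?_⟩
  · by_contra h
    push Not at h
    exact hc fun x _ => h x g
  · haveI : Fact (Nat.Prime 3) := ⟨Nat.prime_three⟩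
    obtain ⟨x, hx⟩ := exists_prime_orderOf_dvd_card' (G := E) 3 (h3.trans (orderOf_dvd_natCard g))
    refine Nat.Coprime.mul_dvd_of_dvd_of_dvd (m := 2) (n := 3) (by decide) h2Z ?_
    rw [← hx]
    exact (center E).orderOf_dvd_natCard (T.three_central (by rw [← hx, pow_orderOf_eq_one]))
  · have h1 : (center E).index ∣ 24 := by
      rw [← hCZ, ← card_aut_q8 e]; exact index_cent_dvd
    have h8 : Nat.card S = 8 := by
      rw [Nat.card_congr e.toEquiv, Nat.card_eq_fintype_card, QuaternionGroup.card]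
    have h16 : ¬ 8 ∣ (center E).index := fun h => by
      have h4 : 2 * 8 ∣ Nat.card E := by
        rw [← (center E).card_mul_index]; exact mul_dvd_mul h2Z h
      rw [← (P : Subgroup E).card_mul_index, hPS, h8, mul_comm 2] at h4
      have h5 := Nat.dvd_of_mul_dvd_mul_left (by decide) h4
      exact P.not_dvd_index (hPS ▸ h5)
    have h5 := Nat.le_of_dvd (by decide) h1
    generalize (center E).index = m at *
    interval_cases m <;> simp_all

end Tw

end H26
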