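import Cfsg.Agent.H26.ZS14
import Mathlib.GroupTheory.Focal

/-!
Sharply triply transitive groups of even degree.
-/

set_option autoImplicit false
set_option linter.unusedSectionVars false
set_option linter.style.haveILetI false

namespace H26

open MulAction Cfsg
open scoped MatrixGroups

theorem ringHom_eq_id_of_odd {K : Type*} [Field K] [Fintype K] {p f : ℕ} (hp : p.Prime)
    (hK : Fintype.card K = p ^ f) (hf : Odd f) (α : K →+* K) (h : ∀ x, α (α x) = x) (x : K) :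
    α x = x := by
  haveI := Fact.mk hp
  haveI : CharP K p := by
    obtain ⟨n, h1, h2⟩ := FiniteField.card K (ringChar K)
    have h3 : ringChar K ∣ p ^ f := by rw [← hK, h2]; exact dvd_pow_self _ n.ne_zero
    have := (Nat.prime_dvd_prime_iff_eq h1 hp).1 (h1.dvd_of_dvd_pow h3)
    rw [← this]; infer_instance
  letI := ZMod.algebra K p
  have h1 : Module.finrank (ZMod p) K = f := by
    have := Module.card_eq_pow_finrank (K := ZMod p) (V := K)
    rw [hK, ZMod.card] at this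
    exact (Nat.pow_right_injective hp.two_le this).symm
  let β : K ≃ₐ[ZMod p] K := AlgEquiv.ofRingEquiv
    (f := RingEquiv.ofBijective α (Function.Involutive.bijective h)) fun x =>
      RingHom.congr_fun (Subsingleton.elim (α.comp (algebraMap (ZMod p) K)) (algebraMap _ _)) x
  have h2 : orderOf β ∣ f := by
    rw [← h1, ← IsGalois.card_aut_eq_finrank]; exact orderOf_dvd_natCard β
  have h3 : orderOf β ∣ 2 := orderOf_dvd_of_pow_eq_one (by ext y; exact h y)
  have h4 : β = 1 := orderOf_eq_one_iff.1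
    (Nat.eq_one_of_dvd_coprimes (Nat.coprime_two_right.2 hf) h2 h3)
  exact DFunLike.congr_fun h4 x

theorem ZCoord.semilin {G : Type*} [Group G] {H A : Subgroup G} {K : Type*} [Field K] {τ : K → G}
    {χ : G → K} (h : ZCoord H A K τ χ) (hgen : Subring.closure (χ '' A) = ⊤) {d : G}
    (hH : ∀ u ∈ H, d * u * d⁻¹ ∈ H) (hA : ∀ e ∈ A, d * e * d⁻¹ ∈ A) :
    ∃ (α : K →+* K) (c : K), (∀ x, d * τ x * d⁻¹ = τ (c * α x)) ∧
      ∀ e ∈ A, α (χ e) = χ (d * e * d⁻¹) := by
  have : ∀ x, ∃ y, τ y = d * τ x * d⁻¹ := fun x => (h.mem _).1 (hH _ (h.mem' x))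
  choose φ hφ using this
  have hadd : ∀ x y, φ (x + y) = φ x + φ y := fun x y => h.inj (by
    rw [h.add, hφ, hφ, hφ, h.add]; group)
  have h0 : φ 0 = 0 := h.inj (by rw [hφ, h.zero]; simp)
  have hneg : ∀ x, φ (-x) = -φ x := fun x => by
    have := hadd x (-x)
    rw [add_neg_cancel, h0] at this
    exact (neg_eq_of_add_eq_zero_right this.symm).symm
  have hc : φ 1 ≠ 0 := fun e => by
    have := hφ 1
    rw [e, h.zero, eq_comm, mul_inv_eq_one, mul_eq_left, h.eq_one] at this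
    exact one_ne_zero this
  have hχ : ∀ e ∈ A, ∀ x, φ (χ e * x) = χ (d * e * d⁻¹) * φ x := fun e he x => h.inj (by
    rw [hφ, ← h.conj e he, ← h.conj _ (hA e he), hφ]; group)
  have key : ∀ k, ∀ x, φ (k * x) * φ 1 = φ k * φ x := fun k => by
    have hk : k ∈ Subring.closure (χ '' A) := hgen ▸ Subring.mem_top k
    induction hk using Subring.closure_induction with
    | mem k hk =>
      obtain ⟨e, he, rfl⟩ := hk
      intro x
      have := hχ e he 1
      rw [mul_one] at this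
      rw [hχ e he, this]; ring
    | zero => intro x; simp [h0]
    | one => intro x; rw [one_mul, mul_comm]
    | add k l _ _ hk hl => intro x; rw [add_mul, hadd, hadd, add_mul, add_mul, hk, hl]
    | neg k _ hk => intro x; rw [neg_mul, hneg, hneg, neg_mul, neg_mul, hk]
    | mul k l _ _ hk hl =>
      intro x
      refine mul_right_cancel₀ hc ?_
      rw [mul_assoc k, hk, mul_assoc, hl, mul_right_comm, hk, mul_assoc]
  refine ⟨{ toFun := fun x => φ x / φ 1
            map_one' := div_self hc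
            map_mul' := fun x y => by field_simp; exact key x y
            map_zero' := by simp [h0]
            map_add' := fun x y => by rw [hadd, add_div] }, φ 1, fun x => ?_, fun e he => ?_⟩
  · rw [← hφ]; congr 1; change _ = φ 1 * (φ x / φ 1); field_simp
  · have := hχ e he 1
    rw [mul_one] at this
    change φ (χ e) / φ 1 = _
    rw [this]; field_simp

namespace Z3

variable {G Ω : Type*} [Group G] [MulAction G Ω] (hZ : Z3 G Ω) {a b : Ω} {H : Subgroup G}
  [Finite G] [Finite Ω]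
include hZ

theorem eq_one_of_cent (hK : Ker a H) (hab : b ≠ a) (hH : H ≠ ⊥) {d : G} (hd : d ∈ D2 G a b)
    (h : ∀ u ∈ H, d * u * d⁻¹ = u) : d = 1 := by
  by_contra h1
  obtain ⟨⟨u, hu⟩, hu1⟩ := Subgroup.ne_bot_iff_exists_ne_one.1 hH
  exact hu1 (Subtype.ext (hZ.fpf hK hab hd h1 hu (mul_inv_eq_iff_eq_mul.1 (h u hu)).symm))

theorem inv_unique (hK : Ker a H) (hab : b ≠ a) {x y : G} (hx : x ∈ D2 G a b) (hy : y ∈ D2 G a b)
    (h1 : x * x = 1) (h2 : y * y = 1) (h3 : x ≠ 1) (h4 : y ≠ 1) : x = y := by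
  have hD : D2 G a b ≠ ⊥ := fun e => h3 (by rwa [e] at hx)
  have key : ∀ x ∈ D2 G a b, x * x = 1 → x ≠ 1 → ∀ u ∈ H, x * u * x⁻¹ = u⁻¹ :=
    fun x hx h1 h3 u hu => inverts_of_fpf h1 (hK.conj x hx.1)
      (fun v hv e => hZ.fpf hK hab hx h3 hv e.symm) hu
  have := hZ.eq_one_of_cent hK hab (hZ.ker_ne_bot hK hab hD) (mul_mem hx hy) fun u hu => by
    calc x * y * u * (x * y)⁻¹ = x * (y * u * y⁻¹) * x⁻¹ := by group
      _ = u := by rw [key y hy h2 h4 u hu, key x hx h1 h3 _ (inv_mem hu), inv_inv]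
  rw [← mul_left_inj y, this, h2]

theorem comm_of_irr (hK : Ker a H) (hab : b ≠ a) (hH : H ≠ ⊥) (hc : IsMulCommutative H)
    {A : Subgroup G} (hA : A ≤ D2 G a b) (hcen : ∀ d ∈ D2 G a b, ∀ e ∈ A, d * e = e * d)
    (hirr : ∀ C : Subgroup G, C ≤ H → A ≤ Subgroup.normalizer (C : Set G) → C = ⊥ ∨ C = H)
    {x y : G} (hx : x ∈ D2 G a b) (hy : y ∈ D2 G a b) : x * y = y * x := by
  obtain ⟨K, _, _, τ, χ, h, hgen⟩ := H26.exists_coord (A := A) hH
    (fun x hx y hy u _ => by rw [hcen x (hA hx) y hy]) (hA.trans hK.D_le_norm) hirr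
  have key : ∀ d ∈ D2 G a b, ∃ c, ∀ x, d * τ x * d⁻¹ = τ (c * x) := fun d hd => by
    have h0 : ∀ e ∈ A, d * e * d⁻¹ = e := fun e he => by rw [hcen d hd e he]; simp
    obtain ⟨α, c, h1, h2⟩ := h.semilin hgen (hK.conj d hd.1) fun e he => by rwa [h0 e he]
    have h3 : α = RingHom.id K := RingHom.eq_of_eqOn_set_dense hgen (by
      rintro _ ⟨e, he, rfl⟩
      rw [h2 e he, h0 e he]; rfl)
    exact ⟨c, fun x => by rw [h1, h3]; rfl⟩
  obtain ⟨c, h1⟩ := key x hx
  obtain ⟨c', h2⟩ := key y hy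
  have := hZ.eq_one_of_cent hK hab hH (mul_mem (inv_mem (mul_mem hy hx)) (mul_mem hx hy))
    fun u hu => by
      obtain ⟨t, rfl⟩ := (h.mem u).1 hu
      have e1 : x * y * τ t * (x * y)⁻¹ = y * x * τ t * (y * x)⁻¹ := by
        calc _ = x * (y * τ t * y⁻¹) * x⁻¹ := by group
          _ = y * (x * τ t * x⁻¹) * y⁻¹ := by rw [h2, h1, h1, h2, mul_left_comm]
          _ = _ := by group
      calc _ = (y * x)⁻¹ * (x * y * τ t * (x * y)⁻¹) * (y * x) := by group
        _ = _ := by rw [e1]; group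
  exact (inv_mul_eq_one.1 this).symm

theorem dvd_sub' (hK : Ker a H) (hab : b ≠ a) {A C : Subgroup G} (hA : A ≤ D2 G a b) (hC : C ≤ H)
    (hn : A ≤ Subgroup.normalizer (C : Set G)) : Nat.card A ∣ Nat.card C - 1 :=
  FT.sreg_dvd hn fun d hd => hZ.sreg hK hab hC d (hA hd)

theorem not_tw (hK : Ker a H) (hab : b ≠ a) (hq : Nat.card H = Nat.card (D2 G a b) + 1)
    {σ : D2 G a b →* D2 G a b} {z : D2 G a b} : ¬ Tw σ z := by
  intro T
  obtain ⟨⟨x, y, hxy⟩, h6, h12⟩ := T.main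
  have h0 : 0 < Nat.card (D2 G a b) := Nat.card_pos
  have hH : H ≠ ⊥ := by rintro rfl; rw [Subgroup.card_bot] at hq; omega
  have hc := hZ.comm_of_le hK hab (by omega)
  set Z := (Subgroup.center (D2 G a b)).map (D2 G a b).subtype with hZd
  have hZD : Z ≤ D2 G a b := Subgroup.map_subtype_le _
  have hcen : ∀ d ∈ D2 G a b, ∀ e ∈ Z, d * e = e * d := by
    rintro d hd _ ⟨e, he, rfl⟩
    exact congrArg Subtype.val (Subgroup.mem_center_iff.1 he ⟨d, hd⟩)
  have hcZ : Nat.card Z = Nat.card (Subgroup.center (D2 G a b)) :=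
    Subgroup.card_map_of_injective (D2 G a b).subtype_injective
  obtain ⟨W, ⟨hW0, hWH, hWn⟩, hmin⟩ := exists_minimal_of_wellFoundedLT
    (fun W : Subgroup G => W ≠ ⊥ ∧ W ≤ H ∧ Z ≤ Subgroup.normalizer (W : Set G))
    ⟨H, hH, le_rfl, hZD.trans hK.D_le_norm⟩
  have hW1 : W ≠ H := by
    rintro rfl
    refine hxy (Subtype.ext (hZ.comm_of_irr hK hab hH hc hZD hcen (fun C h1 h2 => ?_) x.2 y.2))
    by_cases h3 : C = ⊥
    · exact Or.inl h3
    · exact Or.inr (le_antisymm h1 (hmin ⟨h3, h1, h2⟩ h1))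
  obtain ⟨d, hd, hdn⟩ : ∃ d ∈ D2 G a b, d ∉ Subgroup.normalizer (W : Set G) := by
    by_contra h
    push Not at h
    exact (hZ.irr hK hab (by omega) hWH h).elim hW0 hW1
  set W' := W.map (MulAut.conj d).toMonoidHom with hW'
  have hmem : ∀ u, u ∈ W' ↔ d⁻¹ * u * d ∈ W := fun u => by
    rw [hW', Subgroup.mem_map_equiv]; simp
  have hcW : Nat.card W' = Nat.card W := Subgroup.card_map_of_injective (MulAut.conj d).injective
  have hdis : Disjoint W W' := by
    rw [disjoint_iff]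
    by_contra h
    have h1 : W ≤ W ⊓ W' := hmin ⟨h, inf_le_left.trans hWH, fun e he => by
      rw [Subgroup.mem_normalizer_iff]
      intro u
      have e1 := hcen d hd e he
      have e2 : d⁻¹ * (e * u * e⁻¹) * d = e * (d⁻¹ * u * d) * e⁻¹ := by
        calc _ = d⁻¹ * (e * d) * (d⁻¹ * u * d) * (d⁻¹ * (e * d))⁻¹ := by group
          _ = _ := by rw [← e1]; group
      rw [Subgroup.mem_inf, Subgroup.mem_inf, hmem, hmem, e2,
        ← Subgroup.mem_normalizer_iff.1 (hWn he), ← Subgroup.mem_normalizer_iff.1 (hWn he)]⟩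
      inf_le_left
    have h2 : W = W' := Subgroup.eq_of_le_of_card_ge (h1.trans inf_le_right) hcW.le
    refine hdn (Subgroup.mem_normalizer_iff.2 fun u => ?_)
    conv_rhs => rw [h2, hmem]
    simp [mul_assoc]
  have hW'H : W' ≤ H := fun u hu => by
    have := hK.conj d hd.1 _ (hWH ((hmem u).1 hu))
    simpa [mul_assoc] using this
  have h1 : Nat.card W * Nat.card W ≤ Nat.card H := by
    have := Nat.card_le_card_of_injective
      (fun p : W × W' => (⟨p.1 * p.2, mul_mem (hWH p.1.2) (hW'H p.2.2)⟩ : H))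
      fun p q e => Subgroup.mul_injective_of_disjoint hdis (congrArg Subtype.val e)
    rwa [Nat.card_prod, hcW] at this
  obtain ⟨j, hj⟩ := hZ.dvd_sub' hK hab hZD hWH hWn
  have h2 := Subgroup.card_dvd_of_le hWH
  have h3 := H2.two_le_card_of_ne_bot hW0
  have h4 := (Subgroup.center (D2 G a b)).card_mul_index
  rw [hq, ← h4] at h1 h2
  rw [hcZ] at hj
  obtain ⟨n, hn⟩ := h6
  have h5 := Nat.le_of_dvd (by decide) h12
  generalize (Subgroup.center (D2 G a b)).index = m at *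
  generalize Nat.card (Subgroup.center (D2 G a b)) = c at *
  generalize Nat.card W = w at *
  subst hn
  obtain rfl : w = 6 * n * j + 1 := by omega
  have hn0 : n ≠ 0 := by rintro rfl; omega
  have hj0 : j ≠ 0 := by rintro rfl; omega
  have h7 : 6 * n * (j * (6 * n * j) + 2 * j) ≤ 6 * n * m := by nlinarith
  have h8 := Nat.le_of_mul_le_mul_left h7 (by omega)
  have h9 : 1 * (6 * n * 1) ≤ j * (6 * n * j) := by gcongr <;> omega
  have h10 : n = 1 := by omega
  subst h10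
  have h11 : j = 1 := by nlinarith
  subst h11
  interval_cases m <;> simp_all

omit [Finite G] [Finite Ω] in
theorem sq_of_fix (hab : b ≠ a) {s : G} (hs : s ∈ Swap G a b) {c : Ω} (hc : s • c = c) :
    c ≠ a ∧ c ≠ b ∧ s * s = 1 := by
  have h1 : c ≠ a := by rintro rfl; exact hab (hs.1.symm.trans hc)
  have h2 : c ≠ b := by rintro rfl; exact hab (hc.symm.trans hs.2)
  exact ⟨h1, h2, hZ.three _ a b c hab.symm h2.symm h1.symm (by rw [mul_smul, hs.1, hs.2])
    (by rw [mul_smul, hs.2, hs.1]) (by rw [mul_smul, hc, hc])⟩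

/-- the subgroup of index two in the two point stabiliser -/
theorem exists_half (h3 : IsMultiplyPretransitive G Ω 3) (hab : b ≠ a)
    (he : Even (Nat.card (D2 G a b))) {s : G} (hs : s ∈ Swap G a b) {c : Ω} (hc : s • c = c) :
    ∃ N : Subgroup G, N ≤ D2 G a b ∧ N.relIndex (D2 G a b) = 2 ∧
      (∀ d, d ∈ N ↔ d ∈ D2 G a b ∧ ∃ x : Ω, (s * d) • x = x) ∧ ∀ d ∈ N, s * d * s⁻¹ = d⁻¹ := by
  obtain ⟨hca, hcb, hss⟩ := hZ.sq_of_fix hab hs hc
  obtain ⟨H, hK⟩ := hZ.exists_ker hab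
  obtain ⟨z, hz, hz1, hz2⟩ := exists_inv_of_even he
  have hD : D2 G a b ≠ ⊥ := fun e => hz1 (by rwa [e] at hz)
  have hq := hZ.card_of_three h3 hK hab (hZ.ker_ne_bot hK hab hD)
  have hsi : s⁻¹ = s := inv_eq_of_mul_eq_one_right hss
  have hsw : ∀ d ∈ D2 G a b, s * d ∈ Swap G a b := fun d hd =>
    ⟨by rw [mul_smul, hd.1, hs.1], by rw [mul_smul, hd.2, hs.2]⟩
  set J : Set G := {d | d ∈ D2 G a b ∧ ∃ x : Ω, (s * d) • x = x} with hJ
  have hJD : Subgroup.closure J ≤ D2 G a b := (Subgroup.closure_le _).2 fun d hd => hd.1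
  have hcard : Nat.card (D2 G a b) ≤ 2 * J.ncard := by
    have h1 := hZ.card_le_two_mul hab he
    rw [hK.card_Ω hab, hq] at h1
    have h2 : {s ∈ Swap G a b | s * s = 1 ∧ ∃ c : Ω, s • c = c} ⊆ (fun d => s * d) '' J := by
      rintro t ⟨h1, -, x, hx⟩
      have e : s * (s * t) = t := by rw [← mul_assoc, hss, one_mul]
      exact ⟨s * t, ⟨swap_mul hs.1 hs.2 h1.1 h1.2, x, by rwa [e]⟩, e⟩
    have h4 := (Set.ncard_le_ncard h2).trans (Set.ncard_image_le (Set.toFinite J))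
    omega
  let σ : D2 G a b →* D2 G a b :=
    { toFun := fun d => ⟨s * d * s⁻¹, swap_conj hs.1 hs.2 d.2⟩
      map_one' := by ext; simp
      map_mul' := fun x y => by ext; simp [mul_assoc] }
  have hne : Subgroup.closure J ≠ D2 G a b := by
    intro hJe
    refine hZ.not_tw hK hab hq (σ := σ) (z := ⟨z, hz⟩)
      ⟨fun x => Subtype.ext ?_, ?_, fun e => hz1 (congrArg Subtype.val e), Subtype.ext hz2,
        fun x h1 h2 => Subtype.ext (hZ.inv_unique hK hab x.2 hz (congrArg Subtype.val h1) hz2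
          (fun e => h2 (Subtype.ext e)) hz1), fun x hx => Subtype.ext ?_, ?_⟩
    · change s * (s * (x : G) * s⁻¹) * s⁻¹ = x
      calc _ = (s * s) * (x : G) * (s * s)⁻¹ := by group
        _ = _ := by rw [hss]; simp
    · refine Subgroup.map_injective (D2 G a b).subtype_injective ?_
      rw [← MonoidHom.range_eq_map, Subgroup.range_subtype, MonoidHom.map_closure]
      refine le_antisymm ((Subgroup.closure_le _).2 ?_) (hJe.ge.trans (Subgroup.closure_mono ?_))
      · rintro _ ⟨x, -, rfl⟩; exact x.2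
      · rintro d ⟨hd, x, hx⟩
        obtain ⟨h1, h2, -⟩ := hZ.sq_of_fix hab (hsw d hd) hx
        obtain ⟨δ, hδ, rfl⟩ := trans_of_three h3 hab hca hcb h1 h2
        have e : s * d = δ * s * δ⁻¹ := hZ.ext3 hab.symm h2.symm h1.symm
          (by rw [(hsw d hd).1, mul_smul, mul_smul, inv_fix hδ.1, hs.1, hδ.2])
          (by rw [(hsw d hd).2, mul_smul, mul_smul, inv_fix hδ.2, hs.2, hδ.1])
          (by rw [hx, mul_smul, mul_smul, inv_smul_smul, hc])
        refine ⟨_, ⟨(σ ⟨δ, hδ⟩)⁻¹, rfl⟩, ?_⟩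
        change (s * δ * s⁻¹)⁻¹⁻¹ * (s * (s * δ * s⁻¹)⁻¹ * s⁻¹) = d
        calc _ = s * δ * (s * δ⁻¹) * (s * s)⁻¹ := by group
          _ = s * (δ * s * δ⁻¹) := by rw [hss]; group
          _ = d := by rw [← e, ← mul_assoc, hss, one_mul]
    · have h1 : s * (x : G) = x * s := mul_inv_eq_iff_eq_mul.1 (congrArg Subtype.val hx)
      have h2 : ∀ y : Ω, s • y = y → s • (x : G) • y = (x : G) • y := fun y hy => by
        rw [← mul_smul, h1, mul_smul, hy]
      have hx3 : ∀ g ∈ D2 G a b, g • c = c → g = 1 := fun g hg h =>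
        hZ.three g a b c hab.symm hcb.symm hca.symm hg.1 hg.2 h
      change (x : G) * x = 1
      by_cases h4 : (x : G) • c = c
      · rw [hx3 x x.2 h4, one_mul]
      by_contra h5
      have h6 : (x : G) • (x : G) • c ≠ c := fun e => h5 (hx3 _ (mul_mem x.2 x.2) (by rwa [mul_smul]))
      have := hZ.three s c ((x : G) • c) ((x : G) • (x : G) • c) (Ne.symm h4)
        (fun e => h4 (smul_left_cancel (x : G) e).symm) h6.symm hc (h2 c hc) (h2 _ (h2 c hc))
      exact hab (by rw [← hs.1, this, one_smul])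
    · refine le_trans (le_of_eq ?_) (hZ.card_three_le hab hD)
      rw [← Set.ncard_image_of_injective _ Subtype.val_injective]
      congr 1
      ext d
      constructor
      · rintro ⟨x, hx, rfl⟩
        exact ⟨x.2, by rw [Subgroup.orderOf_coe]; exact hx⟩
      · rintro ⟨h1, h2⟩
        exact ⟨⟨d, h1⟩, by rw [Set.mem_ofPred_eq, ← Subgroup.orderOf_coe]; exact h2, rfl⟩
  have h1 : Nat.card (Subgroup.closure J) * (Subgroup.closure J).relIndex (D2 G a b) =
      Nat.card (D2 G a b) := by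
    rw [← Nat.card_congr (Subgroup.subgroupOfEquivOfLe hJD).toEquiv]
    exact Subgroup.card_mul_index _
  have h2 : (Subgroup.closure J).relIndex (D2 G a b) ≠ 1 := fun e =>
    hne (le_antisymm hJD (Subgroup.relIndex_eq_one.1 e))
  have h4 : J.ncard ≤ Nat.card (Subgroup.closure J) :=
    Set.ncard_le_ncard (t := (Subgroup.closure J : Set G)) Subgroup.subset_closure
  have h5 : 0 < Nat.card (D2 G a b) := Nat.card_pos
  have h6 : (Subgroup.closure J).relIndex (D2 G a b) = 2 := by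
    rcases h7 : (Subgroup.closure J).relIndex (D2 G a b) with _ | _ | _ | k
    · rw [h7] at h1; omega
    · exact absurd h7 h2
    · rfl
    · rw [h7] at h1; nlinarith
  have h7 : J = (Subgroup.closure J : Set G) :=
    Set.eq_of_subset_of_ncard_le Subgroup.subset_closure (by
      change Nat.card (Subgroup.closure J) ≤ _
      rw [h6] at h1; omega)
  have h8 : ∀ d, d ∈ Subgroup.closure J ↔ d ∈ J := fun d => by
    conv_rhs => rw [h7]
    rfl
  refine ⟨_, hJD, h6, h8, fun d hd => ?_⟩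
  obtain ⟨hd, x, hx⟩ := (h8 d).1 hd
  have := (hZ.sq_of_fix hab (hsw d hd) hx).2.2
  rw [hsi]
  exact eq_inv_of_mul_eq_one_left (by rw [← this]; group)

theorem sq_mem_of_half {N D : Subgroup G} (h : N.relIndex D = 2) {d : G} (hd : d ∈ D) :
    d * d ∈ N := Subgroup.mul_self_mem_of_index_two h ⟨d, hd⟩

/-- sharply triply transitive groups of degree `p ^ f + 1` with `p`, `f` odd -/
theorem pgl_of_odd_exp (h3 : IsMultiplyPretransitive G Ω 3) (hK : Ker a H) (hab : b ≠ a)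
    {p f : ℕ} (hp : p.Prime) (hp2 : p ≠ 2) (hf : Odd f) (hH : Nat.card H = p ^ f) :
    ∃ (K : Type) (_ : Field K) (_ : Fintype K), Fintype.card K = Nat.card H ∧
      Nonempty (G ≃* PGL(2, K)) := by
  have h1 : 1 < p ^ f := Nat.one_lt_pow hf.pos.ne' hp.one_lt
  have hH0 : H ≠ ⊥ := by rintro rfl; rw [Subgroup.card_bot] at hH; omega
  have hq := hZ.card_of_three h3 hK hab hH0
  have he : Even (Nat.card (D2 G a b)) := by
    have := (hp.odd_of_ne_two hp2).pow (n := f)
    rw [← hH, hq] at this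
    exact Nat.odd_add_one.1 this |> Nat.not_odd_iff_even.1
  obtain ⟨z, hz, hz1, -⟩ := exists_inv_of_even he
  obtain ⟨c, hca, hcb⟩ := hZ.exists_third hab fun e => hz1 (by rwa [e] at hz)
  obtain ⟨s, hs, hss, hc⟩ := hZ.exists_swap_fix hab he hca hcb
  obtain ⟨N, hN, h2, -, hinv⟩ := hZ.exists_half h3 hab he hs hc
  have hc := hZ.comm_of_le hK hab (by omega)
  have hNc : ∀ x ∈ N, ∀ y ∈ N, x * y = y * x := fun x hx y hy =>
    congrArg Subtype.val ((comm_of_inverts hinv).is_comm.comm (⟨x, hx⟩ : N) ⟨y, hy⟩)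
  have hcN : Nat.card N * 2 = Nat.card (D2 G a b) := by
    rw [← h2, ← Nat.card_congr (Subgroup.subgroupOfEquivOfLe hN).toEquiv]
    exact Subgroup.card_mul_index _
  have hirr : ∀ C : Subgroup G, C ≤ H → N ≤ Subgroup.normalizer (C : Set G) → C = ⊥ ∨ C = H := by
    intro C hC hn
    by_contra h
    push Not at h
    have h4 := H2.two_le_card_of_ne_bot h.1
    have h5 := Nat.le_of_dvd (by omega) (hZ.dvd_sub' hK hab hN hC hn)
    obtain ⟨k, hk⟩ := Subgroup.card_dvd_of_le hC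
    rcases k with _ | _ | k
    · omega
    · exact h.2 (Subgroup.eq_of_le_of_card_ge hC (by omega))
    · have : Nat.card C * 2 ≤ Nat.card C * (k + 1 + 1) := Nat.mul_le_mul_left _ (by omega)
      omega
  have hcen : ∀ d ∈ D2 G a b, ∀ e ∈ N, d * e = e * d := by
    obtain ⟨K, _, _, τ, χ, h, hgen⟩ := H26.exists_coord (A := N) hH0
      (fun x hx y hy u _ => by rw [hNc x hx y hy]) (hN.trans hK.D_le_norm) hirr
    intro d hd e he
    have hn : ∀ e ∈ N, d * e * d⁻¹ ∈ N := fun e he =>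
      (Subgroup.normal_of_index_eq_two h2).conj_mem ⟨e, hN he⟩ he ⟨d, hd⟩
    obtain ⟨α, c, -, h5⟩ := h.semilin hgen (hK.conj d hd.1) hn
    have h6 : α.comp α = RingHom.id K := RingHom.eq_of_eqOn_set_dense hgen (by
      rintro _ ⟨e, he, rfl⟩
      change α (α (χ e)) = χ e
      rw [h5 e he, h5 _ (hn e he)]
      congr 1
      calc _ = d * d * e * (d * d)⁻¹ := by group
        _ = e := by rw [hNc _ (hZ.sq_mem_of_half h2 hd) e he, mul_inv_cancel_right])
    have h7 := ringHom_eq_id_of_odd hp (by rw [← hH, h.card, Nat.card_eq_fintype_card]) hf α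
      (RingHom.congr_fun h6) (χ e)
    rw [h5 e he] at h7
    exact mul_inv_eq_iff_eq_mul.1 (hZ.χ_inj hK hab h hN (hn e he) he h7)
  exact hZ.pgl_of_comm h3 hK hab hH0 ⟨⟨fun x y => Subtype.ext
    (hZ.comm_of_irr hK hab hH0 hc hN hcen hirr x.2 y.2)⟩⟩ hs hss
    fun d hd => hinv _ (hZ.sq_mem_of_half h2 hd)

/-- a sharply triply transitive group of even degree has a subgroup of index two -/
theorem exists_index_two (h3 : IsMultiplyPretransitive G Ω 3) (hab : b ≠ a)
    (he : Even (Nat.card (D2 G a b))) : ∃ φ : G →* ℤˣ, ∃ d ∈ D2 G a b, φ d ≠ 1 := by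
  classical
  obtain ⟨H, hK⟩ := hZ.exists_ker hab
  obtain ⟨z, hz, hz1, hz2⟩ := exists_inv_of_even he
  have hD : D2 G a b ≠ ⊥ := fun e => hz1 (by rwa [e] at hz)
  have hq := hZ.card_of_three h3 hK hab (hZ.ker_ne_bot hK hab hD)
  obtain ⟨m, hm⟩ := he
  rcases Nat.even_or_odd m with hm2 | hm2
  swap
  · letI := Fintype.ofFinite Ω
    refine ⟨Equiv.Perm.sign.comp (toPermHom G Ω), z, hz, ?_⟩
    rw [MonoidHom.comp_apply, Equiv.Perm.sign_of_pow_two_eq_one (by
      rw [← map_pow, pow_two, hz2, map_one])]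
    have h1 : Fintype.card (Function.fixedPoints (toPermHom G Ω z)) = 2 := by
      rw [← Nat.card_eq_fintype_card, Nat.card_coe_set_eq, ← Set.ncard_pair hab.symm]
      congr 1
      ext x
      exact ⟨fun h => hZ.fix_cases hab hz hz1 h, by rintro (rfl | rfl); exacts [hz.1, hz.2]⟩
    rw [h1, ← Nat.card_eq_fintype_card, hK.card_Ω hab, hq, hm,
      show (m + m + 1 + 1 - 2) / 2 = m by omega, hm2.neg_one_pow]
    decide
  obtain ⟨c, hca, hcb⟩ := hZ.exists_third hab hD
  obtain ⟨s, hs, hss, hc⟩ := hZ.exists_swap_fix hab ⟨m, hm⟩ hca hcb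
  obtain ⟨N, hN, h2, hmem, hinv⟩ := hZ.exists_half h3 hab ⟨m, hm⟩ hs hc
  have hsi : s⁻¹ = s := inv_eq_of_mul_eq_one_right hss
  have hcN : Nat.card N * 2 = Nat.card (D2 G a b) := by
    rw [← h2, ← Nat.card_congr (Subgroup.subgroupOfEquivOfLe hN).toEquiv]
    exact Subgroup.card_mul_index _
  have hzN : ∀ x ∈ D2 G a b, x * x = 1 → x ∈ N := fun x hx h => by
    by_cases h1 : x = 1
    · rw [h1]; exact one_mem _
    obtain ⟨y, hy, hy1, hy2⟩ := exists_inv_of_even (X := N) (by rwa [show Nat.card N = m by omega])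
    rwa [hZ.inv_unique hK hab hx (hN hy) h hy2 h1 hy1]
  set L := Subgroup.normalizer ((D2 G a b : Subgroup G) : Set G) with hL
  have hmL : ∀ g, g ∈ L ↔ g ∈ D2 G a b ∨ g ∈ Swap G a b := fun g => hZ.mem_norm_D hab hD
  have hsL : s ∈ L := (hmL s).2 (Or.inr hs)
  have hDS : ∀ g, g ∈ D2 G a b → g ∉ Swap G a b := fun g h1 h2 => hab (h2.1.symm.trans h1.1)
  have hsD : ∀ g ∈ D2 G a b, s * g ∈ Swap G a b := fun d hd =>
    ⟨by rw [mul_smul, hd.1, hs.1], by rw [mul_smul, hd.2, hs.2]⟩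
  have hmul : ∀ x ∈ D2 G a b, ∀ y ∈ D2 G a b, (x * y ∈ N ↔ (x ∈ N ↔ y ∈ N)) := fun x hx y hy =>
    Subgroup.mul_mem_iff_of_index_two (H := N.subgroupOf (D2 G a b)) h2 (a := ⟨x, hx⟩) (b := ⟨y, hy⟩)
  have hsN : ∀ x ∈ D2 G a b, s * x * s ∈ N ↔ x ∈ N := fun x hx => by
    constructor
    · intro h
      have := hinv _ h
      rw [hsi, ← mul_assoc, ← mul_assoc, hss, one_mul, mul_assoc, hss, mul_one] at this
      rw [this]; exact inv_mem h
    · intro h
      rw [← hsi, hsi, show s * x * s = s * x * s⁻¹ by rw [hsi], hinv x h]; exact inv_mem h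
  -- the character of `L`
  let P : G → Prop := fun g => g ∈ N ∨ s * g ∈ N
  have hPD : ∀ g ∈ D2 G a b, P g ↔ g ∈ N := fun g hg =>
    ⟨fun h => h.resolve_right fun h => hDS _ (hN h) (hsD g hg), Or.inl⟩
  have hPS : ∀ g ∈ D2 G a b, P (s * g) ↔ g ∈ N := fun g hg => by
    have e : s * (s * g) = g := by rw [← mul_assoc, hss, one_mul]
    exact ⟨fun h => e ▸ h.resolve_left fun h => hDS _ (hN h) (hsD g hg), fun h => Or.inr (e.symm ▸ h)⟩
  have hcase : ∀ g ∈ L, ∃ d ∈ D2 G a b, g = d ∨ g = s * d := fun g hg => by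
    rcases (hmL g).1 hg with h | h
    · exact ⟨g, h, Or.inl rfl⟩
    · exact ⟨s * g, swap_mul hs.1 hs.2 h.1 h.2, Or.inr (by rw [← mul_assoc, hss, one_mul])⟩
  have hcs : ∀ x ∈ D2 G a b, s * x * s ∈ D2 G a b := fun x hx => by
    have := swap_conj hs.1 hs.2 hx
    rwa [hsi] at this
  have hPmul : ∀ x ∈ L, ∀ y ∈ L, P (x * y) ↔ (P x ↔ P y) := by
    intro x hx y hy
    obtain ⟨d, hd, rfl | rfl⟩ := hcase x hx <;> obtain ⟨e, he, rfl | rfl⟩ := hcase y hy
    · rw [hPD _ (mul_mem hd he), hPD _ hd, hPD _ he, hmul _ hd _ he]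
    · rw [show x * (s * e) = s * (s * x * s * e) by
        rw [← mul_assoc, ← mul_assoc, ← mul_assoc, ← mul_assoc, hss, one_mul],
        hPS _ (mul_mem (hcs _ hd) he), hPD _ hd, hPS _ he, hmul _ (hcs _ hd) _ he, hsN _ hd]
    · rw [mul_assoc, hPS _ (mul_mem hd he), hPS _ hd, hPD _ he, hmul _ hd _ he]
    · rw [show s * d * (s * e) = s * d * s * e by group, hPD _ (mul_mem (hcs _ hd) he), hPS _ hd,
        hPS _ he, hmul _ (hcs _ hd) _ he, hsN _ hd]
  let ψ : L →* ℤˣ := MonoidHom.mk' (fun g => if P g then 1 else -1) fun x y => by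
    have := hPmul x x.2 y y.2
    by_cases h1 : P x <;> by_cases h2 : P y <;> simp_all
  have hψ : ∀ x : L, ψ x = if P x then 1 else -1 := fun _ => rfl
  have hfix : ∀ x ∈ L, x * x = 1 → (P x ↔ ∃ y : Ω, x • y = y) := fun x hx h => by
    obtain ⟨d, hd, rfl | rfl⟩ := hcase x hx
    · rw [hPD _ hd]
      exact ⟨fun _ => ⟨a, hd.1⟩, fun _ => hzN _ hd h⟩
    · rw [hPS _ hd, hmem]; simp [hd]
  have hconj : ∀ x ∈ L, ∀ g : G, g * x * g⁻¹ ∈ L → (P (g * x * g⁻¹) ↔ P x) := fun x hx g hg => by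
    have e : g * x * g⁻¹ * (g * x * g⁻¹) = g * (x * x) * g⁻¹ := by group
    by_cases h : x * x = 1
    · rw [hfix x hx h, hfix _ hg (by rw [e, h]; simp)]
      refine ⟨fun ⟨y, hy⟩ => ⟨g⁻¹ • y, ?_⟩, fun ⟨y, hy⟩ => ⟨g • y, ?_⟩⟩
      · rw [mul_smul, mul_smul, smul_eq_iff_eq_inv_smul] at hy; exact hy
      · rw [mul_smul, mul_smul, inv_smul_smul, hy]
    · have hsq : ∀ y ∈ L, y * y ∈ D2 G a b := fun y hy =>
        Subgroup.mul_self_mem_of_index_two (hZ.index_norm hab hD) ⟨y, hy⟩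
      have hgL : g ∈ L := (hmL g).2 (hZ.conj_cases hab (hsq x hx) h (e ▸ hsq _ hg))
      have e1 := congrArg (fun t : ℤˣ => t = 1) (show ψ (⟨g, hgL⟩ * ⟨x, hx⟩ * ⟨g, hgL⟩⁻¹) = ψ ⟨x, hx⟩ by
        rw [map_mul, map_mul, map_inv, mul_inv_cancel_comm])
      simp only [hψ, ite_eq_left_iff] at e1
      simpa using e1
  have hfoc : L.focalSubgroupOf ≤ ψ.ker := by
    rw [Subgroup.focalSubgroupOf_eq_closure, Subgroup.closure_le]
    rintro y ⟨x, hx, u, hy⟩
    have h1 : u * x⁻¹ * u⁻¹ ∈ L := by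
      have := mul_mem (inv_mem hx) y.2
      rw [hy, commutatorElement_def] at this
      simpa [mul_assoc] using this
    have e : y = ⟨x, hx⟩ * ⟨_, h1⟩ := Subtype.ext (by
      rw [hy, commutatorElement_def]; simp [mul_assoc])
    have h4 : ψ ⟨_, h1⟩ = ψ ⟨x, hx⟩⁻¹ := by
      rw [hψ, hψ]
      exact if_congr (hconj _ (inv_mem hx) u h1) rfl rfl
    change ψ y = 1
    rw [e, map_mul, h4, ← map_mul, mul_inv_cancel, map_one]
  have hodd : Odd L.index := by
    have h1 := hZ.index_D hK hab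
    rw [← Subgroup.relIndex_mul_index (Subgroup.le_normalizer (H := D2 G a b))] at h1
    have h4 : (D2 G a b).relIndex L = 2 := hZ.index_norm hab hD
    rw [← hL, h4, hq, hm] at h1
    obtain ⟨k, rfl⟩ := hm2
    exact ⟨8 * k * k / 2 * 1 + 3 * k, by
      have : 8 * k * k / 2 = 4 * k * k := by
        rw [show 8 * k * k = 2 * (4 * k * k) by ring, Nat.mul_div_cancel_left _ (by decide)]
      rw [this]; nlinarith⟩
  obtain ⟨d, hd, hdN⟩ : ∃ d ∈ D2 G a b, d ∉ N := by
    by_contra h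
    push Not at h
    rw [Subgroup.relIndex_eq_one.2 h] at h2
    omega
  have hdL : d ∈ L := (hmL d).2 (Or.inl hd)
  refine ⟨(QuotientGroup.lift _ ψ hfoc).comp L.transferFocal, d, hd, ?_⟩
  rw [MonoidHom.comp_apply, show L.transferFocal d = _ from L.transferFocal_eq_pow ⟨d, hdL⟩, map_pow,
    QuotientGroup.lift_mk, hψ, if_neg (fun h => hdN ((hPD d hd).1 h)), hodd.neg_one_pow]
  decide

theorem not_simple (h3 : IsMultiplyPretransitive G Ω 3) (hab : b ≠ a)
    (he : Even (Nat.card (D2 G a b))) : ¬ IsSimpleGroup G := by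
  intro hG
  obtain ⟨φ, d, hd, h⟩ := hZ.exists_index_two h3 hab he
  rcases hG.eq_bot_or_eq_top_of_normal φ.ker inferInstance with h1 | h1
  · obtain ⟨s, hs, h2⟩ := hZ.exists_swap hab
    have h4 := (MonoidHom.ker_eq_bot_iff φ).1 h1
    have h5 : s ≠ 1 := fun e => hab (by rw [← hs.1, e, one_smul])
    have h6 : φ s ≠ 1 := fun e => h5 (h4 (e.trans φ.map_one.symm))
    have : s = d := h4 (by rw [Int.units_ne_iff_eq_neg.1 h6, Int.units_ne_iff_eq_neg.1 h])
    exact hab (by rw [← hs.1, this, hd.1])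
  · exact h (h1 ▸ Subgroup.mem_top d : d ∈ φ.ker)

end Z3

end H26
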