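import Cfsg.Agent.H26.ZS16
import Cfsg.Agent.H25.Prim

/-!
Doubly transitive groups with abelian kernel and a regular normal subgroup are semi-affine;
groups of degree `p + 1`.
-/

set_option autoImplicit false
set_option linter.unusedSectionVars false
set_option linter.style.haveILetI false

namespace H26

open MulAction Cfsg
open scoped MatrixGroups

theorem pgl_congr {F K : Type*} [CommRing F] [CommRing K] (e : F ≃+* K) :
    Nonempty (PGL(2, F) ≃* PGL(2, K)) :=
  ⟨MonoidHom.toMulEquiv (Matrix.ProjGenLinGroup.map e.toRingHom)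
    (Matrix.ProjGenLinGroup.map e.symm.toRingHom)
    (by rw [← Matrix.ProjGenLinGroup.map_comp, RingEquiv.symm_toRingHom_comp_toRingHom,
      Matrix.ProjGenLinGroup.map_id])
    (by rw [← Matrix.ProjGenLinGroup.map_comp, RingEquiv.toRingHom_comp_symm_toRingHom,
      Matrix.ProjGenLinGroup.map_id])⟩

theorem psl_congr' {F K : Type*} [CommRing F] [CommRing K] (e : F ≃+* K) :
    Nonempty (PSL(2, F) ≃* PSL(2, K)) := by
  let f : SL(2, F) ≃* SL(2, K) :=
    MonoidHom.toMulEquiv (Matrix.SpecialLinearGroup.map e.toRingHom)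
      (Matrix.SpecialLinearGroup.map e.symm.toRingHom) (by ext; simp) (by ext; simp)
  refine ⟨QuotientGroup.congr _ _ f (Subgroup.ext fun g => ?_)⟩
  refine (Subgroup.mem_map_equiv (f := f)).trans ?_
  rw [Subgroup.mem_center_iff, Subgroup.mem_center_iff]
  exact ⟨fun H a => f.symm.injective (by simpa using H (f.symm a)),
    fun H a => f.injective (by simpa using H (f a))⟩

theorem card_ringAut' {K : Type*} [Field K] [Fintype K] {p f : ℕ} (hp : p.Prime)
    (hK : Fintype.card K = p ^ f) : Nat.card (K ≃+* K) = f := by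
  haveI := Fact.mk hp
  haveI : CharP K p := by
    obtain ⟨n, h1, h2⟩ := FiniteField.card K (ringChar K)
    have h3 : ringChar K ∣ p ^ f := by rw [← hK, h2]; exact dvd_pow_self _ n.ne_zero
    have := (Nat.prime_dvd_prime_iff_eq h1 hp).1 (h1.dvd_of_dvd_pow h3)
    rw [← this]; infer_instance
  letI := ZMod.algebra K p
  have h1 : Module.finrank (ZMod p) K = f := by
    have := Module.card_eq_pow_finrank (K := ZMod p) (V := K)
    rw [hK, ZMod.card] at this
    exact (Nat.pow_right_injective hp.two_le this).symm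
  let e : (K ≃ₐ[ZMod p] K) ≃ (K ≃+* K) :=
    { toFun := fun a => a.toRingEquiv
      invFun := fun a => AlgEquiv.ofRingEquiv (f := a) fun x =>
        RingHom.congr_fun (Subsingleton.elim ((a : K →+* K).comp (algebraMap _ _))
          (algebraMap _ _)) x
      left_inv := fun _ => rfl
      right_inv := fun _ => rfl }
  rw [← Nat.card_congr e, IsGalois.card_aut_eq_finrank, h1]

theorem Z3.affine {G Ω : Type*} [Group G] [MulAction G Ω] (hZ : Z3 G Ω) {a b : Ω} {H : Subgroup G}
    [Finite G] [Finite Ω] (hK : Ker a H) (hab : b ≠ a) (hc : IsMulCommutative H) (N : Subgroup G)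
    [hn : N.Normal] (hNt : IsPretransitive N Ω) (hNr : ∀ a : Ω, stabilizer N a = ⊥) :
    ∃ (K : Type) (_ : Field K) (_ : Fintype K) (e : K ≃ Ω), Nat.card (D2 G a b) ∣ Nat.card (K ≃+* K) ∧
      ∀ g : G, ∃ (c : Kˣ) (t : K) (α : K ≃+* K), ∀ x, g • e x = e (c * α x + t) := by
  haveI : Nontrivial Ω := ⟨⟨b, a, hab⟩⟩
  haveI := hZ.faith
  obtain ⟨p, j, -, -, -, hcomm, -⟩ := H25.elemAb_of_regular_normal hZ.two_trans N hNt hNr
  haveI : IsMulCommutative N := ⟨⟨fun x y => Subtype.ext (hcomm x x.2 y y.2)⟩⟩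
  have hreg : ∀ x ∈ N, ∀ y ∈ N, x • a = y • a → x = y := fun x hx y hy h => by
    have : (⟨y⁻¹ * x, N.mul_mem (N.inv_mem hy) hx⟩ : N) ∈ stabilizer N a := by
      change (y⁻¹ * x) • a = a
      rw [mul_smul, h, inv_smul_smul]
    rw [hNr a, Subgroup.mem_bot] at this
    exact (inv_mul_eq_one.1 (congrArg Subtype.val this)).symm
  have htr : ∀ c : Ω, ∃ n ∈ N, n • a = c := fun c =>
    let ⟨n, h⟩ := hNt.exists_smul_eq a c; ⟨n, n.2, h⟩
  have hN0 : N ≠ ⊥ := by
    rintro rfl
    obtain ⟨n, h1, h2⟩ := htr b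
    rw [Subgroup.mem_bot.1 h1, one_smul] at h2
    exact hab h2.symm
  obtain ⟨K, _, _, τ, χ, h, hgen⟩ := H26.exists_coord (H := N) (A := H) hN0
    (fun x hx y hy u _ => by
      rw [show x * y = y * x from congrArg Subtype.val (hc.is_comm.comm (⟨x, hx⟩ : H) ⟨y, hy⟩)])
    (by rw [Subgroup.normalizer_eq_top]; exact le_top) (fun C h1 h2 => by
      by_cases h3 : C = ⊥
      · exact Or.inl h3
      refine Or.inr (le_antisymm h1 fun n hn' => ?_)
      by_cases h4 : n = 1
      · rw [h4]; exact one_mem _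
      obtain ⟨⟨m, hm⟩, hm1⟩ := Subgroup.ne_bot_iff_exists_ne_one.1 h3
      have h5 : m • a ≠ a := fun e => hm1 (Subtype.ext (hreg m (h1 hm) 1 N.one_mem (by simpa using e)))
      have h6 : n • a ≠ a := fun e => h4 (hreg n hn' 1 N.one_mem (by simpa using e))
      obtain ⟨u, hu, h7⟩ := hK.trans _ _ h5 h6
      rw [← hreg _ (hn.conj_mem m (h1 hm) u) n hn' (by
        rw [mul_smul, mul_smul, inv_fix (hK.fix u hu), h7])]
      exact (Subgroup.mem_normalizer_iff.1 (h2 hu) m).1 hm)
  let e : K ≃ Ω := Equiv.ofBijective (fun x => τ x • a)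
    ⟨fun x y e => h.inj (hreg _ (h.mem' x) _ (h.mem' y) e), fun c => by
      obtain ⟨n, h1, h2⟩ := htr c
      obtain ⟨x, rfl⟩ := (h.mem n).1 h1
      exact ⟨x, h2⟩⟩
  have he : ∀ x, e x = τ x • a := fun _ => rfl
  have key : ∀ g : G, g • a = a → ∃ (c : Kˣ) (α : K ≃+* K), ∀ x, g * τ x * g⁻¹ = τ (c * α x) := by
    intro g hg
    obtain ⟨α, c, h1, -⟩ := h.semilin hgen (fun u hu => hn.conj_mem u hu g) (hK.conj g hg)
    have hc0 : c ≠ 0 := fun e => by
      have := h1 1
      rw [e, zero_mul, h.zero, mul_inv_eq_one, mul_eq_left, h.eq_one] at this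
      exact one_ne_zero this
    exact ⟨Units.mk0 c hc0, RingEquiv.ofBijective α (Finite.injective_iff_bijective.1 α.injective), h1⟩
  refine ⟨K, inferInstance, inferInstance, e, ?_, fun g => ?_⟩
  · choose c α hα using fun d : D2 G a b => key d d.2.1
    have huniq : ∀ (c c' : Kˣ) (α α' : K ≃+* K), (∀ x, (c : K) * α x = c' * α' x) → α = α' := by
      intro c c' α α' h
      have h1 := h 1
      rw [map_one, map_one, mul_one, mul_one] at h1
      ext x
      exact mul_left_cancel₀ c.ne_zero (by rw [h, h1])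
    let Φ : D2 G a b →* (K ≃+* K) := MonoidHom.mk' α fun d d' =>
      huniq (c (d * d')) (c d * Units.map (α d : K →* K) (c d')) _ _ fun x => h.inj (by
        rw [← hα]
        calc _ = (d : G) * (d' * τ x * (d' : G)⁻¹) * (d : G)⁻¹ := by
              rw [Subgroup.coe_mul]; group
          _ = _ := by rw [hα, hα]; congr 1; simp [mul_assoc])
    refine Subgroup.card_dvd_of_injective Φ ((injective_iff_map_eq_one Φ).2 fun d hd => ?_)
    have h1 : ∀ x, (d : G) * τ x * (d : G)⁻¹ = τ (c d * x) := fun x => by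
      rw [hα, show α d = 1 from hd]; rfl
    have h2 : ∀ x, (d : G) • e x = e (c d * x) := fun x => by
      rw [he, he, ← h1, mul_smul, mul_smul, inv_fix d.2.1]
    obtain ⟨y, hy⟩ := e.surjective b
    have hy0 : y ≠ 0 := by rintro rfl; rw [he, h.zero, one_smul] at hy; exact hab hy.symm
    have h3 := h2 y
    rw [hy, d.2.2, ← hy] at h3
    have h4 : (c d : K) = 1 := mul_right_cancel₀ hy0 (by rw [one_mul]; exact (e.injective h3).symm)
    refine Subtype.ext (hZ.eq_one_of_smul fun x => ?_)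
    obtain ⟨x, rfl⟩ := e.surjective x
    rw [h2, h4, one_mul]
  · obtain ⟨n, h1, h2⟩ := htr (g • a)
    obtain ⟨t, rfl⟩ := (h.mem n).1 h1
    have h3 : ((τ t)⁻¹ * g) • a = a := by rw [mul_smul, ← h2, inv_smul_smul]
    obtain ⟨c, α, h4⟩ := key _ h3
    refine ⟨c, t, α, fun x => ?_⟩
    rw [he, he, add_comm, h.add, ← h4, mul_smul, mul_smul, mul_smul, inv_fix h3, mul_smul,
      smul_inv_smul]

theorem exists_ker_prime {G Ω : Type*} [Group G] [MulAction G Ω] [Finite G] [Finite Ω]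
    [FaithfulSMul G Ω] [IsPretransitive G Ω] {p d : ℕ} (hp : p.Prime) (hΩ : Nat.card Ω = p + 1)
    (hG : Nat.card G = (p + 1) * p * d) (hd : d < p) (a : Ω) :
    ∃ H : Subgroup G, Ker a H ∧ Nat.card H = p := by
  haveI := Fact.mk hp
  have h1 : Nat.card (stabilizer G a) = p * d := by
    have := (stabilizer G a).index_mul_card
    rw [index_stabilizer_of_transitive, hΩ, hG, mul_assoc] at this
    exact Nat.eq_of_mul_eq_mul_left (by omega) this
  have hd0 : 0 < d := Nat.pos_of_mul_pos_left (h1 ▸ Nat.card_pos) |> fun h => h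
  obtain ⟨P⟩ : Nonempty (Sylow p (stabilizer G a)) := inferInstance
  have hP : Nat.card P = p := by
    rw [P.card_eq_multiplicity, h1, Nat.factorization_mul hp.ne_zero hd0.ne', Finsupp.add_apply,
      hp.factorization_self, Nat.factorization_eq_zero_of_lt hd, add_zero, pow_one]
  have hi : (P : Subgroup (stabilizer G a)).index = d := by
    have := (P : Subgroup (stabilizer G a)).card_mul_index
    rw [h1, hP] at this
    exact Nat.eq_of_mul_eq_mul_left hp.pos this
  have h2 : Nat.card (Sylow p (stabilizer G a)) = 1 := by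
    have h3 := Nat.le_of_dvd hd0 (hi ▸ P.card_dvd_index)
    have h4 := card_sylow_modEq_one p (stabilizer G a)
    exact Nat.ModEq.eq_of_lt_of_lt h4 (by omega) hp.one_lt
  haveI : Subsingleton (Sylow p (stabilizer G a)) := (Nat.card_eq_one_iff_unique.1 h2).1
  have hn : (P : Subgroup (stabilizer G a)).Normal := P.normal_of_subsingleton
  set H := (P : Subgroup (stabilizer G a)).map (stabilizer G a).subtype with hH
  have hcH : Nat.card H = p := by
    rw [hH, Subgroup.card_map_of_injective (stabilizer G a).subtype_injective, hP]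
  have hfix : ∀ u ∈ H, u • a = a := fun u hu => Subgroup.map_subtype_le _ hu
  have horb : ∀ c : Ω, stabilizer H c = ⊥ → (orbit H c).ncard = p := fun c h => by
    rw [← hcH, ← index_stabilizer, h, Subgroup.index_bot]
  have hsub : ∀ c : Ω, c ≠ a → orbit H c ⊆ {a}ᶜ := by
    rintro c hc _ ⟨u, rfl⟩
    exact smul_ne_of_fix (hfix u u.2) hc
  have hca : ({a}ᶜ : Set Ω).ncard = p := by
    rw [Set.ncard_compl, hΩ, Set.ncard_singleton]; rfl
  haveI : Fact (Nat.card H).Prime := ⟨hcH ▸ hp⟩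
  obtain ⟨c, hc, h4⟩ : ∃ c : Ω, c ≠ a ∧ stabilizer H c = ⊥ := by
    by_contra h
    push Not at h
    have : H = ⊥ := eq_bot_iff.2 fun u hu => eq_of_smul_eq_smul (α := Ω) fun x => by
      rw [one_smul]
      by_cases hx : x = a
      · rw [hx, hfix u hu]
      · have := ((stabilizer H x).eq_bot_or_eq_top_of_prime_card).resolve_left (h x hx)
        exact (this ▸ Subgroup.mem_top (⟨u, hu⟩ : H) : (⟨u, hu⟩ : H) ∈ stabilizer H x)
    rw [this, Subgroup.card_bot] at hcH
    exact hp.one_lt.ne hcH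
  have h5 : orbit H c = {a}ᶜ := Set.eq_of_subset_of_ncard_le (hsub c hc) (by rw [hca, horb c h4])
  have h6 : ∀ x, x ≠ a → ∃ u ∈ H, u • c = x := fun x hx =>
    let ⟨u, hu⟩ := (h5 ▸ hx : x ∈ orbit H c); ⟨u, u.2, hu⟩
  refine ⟨H, ⟨hfix, ?_, fun u hu x hx h => ?_, fun x y hx hy => ?_⟩, hcH⟩
  · rintro g hg _ ⟨u, hu, rfl⟩
    exact ⟨_, hn.conj_mem u hu ⟨g, hg⟩, rfl⟩
  · obtain ⟨v, hv, rfl⟩ := h6 x hx
    have : (⟨v⁻¹ * u * v, mul_mem (mul_mem (inv_mem hv) hu) hv⟩ : H) ∈ stabilizer H c := by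
      change (v⁻¹ * u * v) • c = c
      rw [mul_smul, mul_smul, h, inv_smul_smul]
    rw [h4, Subgroup.mem_bot] at this
    have h7 : v⁻¹ * u * v = 1 := congrArg Subtype.val this
    simpa [mul_assoc, mul_eq_one_iff_eq_inv, inv_mul_eq_iff_eq_mul] using h7
  · obtain ⟨v, hv, rfl⟩ := h6 x hx
    obtain ⟨w, hw, rfl⟩ := h6 y hy
    exact ⟨w * v⁻¹, mul_mem hw (inv_mem hv), by rw [mul_smul, inv_smul_smul]⟩

theorem z3_of_ker_prime {G Ω : Type*} [Group G] [MulAction G Ω] [Finite G]
    [FaithfulSMul G Ω] [IsPretransitive G Ω] {p : ℕ} (hp : p.Prime)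
    (h : ∀ a : Ω, ∃ H : Subgroup G, Ker a H ∧ Nat.card H = p) : Z3 G Ω := by
  refine ⟨inferInstance, is_two_pretransitive_iff.2 fun {a b c d} hab hcd => ?_,
    fun g a b c hab hbc hac ha hb hc => ?_⟩
  · obtain ⟨g, rfl⟩ := exists_smul_eq G a c
    obtain ⟨H, hK, -⟩ := h (g • a)
    obtain ⟨u, hu, h1⟩ := hK.trans (g • b) d (fun e => hab (smul_left_cancel g e).symm) hcd.symm
    exact ⟨u * g, by rw [mul_smul, hK.fix u hu], by rw [mul_smul, h1]⟩
  · obtain ⟨H, hK, hH⟩ := h a
    obtain ⟨u, hu, h1⟩ := hK.trans b c hab.symm hac.symm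
    have h2 : g * u * g⁻¹ = u := hK.eq_of_smul_eq (hK.conj g ha u hu) hu hab.symm (by
      rw [mul_smul, mul_smul, inv_fix hb, h1, hc])
    haveI : Fact (Nat.card H).Prime := ⟨hH ▸ hp⟩
    have h3 := ((Subgroup.zpowers (⟨u, hu⟩ : H)).eq_bot_or_eq_top_of_prime_card).resolve_left
      fun e => hbc (by
        rw [Subgroup.zpowers_eq_bot] at e
        rw [← h1, show u = 1 from congrArg Subtype.val e, one_smul])
    refine eq_of_smul_eq_smul (α := Ω) fun x => ?_
    rw [one_smul]
    by_cases hx : x = a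
    · rw [hx, ha]
    obtain ⟨v, hv, rfl⟩ := hK.trans b x hab.symm hx
    obtain ⟨k, hk⟩ := (h3 ▸ Subgroup.mem_top (⟨v, hv⟩ : H) : _ ∈ Subgroup.zpowers (⟨u, hu⟩ : H))
    have h4 : u ^ k = v := by simpa using congrArg Subtype.val hk
    have h5 : Commute g u := mul_inv_eq_iff_eq_mul.1 h2
    rw [← mul_smul, ← h4, (h5.zpow_right k).eq, mul_smul, hb]

end H26
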